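/-
A non-degenerate symmetric matrix on one factor: rank one maps, adjoints, Siegel elements, hyperbolic pairs.
-/
import Cfsg.Agent.Lib.ClassicalMax.TWreath.SpRoot
import Cfsg.Agent.Lib.ClassicalMax.QuadSim
set_option autoImplicit false
set_option linter.unusedSectionVars false
set_option linter.unusedVariables false
set_option linter.unusedSimpArgs false

namespace CfsgLib.ClassicalMax.OWr

open Matrix Cfsg.Geo QuadraticMap
open CfsgLib.ClassicalMax.TWreath
open CfsgLib.Classical.Quad (NDPolar)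

/-- A non-degenerate symmetric matrix in odd characteristic and dimension at least three. -/
structure Sym (F : Type*) [Field F] (k : ℕ) where
  G : Matrix (Fin k) (Fin k) F
  Gi : Matrix (Fin k) (Fin k) F
  sym : Gᵀ = G
  Gi_mul : Gi * G = 1
  two : (2 : F) ≠ 0
  three_le : 3 ≤ k

variable {F : Type*} [Field F] {k t : ℕ}

namespace Sym

variable (S : Sym F k)

lemma mul_Gi : S.G * S.Gi = 1 := mul_eq_one_comm.1 S.Gi_mul

lemma Gi_sym : S.Giᵀ = S.Gi := by
  have h1 : S.G * S.Giᵀ = 1 := by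
    rw [← S.sym, ← Matrix.transpose_mul, S.Gi_mul, Matrix.transpose_one]
  calc S.Giᵀ = S.Gi * (S.G * S.Giᵀ) := by rw [← mul_assoc, S.Gi_mul, one_mul]
    _ = S.Gi := by rw [h1, mul_one]

/-- The pairing. -/
def bb (x w : Fin k → F) : F := (S.G *ᵥ w) ⬝ᵥ x

lemma vecMul_G (w : Fin k → F) : w ᵥ* S.G = S.G *ᵥ w := by rw [← Matrix.mulVec_transpose, S.sym]

lemma bb_comm (x w : Fin k → F) : S.bb x w = S.bb w x := by
  rw [bb, bb, dotProduct_comm, Matrix.dotProduct_mulVec, S.vecMul_G]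

lemma bb_add_left (x y w : Fin k → F) : S.bb (x + y) w = S.bb x w + S.bb y w := dotProduct_add _ _ _

lemma bb_smul_left (c : F) (x w : Fin k → F) : S.bb (c • x) w = c * S.bb x w := dotProduct_smul _ _ _

lemma bb_sub_left (x y w : Fin k → F) : S.bb (x - y) w = S.bb x w - S.bb y w := dotProduct_sub _ _ _

lemma bb_neg_left (x w : Fin k → F) : S.bb (-x) w = -S.bb x w := dotProduct_neg _ _

lemma bb_zero_left (w : Fin k → F) : S.bb 0 w = 0 := dotProduct_zero _

lemma bb_add_right (x v w : Fin k → F) : S.bb x (v + w) = S.bb x v + S.bb x w := by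
  rw [S.bb_comm, S.bb_add_left, S.bb_comm v, S.bb_comm w]

lemma bb_smul_right (c : F) (x w : Fin k → F) : S.bb x (c • w) = c * S.bb x w := by
  rw [S.bb_comm, S.bb_smul_left, S.bb_comm w]

lemma bb_sub_right (x v w : Fin k → F) : S.bb x (v - w) = S.bb x v - S.bb x w := by
  rw [S.bb_comm, S.bb_sub_left, S.bb_comm v, S.bb_comm w]

lemma bb_neg_right (x w : Fin k → F) : S.bb x (-w) = -S.bb x w := by
  rw [S.bb_comm, S.bb_neg_left, S.bb_comm w]

lemma bb_zero_right (x : Fin k → F) : S.bb x 0 = 0 := by rw [S.bb_comm, S.bb_zero_left]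

lemma mulVec_G_surj (φ : Fin k → F) : ∃ z, S.G *ᵥ z = φ :=
  ⟨S.Gi *ᵥ φ, by rw [Matrix.mulVec_mulVec, S.mul_Gi, Matrix.one_mulVec]⟩

lemma exists_bb_one {u : Fin k → F} (hu : u ≠ 0) : ∃ v, S.bb v u = 1 := by
  obtain ⟨η, hη⟩ := exists_dual (v := S.G *ᵥ u) fun h => hu (by
    have := congrArg (fun x => S.Gi *ᵥ x) h
    simpa [Matrix.mulVec_mulVec, S.Gi_mul] using this)
  exact ⟨η, by rw [bb, dotProduct_comm, hη]⟩

lemma eq_zero_of_bb {u : Fin k → F} (h : ∀ v, S.bb v u = 0) : u = 0 := by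
  by_contra hu
  obtain ⟨v, hv⟩ := S.exists_bb_one hu
  exact one_ne_zero (hv.symm.trans (h v))

/-- The value of the quadratic form. -/
def Q (x : Fin k → F) : F := (2 : F)⁻¹ * S.bb x x

lemma bb_self (x : Fin k → F) : S.bb x x = 2 * S.Q x := by
  rw [Q, ← mul_assoc, mul_inv_cancel₀ S.two, one_mul]

lemma Q_eq_zero_iff (x : Fin k → F) : S.Q x = 0 ↔ S.bb x x = 0 := by
  rw [S.bb_self, mul_eq_zero, or_iff_right S.two]

lemma Q_smul (c : F) (x : Fin k → F) : S.Q (c • x) = c * c * S.Q x := by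
  rw [Q, Q, bb_smul_left, bb_smul_right]; ring

lemma Q_add (x y : Fin k → F) : S.Q (x + y) = S.Q x + S.Q y + S.bb x y := by
  rw [Q, Q, Q, bb_add_left, bb_add_right, bb_add_right, S.bb_comm y x]
  field_simp [S.two]
  ring

lemma Q_neg (x : Fin k → F) : S.Q (-x) = S.Q x := by rw [Q, Q, bb_neg_left, bb_neg_right, neg_neg]

lemma Q_zero : S.Q 0 = 0 := by rw [Q, bb_zero_left, mul_zero]

/-- The quadratic form. -/
noncomputable def qf : QuadraticForm F (Fin k → F) :=
  LinearMap.BilinMap.toQuadraticMap (LinearMap.mk₂ F (fun x y => (2 : F)⁻¹ * S.bb x y)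
    (fun x y z => by rw [bb_add_left, mul_add]) (fun c x y => by rw [bb_smul_left, smul_eq_mul]; ring)
    (fun x y z => by rw [bb_add_right, mul_add]) (fun c x y => by rw [bb_smul_right, smul_eq_mul]; ring))

lemma qf_apply (x : Fin k → F) : S.qf x = S.Q x := rfl

lemma polar_qf (x y : Fin k → F) : polar S.qf x y = S.bb x y := by
  rw [polar, qf_apply, qf_apply, qf_apply, Q_add]; ring

lemma nd_qf : NDPolar S.qf := fun x hx =>
  S.eq_zero_of_bb fun v => by rw [← S.polar_qf, polar_comm]; exact hx v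

/-! ### Rank one maps and adjoints -/

/-- The map `x ↦ β(x, b) a`. -/
def op (a b : Fin k → F) : Matrix (Fin k) (Fin k) F := Matrix.vecMulVec a (S.G *ᵥ b)

lemma op_mulVec (a b x : Fin k → F) : S.op a b *ᵥ x = S.bb x b • a := by
  rw [op, Matrix.vecMulVec_mulVec, op_smul_eq_smul]; rfl

lemma op_mul (a b c d : Fin k → F) : S.op a b * S.op c d = S.bb c b • S.op a d := by
  rw [op, op, Matrix.vecMulVec_mul_vecMulVec, Matrix.vecMulVec_smul]; rfl

lemma op_add_left (a a' b : Fin k → F) : S.op (a + a') b = S.op a b + S.op a' b :=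
  Matrix.add_vecMulVec _ _ _

lemma op_add_right (a b b' : Fin k → F) : S.op a (b + b') = S.op a b + S.op a b' := by
  rw [op, Matrix.mulVec_add, Matrix.vecMulVec_add]; rfl

lemma op_smul_left (c : F) (a b : Fin k → F) : S.op (c • a) b = c • S.op a b :=
  Matrix.smul_vecMulVec _ _ _

lemma op_smul_right (c : F) (a b : Fin k → F) : S.op a (c • b) = c • S.op a b := by
  rw [op, Matrix.mulVec_smul, Matrix.vecMulVec_smul]; rfl

lemma op_zero_left (b : Fin k → F) : S.op 0 b = 0 := by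
  rw [← zero_smul F (0 : Fin k → F), op_smul_left, zero_smul]

lemma op_zero_right (a : Fin k → F) : S.op a 0 = 0 := by
  rw [← zero_smul F (0 : Fin k → F), op_smul_right, zero_smul]

/-- The adjoint of one factor. -/
def adj (A : Matrix (Fin k) (Fin k) F) : Matrix (Fin k) (Fin k) F := S.Gi * Aᵀ * S.G

lemma adj_add (A B : Matrix (Fin k) (Fin k) F) : S.adj (A + B) = S.adj A + S.adj B := by
  simp [adj, mul_add, add_mul]

lemma adj_smul (c : F) (A : Matrix (Fin k) (Fin k) F) : S.adj (c • A) = c • S.adj A := by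
  simp [adj, smul_mul_assoc, mul_smul_comm]

lemma adj_neg (A : Matrix (Fin k) (Fin k) F) : S.adj (-A) = -S.adj A := by
  rw [← neg_one_smul F A, adj_smul, neg_one_smul]

lemma adj_sub (A B : Matrix (Fin k) (Fin k) F) : S.adj (A - B) = S.adj A - S.adj B := by
  rw [sub_eq_add_neg, adj_add, adj_neg, sub_eq_add_neg]

lemma adj_one : S.adj 1 = 1 := by simp [adj, S.Gi_mul]

lemma adj_zero : S.adj 0 = 0 := by simp [adj]

lemma adj_mul (A B : Matrix (Fin k) (Fin k) F) : S.adj (A * B) = S.adj B * S.adj A := by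
  simp only [adj, Matrix.transpose_mul, mul_assoc]
  rw [← mul_assoc S.G S.Gi, S.mul_Gi, one_mul]

lemma adj_adj (A : Matrix (Fin k) (Fin k) F) : S.adj (S.adj A) = A := by
  simp only [adj, Matrix.transpose_mul, Matrix.transpose_transpose, S.sym, S.Gi_sym, mul_assoc]
  rw [S.Gi_mul, mul_one, ← mul_assoc, S.Gi_mul, one_mul]

lemma bb_adj (A : Matrix (Fin k) (Fin k) F) (x z : Fin k → F) :
    S.bb (A *ᵥ x) z = S.bb x (S.adj A *ᵥ z) := by
  rw [bb, bb, adj, ← Matrix.mulVec_mulVec, ← Matrix.mulVec_mulVec, Matrix.mulVec_mulVec _ S.G S.Gi,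
    S.mul_Gi, Matrix.one_mulVec, Matrix.dotProduct_mulVec, Matrix.mulVec_transpose]

lemma bb_iso {A : Matrix (Fin k) (Fin k) F} (hA : S.adj A * A = 1) (x z : Fin k → F) :
    S.bb (A *ᵥ x) (A *ᵥ z) = S.bb x z := by
  rw [S.bb_adj, Matrix.mulVec_mulVec, hA, Matrix.one_mulVec]

lemma adj_op (a b : Fin k → F) : S.adj (S.op a b) = S.op b a := by
  rw [adj, op, Matrix.transpose_vecMulVec, Matrix.mul_vecMulVec, Matrix.vecMulVec_mul,
    Matrix.mulVec_mulVec, S.Gi_mul, Matrix.one_mulVec, S.vecMul_G]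
  rfl

lemma mul_op (A : Matrix (Fin k) (Fin k) F) (a b : Fin k → F) : A * S.op a b = S.op (A *ᵥ a) b :=
  Matrix.mul_vecMulVec _ _ _

lemma op_mul_mat (A : Matrix (Fin k) (Fin k) F) (a b : Fin k → F) :
    S.op a b * A = S.op a (S.adj A *ᵥ b) := by
  have h := S.mul_op (S.adj A) b a
  apply_fun S.adj at h
  rwa [adj_mul, adj_adj, adj_op, adj_op] at h

/-- The skew map of two vectors. -/
def N (e w : Fin k → F) : Matrix (Fin k) (Fin k) F := S.op w e - S.op e w

/-- The square zero map of a singular vector. -/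
def P (e : Fin k → F) : Matrix (Fin k) (Fin k) F := S.op e e

lemma adj_N (e w : Fin k → F) : S.adj (S.N e w) = -S.N e w := by
  rw [N, adj_sub, adj_op, adj_op, neg_sub]

lemma adj_P (e : Fin k → F) : S.adj (S.P e) = S.P e := S.adj_op e e

lemma N_mulVec (e w x : Fin k → F) : S.N e w *ᵥ x = S.bb x e • w - S.bb x w • e := by
  rw [N, Matrix.sub_mulVec, op_mulVec, op_mulVec]

lemma P_mulVec (e x : Fin k → F) : S.P e *ᵥ x = S.bb x e • e := S.op_mulVec _ _ _

lemma N_add (e w w' : Fin k → F) : S.N e (w + w') = S.N e w + S.N e w' := by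
  rw [N, N, N, op_add_left, op_add_right]; abel

lemma N_smul (e : Fin k → F) (c : F) (w : Fin k → F) : S.N e (c • w) = c • S.N e w := by
  rw [N, N, op_smul_left, op_smul_right, smul_sub]

lemma N_neg (e w : Fin k → F) : S.N e (-w) = -S.N e w := by
  rw [← neg_one_smul F w, N_smul, neg_one_smul]

lemma N_zero (e : Fin k → F) : S.N e 0 = 0 := by
  rw [N, op_zero_left, op_zero_right, sub_self]

lemma N_self (e : Fin k → F) : S.N e e = 0 := sub_self _

lemma N_swap (e w : Fin k → F) : S.N w e = -S.N e w := by rw [N, N, neg_sub]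

lemma conj_op {A A' : Matrix (Fin k) (Fin k) F} (hA : S.adj A' = A) (a b : Fin k → F) :
    A * S.op a b * A' = S.op (A *ᵥ a) (A *ᵥ b) := by
  rw [mul_op, op_mul_mat, hA]

lemma conj_N {A A' : Matrix (Fin k) (Fin k) F} (hA : S.adj A' = A) (e w : Fin k → F) :
    A * S.N e w * A' = S.N (A *ᵥ e) (A *ᵥ w) := by
  rw [N, N, mul_sub, sub_mul, S.conj_op hA, S.conj_op hA]

lemma conj_P {A A' : Matrix (Fin k) (Fin k) F} (hA : S.adj A' = A) (e : Fin k → F) :
    A * S.P e * A' = S.P (A *ᵥ e) := S.conj_op hA e e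

/-! ### Siegel elements -/

section Siegel

variable {e : Fin k → F} (he : S.bb e e = 0)
include he

lemma P_mul_P : S.P e * S.P e = 0 := by rw [P, op_mul, he, zero_smul]

variable {w w' : Fin k → F} (hw : S.bb e w = 0) (hw' : S.bb e w' = 0)
include hw

lemma P_mul_N : S.P e * S.N e w = 0 := by
  rw [P, N, mul_sub, op_mul, op_mul, S.bb_comm w e, hw, he, zero_smul, zero_smul, sub_zero]

lemma N_mul_P : S.N e w * S.P e = 0 := by
  rw [P, N, sub_mul, op_mul, op_mul, he, hw, zero_smul, zero_smul, sub_zero]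

include hw'

lemma N_mul_N : S.N e w * S.N e w' = (-S.bb w w') • S.P e := by
  rw [N, N, mul_sub, sub_mul, sub_mul, op_mul, op_mul, op_mul, op_mul, S.bb_comm w' e, hw', he, hw,
    S.bb_comm w' w, P]
  module

lemma N_mul_comm : S.N e w * S.N e w' = S.N e w' * S.N e w := by
  rw [S.N_mul_N he hw hw', S.N_mul_N he hw' hw, S.bb_comm]

end Siegel

/-- The Siegel element. -/
def z (e w : Fin k → F) : Matrix (Fin k) (Fin k) F := 1 + S.N e w - S.Q w • S.P e

lemma z_mulVec (e w x : Fin k → F) :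
    S.z e w *ᵥ x = x + S.bb x e • w + (-(S.bb x w) - S.Q w * S.bb x e) • e := by
  rw [z, Matrix.sub_mulVec, Matrix.add_mulVec, Matrix.one_mulVec, N_mulVec, Matrix.smul_mulVec, P_mulVec]
  module

lemma z_zero (e : Fin k → F) : S.z e 0 = 1 := by rw [z, N_zero, Q_zero, zero_smul, add_zero, sub_zero]

lemma adj_z (e w : Fin k → F) : S.adj (S.z e w) = S.z e (-w) := by
  rw [z, z, adj_sub, adj_add, adj_one, adj_smul, adj_N, adj_P, N_neg, Q_neg]

lemma z_mul {e w w' : Fin k → F} (he : S.bb e e = 0) (hw : S.bb e w = 0) (hw' : S.bb e w' = 0) :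
    S.z e w * S.z e w' = S.z e (w + w') := by
  simp only [z, add_mul, sub_mul, mul_add, mul_sub, one_mul, mul_one, smul_mul_assoc, mul_smul_comm,
    S.P_mul_P he, S.P_mul_N he hw', S.N_mul_P he hw, S.N_mul_N he hw hw', N_add, Q_add, smul_zero]
  module

lemma z_inv {e w : Fin k → F} (he : S.bb e e = 0) (hw : S.bb e w = 0) : S.z e w * S.z e (-w) = 1 := by
  rw [S.z_mul he hw (by rw [bb_neg_right, hw, neg_zero]), add_neg_cancel, z_zero]

lemma z_iso {e w : Fin k → F} (he : S.bb e e = 0) (hw : S.bb e w = 0) :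
    S.adj (S.z e w) * S.z e w = 1 := by
  rw [adj_z]
  simpa using S.z_inv he (w := -w) (by rw [bb_neg_right, hw, neg_zero])

/-! ### Hyperbolic pairs -/

/-- A hyperbolic pair. -/
structure Pr where
  e : Fin k → F
  f : Fin k → F
  he : S.bb e e = 0
  hf : S.bb f f = 0
  h1 : S.bb e f = 1

variable {S} (p : S.Pr)

lemma Pr.h1' : S.bb p.f p.e = 1 := by rw [S.bb_comm]; exact p.h1

lemma Pr.e_ne : p.e ≠ 0 := fun h => by simpa [h, S.bb_zero_left] using p.h1

lemma Pr.f_ne : p.f ≠ 0 := fun h => by simpa [h, S.bb_zero_right] using p.h1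

/-- Orthogonality to the pair. -/
def Pr.InW (x : Fin k → F) : Prop := S.bb p.e x = 0 ∧ S.bb p.f x = 0

/-- The opposite pair. -/
def Pr.swap : S.Pr := ⟨p.f, p.e, p.hf, p.he, p.h1'⟩

lemma Pr.InW.smul {p : S.Pr} {x : Fin k → F} (h : p.InW x) (c : F) : p.InW (c • x) :=
  ⟨by rw [S.bb_smul_right, h.1, mul_zero], by rw [S.bb_smul_right, h.2, mul_zero]⟩

lemma Pr.InW.add {p : S.Pr} {x y : Fin k → F} (h : p.InW x) (h' : p.InW y) : p.InW (x + y) :=
  ⟨by rw [S.bb_add_right, h.1, h'.1, add_zero], by rw [S.bb_add_right, h.2, h'.2, add_zero]⟩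

lemma Pr.InW.neg {p : S.Pr} {x : Fin k → F} (h : p.InW x) : p.InW (-x) :=
  ⟨by rw [S.bb_neg_right, h.1, neg_zero], by rw [S.bb_neg_right, h.2, neg_zero]⟩

lemma Pr.InW.swap {p : S.Pr} {x : Fin k → F} (h : p.InW x) : p.swap.InW x := ⟨h.2, h.1⟩

/-- The projection away from the pair. -/
def Pr.pr (x : Fin k → F) : Fin k → F := x - S.bb x p.f • p.e - S.bb x p.e • p.f

lemma Pr.pr_mem (x : Fin k → F) : p.InW (p.pr x) := by
  constructor <;>
    simp [Pr.pr, S.bb_sub_right, S.bb_smul_right, p.he, p.hf, p.h1, p.h1', S.bb_comm p.e x, S.bb_comm p.f x]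

lemma Pr.eq_pr_add (x : Fin k → F) : x = p.pr x + S.bb x p.f • p.e + S.bb x p.e • p.f := by
  simp only [Pr.pr]; abel

variable [Fintype F]

lemma exists_pr_of {e : Fin k → F} (he : S.bb e e = 0) (he0 : e ≠ 0) : ∃ p : S.Pr, p.e = e := by
  obtain ⟨v, hv⟩ := S.exists_bb_one he0
  refine ⟨⟨e, v + (-(S.Q v)) • e, he, ?_, ?_⟩, rfl⟩
  · rw [S.bb_add_left, S.bb_smul_left, S.bb_add_right, S.bb_add_right, S.bb_smul_right, S.bb_smul_right,
      S.bb_comm e v, hv, he, S.bb_self]
    ring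
  · rw [S.bb_add_right, S.bb_smul_right, S.bb_comm e v, hv, he, mul_zero, add_zero]

variable (S) in
lemma exists_pr : Nonempty S.Pr := by
  classical
  obtain ⟨e, -, he0, he⟩ := OmS.exists_singular_of_three (Q := S.qf) S.two (S := ⊤)
    (by rw [finrank_top, Module.finrank_fin_fun]; exact S.three_le)
  obtain ⟨p, -⟩ := exists_pr_of (S := S) ((S.Q_eq_zero_iff e).1 he) he0
  exact ⟨p⟩

/-- An anisotropic vector orthogonal to a subspace with a complement. -/
lemma exists_aniso_perp {D : Submodule F (Fin k → F)} (hdim : Module.finrank F D < k)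
    (hproj : ∀ x, ∃ d ∈ D, ∀ d' ∈ D, S.bb d' (x - d) = 0) :
    ∃ w, (∀ d ∈ D, S.bb d w = 0) ∧ S.Q w ≠ 0 := by
  classical
  by_contra hcon
  push Not at hcon
  have hne : ∃ y, y ∉ D := by
    by_contra h
    push Not at h
    have : D = ⊤ := Submodule.eq_top_iff'.2 h
    rw [this, finrank_top, Module.finrank_fin_fun] at hdim
    omega
  obtain ⟨y, hy⟩ := hne
  obtain ⟨d, hd, hd'⟩ := hproj y
  set w := y - d
  have hw0 : w ≠ 0 := fun h => hy (by rw [sub_eq_zero.1 h]; exact hd)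
  refine hw0 (S.eq_zero_of_bb fun v => ?_)
  obtain ⟨d₁, hd₁, hd₁'⟩ := hproj v
  have hv : ∀ d' ∈ D, S.bb d' (v - d₁) = 0 := hd₁'
  have h1 := hcon (w + (v - d₁)) fun d' hd'' => by rw [S.bb_add_right, hd' d' hd'', hv d' hd'', add_zero]
  rw [S.Q_add, hcon w hd', hcon _ hv, zero_add, zero_add] at h1
  rw [show v = (v - d₁) + d₁ by abel, S.bb_add_left, hd' d₁ hd₁, add_zero, S.bb_comm]
  exact h1

lemma Pr.exists_aniso : ∃ w, p.InW w ∧ S.Q w ≠ 0 := by
  obtain ⟨w, hw, hQ⟩ := exists_aniso_perp (S := S) (D := Submodule.span F {p.e, p.f})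
    (lt_of_le_of_lt (QuadSim.finrank_span_two_le _ _) S.three_le) fun x => by
      refine ⟨S.bb x p.f • p.e + S.bb x p.e • p.f,
        Submodule.mem_span_pair.2 ⟨_, _, rfl⟩, fun d hd => ?_⟩
      obtain ⟨a, b, rfl⟩ := Submodule.mem_span_pair.1 hd
      rw [show x - (S.bb x p.f • p.e + S.bb x p.e • p.f) = p.pr x by rw [Pr.pr]; abel, S.bb_add_left,
        S.bb_smul_left, S.bb_smul_left, (p.pr_mem x).1, (p.pr_mem x).2]
      ring
  exact ⟨w, ⟨hw _ (Submodule.subset_span (by simp)), hw _ (Submodule.subset_span (by simp))⟩, hQ⟩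

lemma Pr.exists_orth (hk : 4 ≤ k) {x : Fin k → F} (hx : p.InW x) (hQ : S.Q x ≠ 0) :
    ∃ y, p.InW y ∧ S.bb x y = 0 ∧ S.Q y ≠ 0 := by
  have h2Q : S.bb x x ≠ 0 := by rw [S.bb_self]; exact mul_ne_zero S.two hQ
  obtain ⟨w, hw, hQw⟩ := exists_aniso_perp (S := S) (D := Submodule.span F {p.e, p.f, x})
    (lt_of_le_of_lt (QuadSim.finrank_span_three_le _ _ _) hk) fun y => by
      refine ⟨S.bb y p.f • p.e + S.bb y p.e • p.f + (S.bb y x / S.bb x x) • x,
        Submodule.mem_span_triple.2 ⟨_, _, _, rfl⟩, fun d hd => ?_⟩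
      obtain ⟨a, b, c, rfl⟩ := Submodule.mem_span_triple.1 hd
      simp only [S.bb_add_left, S.bb_smul_left, S.bb_sub_right, S.bb_add_right, S.bb_smul_right, p.he, p.hf,
        p.h1, p.h1', hx.1, hx.2, S.bb_comm x p.e, S.bb_comm x p.f, S.bb_comm p.e y, S.bb_comm p.f y,
        S.bb_comm x y]
      field_simp
      ring
  exact ⟨w, ⟨hw _ (Submodule.subset_span (by simp)), hw _ (Submodule.subset_span (by simp))⟩,
    hw _ (Submodule.subset_span (by simp)), hQw⟩

/-- The singular vectors generate. -/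
lemma mem_of_singular (A : AddSubgroup (Fin k → F)) (h : ∀ x, S.bb x x = 0 → x ∈ A) (x : Fin k → F) :
    x ∈ A := by
  classical
  exact QuadSim.perp_le_of_singular (Q := S.qf) S.nd_qf S.two (D := ⊥)
    (by rw [finrank_bot, Fintype.card_fin]; exact S.three_le) A
    (fun y hy _ => h y ((S.Q_eq_zero_iff y).1 hy))
    (fun d hd => by rw [(Submodule.mem_bot F).1 hd, polar_zero_right])

end Sym

end CfsgLib.ClassicalMax.OWr
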