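/-
Linear maps of one factor acting on the matrices of a tensor power.
-/
import Cfsg.Agent.Lib.ClassicalMax.TWreath.Slot
set_option autoImplicit false
set_option linter.unusedSectionVars false

namespace CfsgLib.ClassicalMax.OWr

open Matrix
open CfsgLib.ClassicalMax.TWreath

variable {F : Type*} [Field F] {t k : ℕ}

/-- The matrix in the factor `m` at the given outer indices. -/
def comp (m : Fin t) (a b : Fin t → Fin k) :
    Matrix (Fin t → Fin k) (Fin t → Fin k) F →ₗ[F] Matrix (Fin k) (Fin k) F where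
  toFun X := Matrix.of fun p q => X (Function.update a m p) (Function.update b m q)
  map_add' X Y := rfl
  map_smul' c X := rfl

lemma comp_apply (m : Fin t) (a b : Fin t → Fin k) (X : Matrix (Fin t → Fin k) (Fin t → Fin k) F)
    (p q : Fin k) : comp m a b X p q = X (Function.update a m p) (Function.update b m q) := rfl

lemma comp_update (m : Fin t) (a b : Fin t → Fin k) (p q : Fin k) :
    comp (F := F) m (Function.update a m p) (Function.update b m q) = comp m a b := by
  refine LinearMap.ext fun X => Matrix.ext fun i j => ?_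
  simp [comp_apply]

lemma eq_zero_of_comp (m : Fin t) {X : Matrix (Fin t → Fin k) (Fin t → Fin k) F}
    (h : ∀ a b, comp m a b X = 0) : X = 0 := by
  ext a b
  simpa [comp_apply] using congrFun (congrFun (h a b) (a m)) (b m)

lemma comp_pmat (m : Fin t) (a b : Fin t → Fin k) (A : Fin t → Matrix (Fin k) (Fin k) F) :
    comp m a b (pmat A) = (∏ l ∈ Finset.univ.erase m, A l (a l) (b l)) • A m := by
  ext p q
  rw [comp_apply, pmat_apply, ← Finset.mul_prod_erase _ _ (Finset.mem_univ m), Matrix.smul_apply,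
    smul_eq_mul, Function.update_self, Function.update_self, mul_comm]
  congr 1
  exact Finset.prod_congr rfl fun l hl => by
    rw [Function.update_of_ne (Finset.ne_of_mem_erase hl), Function.update_of_ne (Finset.ne_of_mem_erase hl)]

/-- A linear map of one factor. -/
def L (m : Fin t) (φ : Matrix (Fin k) (Fin k) F →ₗ[F] Matrix (Fin k) (Fin k) F) :
    Matrix (Fin t → Fin k) (Fin t → Fin k) F →ₗ[F] Matrix (Fin t → Fin k) (Fin t → Fin k) F where
  toFun X := Matrix.of fun a b => φ (comp m a b X) (a m) (b m)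
  map_add' X Y := by ext a b; simp
  map_smul' c X := by ext a b; simp

lemma L_apply (m : Fin t) (φ : Matrix (Fin k) (Fin k) F →ₗ[F] Matrix (Fin k) (Fin k) F)
    (X : Matrix (Fin t → Fin k) (Fin t → Fin k) F) (a b : Fin t → Fin k) :
    L m φ X a b = φ (comp m a b X) (a m) (b m) := rfl

lemma comp_L (m : Fin t) (φ : Matrix (Fin k) (Fin k) F →ₗ[F] Matrix (Fin k) (Fin k) F)
    (a b : Fin t → Fin k) (X : Matrix (Fin t → Fin k) (Fin t → Fin k) F) :
    comp m a b (L m φ X) = φ (comp m a b X) := by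
  ext p q
  simp [comp_apply, L_apply, comp_update]

lemma L_pmat (m : Fin t) (φ : Matrix (Fin k) (Fin k) F →ₗ[F] Matrix (Fin k) (Fin k) F)
    (A : Fin t → Matrix (Fin k) (Fin k) F) :
    L m φ (pmat A) = pmat (Function.update A m (φ (A m))) := by
  ext a b
  rw [L_apply, comp_pmat, map_smul, Matrix.smul_apply, pmat_update_apply, smul_eq_mul, mul_comm]

lemma L_id (m : Fin t) (X : Matrix (Fin t → Fin k) (Fin t → Fin k) F) : L m LinearMap.id X = X := by
  ext a b
  simp [L_apply, comp_apply]

lemma L_comp (m : Fin t) (φ ψ : Matrix (Fin k) (Fin k) F →ₗ[F] Matrix (Fin k) (Fin k) F)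
    (X : Matrix (Fin t → Fin k) (Fin t → Fin k) F) : L m φ (L m ψ X) = L m (φ ∘ₗ ψ) X := by
  ext a b
  simp [L_apply, comp_L]

lemma L_comm {m l : Fin t} (h : m ≠ l) (φ ψ : Matrix (Fin k) (Fin k) F →ₗ[F] Matrix (Fin k) (Fin k) F)
    (X : Matrix (Fin t → Fin k) (Fin t → Fin k) F) : L m φ (L l ψ X) = L l ψ (L m φ X) := by
  suffices H : L m φ ∘ₗ L l ψ = L l ψ ∘ₗ L m φ from LinearMap.congr_fun H X
  refine ext_pmat fun A => ?_
  simp only [LinearMap.comp_apply, L_pmat, Function.update_of_ne h, Function.update_of_ne h.symm]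
  rw [Function.update_comm h]

lemma L_add (m : Fin t) (φ ψ : Matrix (Fin k) (Fin k) F →ₗ[F] Matrix (Fin k) (Fin k) F) :
    L (t := t) m (φ + ψ) = L m φ + L m ψ := by
  refine LinearMap.ext fun X => Matrix.ext fun a b => ?_
  simp [L_apply]

lemma L_smul (m : Fin t) (c : F) (φ : Matrix (Fin k) (Fin k) F →ₗ[F] Matrix (Fin k) (Fin k) F) :
    L (t := t) m (c • φ) = c • L m φ := by
  refine LinearMap.ext fun X => Matrix.ext fun a b => ?_
  simp [L_apply]

lemma L_sub (m : Fin t) (φ ψ : Matrix (Fin k) (Fin k) F →ₗ[F] Matrix (Fin k) (Fin k) F) :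
    L (t := t) m (φ - ψ) = L m φ - L m ψ := by
  refine LinearMap.ext fun X => Matrix.ext fun a b => ?_
  simp [L_apply]

lemma L_zero (m : Fin t) : L (F := F) (t := t) (k := k) m 0 = 0 := by
  refine LinearMap.ext fun X => Matrix.ext fun a b => ?_
  simp [L_apply]

lemma L_sum {κ : Type*} (m : Fin t) (s : Finset κ)
    (φ : κ → Matrix (Fin k) (Fin k) F →ₗ[F] Matrix (Fin k) (Fin k) F) :
    L (t := t) m (∑ x ∈ s, φ x) = ∑ x ∈ s, L m (φ x) := by
  classical
  induction s using Finset.induction with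
  | empty => simp [L_zero]
  | insert x s hx ih => rw [Finset.sum_insert hx, L_add, ih, Finset.sum_insert hx]

/-- Conjugation of one factor. -/
def cjm (A A' : Matrix (Fin k) (Fin k) F) : Matrix (Fin k) (Fin k) F →ₗ[F] Matrix (Fin k) (Fin k) F :=
  LinearMap.mulRight F A' ∘ₗ LinearMap.mulLeft F A

lemma cjm_apply (A A' X : Matrix (Fin k) (Fin k) F) : cjm A A' X = A * X * A' := rfl

lemma slot_sandwich (i : Fin t) (A A' : Matrix (Fin k) (Fin k) F)
    (X : Matrix (Fin t → Fin k) (Fin t → Fin k) F) : slot i A * X * slot i A' = L i (cjm A A') X := by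
  suffices H : LinearMap.mulRight F (slot i A') ∘ₗ LinearMap.mulLeft F (slot i A) = L i (cjm A A') from
    LinearMap.congr_fun H X
  refine ext_pmat fun B => ?_
  simp [L_pmat, slot_mul_pmat, pmat_mul_slot, cjm_apply]

lemma slot_mul_eq_L (i : Fin t) (A : Matrix (Fin k) (Fin k) F)
    (X : Matrix (Fin t → Fin k) (Fin t → Fin k) F) : slot i A * X = L i (LinearMap.mulLeft F A) X := by
  suffices H : LinearMap.mulLeft F (slot i A) = L i (LinearMap.mulLeft F A) from LinearMap.congr_fun H X
  refine ext_pmat fun B => ?_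
  simp [L_pmat, slot_mul_pmat]

lemma mul_slot_eq_L (i : Fin t) (A : Matrix (Fin k) (Fin k) F)
    (X : Matrix (Fin t → Fin k) (Fin t → Fin k) F) : X * slot i A = L i (LinearMap.mulRight F A) X := by
  suffices H : LinearMap.mulRight F (slot i A) = L i (LinearMap.mulRight F A) from LinearMap.congr_fun H X
  refine ext_pmat fun B => ?_
  simp [L_pmat, pmat_mul_slot]

/-- The factor `m` takes its values in `V`. -/
def InS (m : Fin t) (V : Submodule F (Matrix (Fin k) (Fin k) F))
    (X : Matrix (Fin t → Fin k) (Fin t → Fin k) F) : Prop :=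
  ∀ a b, comp m a b X ∈ V

variable {m l : Fin t} {V V' : Submodule F (Matrix (Fin k) (Fin k) F)}
  {X Y : Matrix (Fin t → Fin k) (Fin t → Fin k) F}

lemma InS.mono (h : InS m V X) (hV : V ≤ V') : InS m V' X := fun a b => hV (h a b)

lemma InS.zero : InS m V (0 : Matrix (Fin t → Fin k) (Fin t → Fin k) F) := fun a b => by
  rw [map_zero]; exact V.zero_mem

lemma InS.add (h : InS m V X) (h' : InS m V Y) : InS m V (X + Y) := fun a b => by
  rw [map_add]; exact V.add_mem (h a b) (h' a b)

lemma InS.smul (h : InS m V X) (c : F) : InS m V (c • X) := fun a b => by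
  rw [map_smul]; exact V.smul_mem c (h a b)

lemma InS.pmat {A : Fin t → Matrix (Fin k) (Fin k) F} (h : A m ∈ V) : InS m V (pmat A) := fun a b => by
  rw [comp_pmat]; exact V.smul_mem _ h

lemma InS.map (h : InS m V X) {φ : Matrix (Fin k) (Fin k) F →ₗ[F] Matrix (Fin k) (Fin k) F}
    (hφ : ∀ Z ∈ V, φ Z ∈ V') : InS m V' (L m φ X) := fun a b => by
  rw [comp_L]; exact hφ _ (h a b)

lemma L_congr (h : InS m V X) {φ ψ : Matrix (Fin k) (Fin k) F →ₗ[F] Matrix (Fin k) (Fin k) F}
    (hφ : ∀ Z ∈ V, φ Z = ψ Z) : L m φ X = L m ψ X := by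
  ext a b
  rw [L_apply, L_apply, hφ _ (h a b)]

lemma L_eq_zero (h : InS m V X) {φ : Matrix (Fin k) (Fin k) F →ₗ[F] Matrix (Fin k) (Fin k) F}
    (hφ : ∀ Z ∈ V, φ Z = 0) : L m φ X = 0 := by
  rw [L_congr h (ψ := 0) (by simpa using hφ), L_zero, LinearMap.zero_apply]

lemma L_eq_smul (h : InS m V X) {φ : Matrix (Fin k) (Fin k) F →ₗ[F] Matrix (Fin k) (Fin k) F} {c : F}
    (hφ : ∀ Z ∈ V, φ Z = c • Z) : L m φ X = c • X := by
  rw [L_congr h (ψ := c • LinearMap.id) (by simpa using hφ), L_smul, LinearMap.smul_apply, L_id]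

lemma comp_ker {φ : Matrix (Fin k) (Fin k) F →ₗ[F] Matrix (Fin k) (Fin k) F} (h : L m φ X = 0)
    (a b : Fin t → Fin k) : φ (comp m a b X) = 0 := by
  rw [← comp_L, h, map_zero]

variable (V) in
lemma exists_proj : ∃ π : Matrix (Fin k) (Fin k) F →ₗ[F] Matrix (Fin k) (Fin k) F,
    (∀ Z, π Z ∈ V) ∧ ∀ Z ∈ V, π Z = Z := by
  obtain ⟨g, hg⟩ := LinearMap.exists_leftInverse_of_injective V.subtype V.ker_subtype
  exact ⟨V.subtype ∘ₗ g, fun Z => (g Z).2, fun Z hZ => congrArg Subtype.val
    (LinearMap.congr_fun hg ⟨Z, hZ⟩)⟩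

lemma InS.other (h : InS m V X) (hlm : l ≠ m)
    (φ : Matrix (Fin k) (Fin k) F →ₗ[F] Matrix (Fin k) (Fin k) F) : InS m V (L l φ X) := by
  obtain ⟨π, hπ, hπ'⟩ := exists_proj V
  intro a b
  have e : L m π X = X := by rw [L_congr h (ψ := LinearMap.id) (by simpa using hπ'), L_id]
  rw [← e, L_comm hlm, comp_L]
  exact hπ _

/-- Linear maps of the factors of a set, composed. -/
lemma mem_span_pmat {V : Fin t → Submodule F (Matrix (Fin k) (Fin k) F)} (h : ∀ l, InS l (V l) X) :
    X ∈ Submodule.span F (pmat '' {A | ∀ l, A l ∈ V l}) := by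
  classical
  suffices H : ∀ s : Finset (Fin t),
      X ∈ Submodule.span F (pmat '' {A : Fin t → Matrix (Fin k) (Fin k) F | ∀ l ∈ s, A l ∈ V l}) by
    have := H Finset.univ
    simpa using this
  intro s
  induction s using Finset.induction with
  | empty =>
    rw [eq_sum_pmat X]
    exact Submodule.sum_mem _ fun a _ => Submodule.sum_mem _ fun b _ =>
      Submodule.smul_mem _ _ (Submodule.subset_span ⟨_, by simp, rfl⟩)
  | insert i s hi ih =>
    obtain ⟨π, hπ, hπ'⟩ := exists_proj (V i)
    have e : L i π X = X := by rw [L_congr (h i) (ψ := LinearMap.id) (by simpa using hπ'), L_id]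
    rw [← e]
    have hmap := Submodule.mem_map_of_mem (f := L i π) ih
    rw [Submodule.map_span] at hmap
    refine Submodule.span_mono ?_ hmap
    rintro _ ⟨_, ⟨A, hA, rfl⟩, rfl⟩
    refine ⟨_, fun l hl => ?_, (L_pmat i π A).symm⟩
    rcases eq_or_ne l i with rfl | hli
    · rw [Function.update_self]; exact hπ _
    · rw [Function.update_of_ne hli]; exact hA l ((Finset.mem_insert.1 hl).resolve_left hli)

lemma pmat_smul (c : Fin t → F) (A : Fin t → Matrix (Fin k) (Fin k) F) :
    pmat (fun l => c l • A l) = (∏ l, c l) • pmat A := by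
  ext a b
  simp [pmat_apply, Finset.prod_mul_distrib]

/-- A matrix with every factor in a line is a multiple of a product. -/
lemma eq_smul_pmat {B : Fin t → Matrix (Fin k) (Fin k) F} (h : ∀ l, InS l (Submodule.span F {B l}) X) :
    ∃ c : F, X = c • pmat B := by
  have hX := mem_span_pmat h
  have hle : Submodule.span F (pmat '' {A | ∀ l, A l ∈ Submodule.span F {B l}}) ≤
      Submodule.span F {pmat B} := by
    rw [Submodule.span_le]
    rintro _ ⟨A, hA, rfl⟩
    choose c hc using fun l => Submodule.mem_span_singleton.1 (hA l)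
    rw [show A = fun l => c l • B l from funext fun l => (hc l).symm, pmat_smul]
    exact Submodule.smul_mem _ _ (Submodule.mem_span_singleton_self _)
  obtain ⟨c, hc⟩ := Submodule.mem_span_singleton.1 (hle hX)
  exact ⟨c, hc.symm⟩

/-- A scalar factor is removed. -/
lemma slot_of_scalar {i : Fin t} (h : ∀ l, l ≠ i → InS l (Submodule.span F {(1 : Matrix (Fin k) (Fin k) F)}) X) :
    ∃ Z, X = slot i Z := by
  classical
  let V : Fin t → Submodule F (Matrix (Fin k) (Fin k) F) := fun l =>
    if l = i then ⊤ else Submodule.span F {1}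
  have hX := mem_span_pmat (V := V) (X := X) fun l => by
    by_cases hl : l = i
    · simp only [V, if_pos hl]; exact fun a b => Submodule.mem_top
    · simp only [V, if_neg hl]; exact h l hl
  have hle : Submodule.span F (pmat '' {A | ∀ l, A l ∈ V l}) ≤ LinearMap.range (slot (F := F) i).toLinearMap := by
    rw [Submodule.span_le]
    rintro _ ⟨A, hA, rfl⟩
    have hc : ∀ l, ∃ c : F, l ≠ i → c • (1 : Matrix (Fin k) (Fin k) F) = A l := fun l => by
      by_cases hl : l = i
      · exact ⟨0, fun h => absurd hl h⟩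
      · have := hA l
        simp only [V, if_neg hl] at this
        obtain ⟨c, hc⟩ := Submodule.mem_span_singleton.1 this
        exact ⟨c, fun _ => hc⟩
    choose c hc using hc
    refine ⟨(∏ l, if l = i then 1 else c l) • A i, ?_⟩
    show slot i _ = _
    rw [map_smul, slot_eq, ← pmat_smul]
    congr 1
    funext l
    rcases eq_or_ne l i with rfl | hl
    · simp
    · simp [hl, hc l hl]
  obtain ⟨Z, hZ⟩ := hle hX
  exact ⟨Z, hZ.symm⟩

end CfsgLib.ClassicalMax.OWr
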