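/-
The isometries of an orthogonal tensor power and the elements above its stabiliser.
-/
import Cfsg.Agent.Lib.ClassicalMax.OrthWreath.Form
import Cfsg.Agent.Lib.ClassicalMax.OrthWreath.Lop
set_option autoImplicit false
set_option linter.unusedSectionVars false
set_option linter.unusedVariables false
set_option linter.unusedSimpArgs false

namespace CfsgLib.ClassicalMax.OWr

open Matrix Cfsg.Geo
open CfsgLib.ClassicalMax.TWreath

variable {F : Type*} [Field F] {k t : ℕ}

namespace Sym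

variable (S : Sym F k)

/-- The adjoint of one factor, as a linear map. -/
def adjL : Matrix (Fin k) (Fin k) F →ₗ[F] Matrix (Fin k) (Fin k) F where
  toFun := S.adj
  map_add' := S.adj_add
  map_smul' := S.adj_smul

lemma adjL_apply (A : Matrix (Fin k) (Fin k) F) : S.adjL A = S.adj A := rfl

/-- The adjoint on the tensor power. -/
def adjB : Matrix (Fin t → Fin k) (Fin t → Fin k) F →ₗ[F] Matrix (Fin t → Fin k) (Fin t → Fin k) F where
  toFun M := pmat (fun _ => S.Gi) * Mᵀ * pmat fun _ => S.G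
  map_add' M N := by rw [Matrix.transpose_add, mul_add, add_mul]
  map_smul' c M := by rw [Matrix.transpose_smul, mul_smul_comm, smul_mul_assoc]; rfl

lemma pmat_G_mul_Gi : pmat (fun _ : Fin t => S.G) * pmat (fun _ => S.Gi) = 1 := by
  rw [pmat_mul]; simp only [S.mul_Gi]; exact pmat_one

lemma pmat_Gi_mul_G : pmat (fun _ : Fin t => S.Gi) * pmat (fun _ => S.G) = 1 := by
  rw [pmat_mul]; simp only [S.Gi_mul]; exact pmat_one

lemma adjB_mul (M N : Matrix (Fin t → Fin k) (Fin t → Fin k) F) :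
    S.adjB (M * N) = S.adjB N * S.adjB M := by
  show _ * (M * N)ᵀ * _ = (_ * Nᵀ * _) * (_ * Mᵀ * _)
  simp only [Matrix.transpose_mul, mul_assoc]
  rw [← mul_assoc (pmat fun _ : Fin t => S.G) (pmat fun _ => S.Gi), S.pmat_G_mul_Gi, one_mul]

lemma adjB_one : S.adjB (1 : Matrix (Fin t → Fin k) (Fin t → Fin k) F) = 1 := by
  show _ * (1 : Matrix (Fin t → Fin k) (Fin t → Fin k) F)ᵀ * _ = _
  rw [Matrix.transpose_one, mul_one, S.pmat_Gi_mul_G]

lemma adjB_pmat (A : Fin t → Matrix (Fin k) (Fin k) F) :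
    S.adjB (pmat A) = pmat fun l => S.adj (A l) := by
  show _ * (pmat A)ᵀ * _ = _
  rw [show (pmat A)ᵀ = pmat fun l => (A l)ᵀ from rfl, pmat_mul, pmat_mul]
  rfl

lemma adjB_slot (i : Fin t) (X : Matrix (Fin k) (Fin k) F) :
    S.adjB (slot i X) = slot i (S.adj X) := by
  rw [slot_eq, adjB_pmat, slot_eq]
  congr 1
  funext l
  rcases eq_or_ne l i with rfl | h
  · simp
  · simp [Function.update_of_ne h, adj_one]

lemma adjB_adjB (M : Matrix (Fin t → Fin k) (Fin t → Fin k) F) : S.adjB (S.adjB M) = M := by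
  suffices H : S.adjB (t := t) ∘ₗ S.adjB = LinearMap.id from LinearMap.congr_fun H M
  exact ext_pmat fun A => by simp [adjB_pmat, adj_adj]

/-- The isometries of the tensor power. -/
def Iso (t : ℕ) : Subgroup (GL (Fin t → Fin k) F) where
  carrier := {g | S.adjB g.val * g.val = 1}
  one_mem' := by
    show S.adjB (1 : Matrix (Fin t → Fin k) (Fin t → Fin k) F) * 1 = 1
    rw [mul_one, adjB_one]
  mul_mem' {g h} hg hh := by
    show S.adjB (g.val * h.val) * (g.val * h.val) = 1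
    rw [adjB_mul, mul_assoc, ← mul_assoc (S.adjB g.val), hg, one_mul]
    exact hh
  inv_mem' {g} hg := by
    have h1 : S.adjB g.val = (g⁻¹).val := by
      calc S.adjB g.val = S.adjB g.val * (g.val * (g⁻¹).val) := by rw [Units.mul_inv, mul_one]
        _ = (g⁻¹).val := by rw [← mul_assoc, hg, one_mul]
    have h2 : S.adjB (g⁻¹).val * S.adjB g.val = 1 := by
      rw [← adjB_mul, Units.mul_inv, adjB_one]
    show S.adjB (g⁻¹).val * (g⁻¹).val = 1
    nth_rw 2 [← h1]
    exact h2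

lemma mem_Iso {g : GL (Fin t → Fin k) F} : g ∈ S.Iso t ↔ S.adjB g.val * g.val = 1 := Iff.rfl

lemma adjB_eq_inv {g : GL (Fin t → Fin k) F} (hg : g ∈ S.Iso t) : S.adjB g.val = (g⁻¹).val := by
  calc S.adjB g.val = S.adjB g.val * (g.val * (g⁻¹).val) := by rw [Units.mul_inv, mul_one]
    _ = (g⁻¹).val := by rw [← mul_assoc, hg, one_mul]

lemma adjB_conj {g : GL (Fin t → Fin k) F} (hg : g ∈ S.Iso t)
    (X : Matrix (Fin t → Fin k) (Fin t → Fin k) F) :
    S.adjB (g.val * X * (g⁻¹).val) = g.val * S.adjB X * (g⁻¹).val := by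
  rw [S.adjB_mul, S.adjB_mul, S.adjB_eq_inv hg, S.adjB_eq_inv (inv_mem hg), inv_inv, mul_assoc]

lemma permGL_mem_Iso (σ : Equiv.Perm (Fin t)) : permGL σ ∈ S.Iso t := by
  rw [mem_Iso]
  show pmat (fun _ => S.Gi) * (permMat σ)ᵀ * pmat (fun _ => S.G) * permMat σ = 1
  have e : (permMat σ : Matrix (Fin t → Fin k) (Fin t → Fin k) F)ᵀ = permMat σ⁻¹ := by
    ext a b
    simp only [Matrix.transpose_apply, permMat]
    have : (a = b ∘ ⇑σ) ↔ (b = a ∘ ⇑σ⁻¹) := by
      constructor <;> rintro rfl <;> funext l <;> simp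
    simp [this]
  rw [e, mul_assoc, mul_assoc, ← mul_assoc (permMat σ⁻¹), permMat_mul_pmat, mul_assoc, permMat_mul,
    inv_mul_cancel, permMat_one, mul_one]
  exact S.pmat_Gi_mul_G

/-- An isometry of one factor as an element at a slot. -/
def slotGL (i : Fin t) (A : Matrix (Fin k) (Fin k) F) (h : S.adj A * A = 1) : GL (Fin t → Fin k) F :=
  ⟨slot i A, slot i (S.adj A), by rw [← map_mul, mul_eq_one_comm.1 h, map_one],
    by rw [← map_mul, h, map_one]⟩

lemma slotGL_mem_std (i : Fin t) (A : Matrix (Fin k) (Fin k) F) (h : S.adj A * A = 1) :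
    S.slotGL i A h ∈ tensorWreathStandard k t F :=
  exists_units (σ := 1) (A := Function.update 1 i A) (by rw [permMat_one, mul_one]; rfl)

lemma slotGL_mem_Iso (i : Fin t) (A : Matrix (Fin k) (Fin k) F) (h : S.adj A * A = 1) :
    S.slotGL i A h ∈ S.Iso t := by
  rw [mem_Iso]
  show S.adjB (slot i A) * slot i A = 1
  rw [S.adjB_slot, ← map_mul, h, map_one]

/-- Above the elements of `Ω` in the stabiliser. -/
structure Over (M : Subgroup (GL (Fin t → Fin k) F)) : Prop where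
  le : M ≤ S.Iso t
  sq : ∀ g ∈ tensorWreathStandard k t F, g ∈ S.Iso t → g * g ∈ M
  comm : ∀ g ∈ tensorWreathStandard k t F, g ∈ S.Iso t → ∀ h ∈ tensorWreathStandard k t F,
    h ∈ S.Iso t → g * h * g⁻¹ * h⁻¹ ∈ M

/-- The reflection. -/
def rf (a : Fin k → F) : Matrix (Fin k) (Fin k) F := 1 - (S.Q a)⁻¹ • S.P a

lemma rf_mulVec (a x : Fin k → F) : S.rf a *ᵥ x = x - ((S.Q a)⁻¹ * S.bb x a) • a := by
  rw [rf, Matrix.sub_mulVec, Matrix.one_mulVec, Matrix.smul_mulVec, P_mulVec, smul_smul]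

lemma adj_rf (a : Fin k → F) : S.adj (S.rf a) = S.rf a := by
  rw [rf, adj_sub, adj_one, adj_smul, adj_P]

lemma rf_sq {a : Fin k → F} (ha : S.Q a ≠ 0) : S.rf a * S.rf a = 1 := by
  simp only [rf, sub_mul, mul_sub, one_mul, mul_one, smul_mul_smul_comm, P, S.op_mul, S.bb_self, smul_smul]
  match_scalars <;> field_simp <;> ring

lemma rf_iso {a : Fin k → F} (ha : S.Q a ≠ 0) : S.adj (S.rf a) * S.rf a = 1 := by
  rw [adj_rf, S.rf_sq ha]

lemma conj_rf {A A' : Matrix (Fin k) (Fin k) F} (hA : S.adj A' = A) (h : A * A' = 1) (a : Fin k → F) :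
    A * S.rf a * A' = 1 - (S.Q a)⁻¹ • S.P (A *ᵥ a) := by
  rw [rf, mul_sub, sub_mul, mul_one, h, mul_smul_comm, smul_mul_assoc, S.conj_P hA]

/-- Vectors of equal norm are exchanged. -/
lemma exists_conj_rf {a b : Fin k → F} (hab : S.Q a = S.Q b) (ha : S.Q a ≠ 0) :
    ∃ A, S.adj A * A = 1 ∧ A * S.rf a * S.adj A = S.rf b := by
  by_cases hc : S.Q (a - b) = 0
  · have h4 : S.Q (a + b) ≠ 0 := fun h => by
      rw [S.Q_add] at h
      rw [sub_eq_add_neg, S.Q_add, S.Q_neg, S.bb_neg_right] at hc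
      have e : (2 : F) * (2 * S.Q a) = 0 := by linear_combination h + hc + 2 * hab
      exact ha ((mul_eq_zero.1 ((mul_eq_zero.1 e).resolve_left S.two)).resolve_left S.two)
    refine ⟨S.rf (a + b), S.rf_iso h4, ?_⟩
    rw [S.adj_rf, S.conj_rf (S.adj_rf _) (S.rf_sq h4), rf.eq_def S b, hab]
    have e : S.rf (a + b) *ᵥ a = -b := by
      rw [rf_mulVec]
      have : S.bb a (a + b) = S.Q (a + b) := by rw [S.Q_add, S.bb_add_right, S.bb_self]; linear_combination hab
      rw [this, inv_mul_cancel₀ h4, one_smul]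
      abel
    rw [e, P, P, ← neg_one_smul F b, op_smul_left, op_smul_right]
    module
  · refine ⟨S.rf (a - b), S.rf_iso hc, ?_⟩
    rw [S.adj_rf, S.conj_rf (S.adj_rf _) (S.rf_sq hc), rf.eq_def S b, hab]
    have e : S.rf (a - b) *ᵥ a = b := by
      rw [rf_mulVec]
      have : S.bb a (a - b) = S.Q (a - b) := by
        rw [sub_eq_add_neg a b, S.Q_add, S.Q_neg, S.bb_add_right, S.bb_self]; linear_combination hab
      rw [this, inv_mul_cancel₀ hc, one_smul]
      abel
    rw [e]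

namespace Over

variable {S} {M : Subgroup (GL (Fin t → Fin k) F)} (H : S.Over M)
include H

lemma sq_slot (i : Fin t) {A : Matrix (Fin k) (Fin k) F} (hA : S.adj A * A = 1) :
    MV M (slot i (A * A)) :=
  ⟨_, H.sq _ (S.slotGL_mem_std i A hA) (S.slotGL_mem_Iso i A hA), by rw [map_mul]; rfl⟩

lemma z_mem (i : Fin t) {e w : Fin k → F} (he : S.bb e e = 0) (hw : S.bb e w = 0) :
    MV M (slot i (S.z e w)) := by
  have hw' : S.bb e ((2 : F)⁻¹ • w) = 0 := by rw [S.bb_smul_right, hw, mul_zero]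
  have e2 : S.z e w = S.z e ((2 : F)⁻¹ • w) * S.z e ((2 : F)⁻¹ • w) := by
    rw [S.z_mul he hw' hw', ← add_smul, show (2 : F)⁻¹ + 2⁻¹ = 1 by rw [← two_mul, mul_inv_cancel₀ S.two],
      one_smul]
  rw [e2]
  exact H.sq_slot i (S.z_iso he hw')

lemma perm_sq (σ : Equiv.Perm (Fin t)) : MV M (permMat (σ * σ) : Matrix (Fin t → Fin k) (Fin t → Fin k) F) :=
  ⟨_, H.sq _ (permGL_mem_std σ) (S.permGL_mem_Iso σ), by rw [← map_mul]; rfl⟩

/-- Two reflections of equal norm in two slots. -/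
lemma rf_pair {n l : Fin t} (hnl : n ≠ l) {a b : Fin k → F} (hab : S.Q a = S.Q b) (ha : S.Q a ≠ 0) :
    MV M (slot n (S.rf a) * slot l (S.rf b)) := by
  obtain ⟨A, hA, hAr⟩ := S.exists_conj_rf hab ha
  set x := S.slotGL n (S.rf a) (S.rf_iso ha)
  set y := S.slotGL l A hA * permGL (Equiv.swap n l) * (S.slotGL l A hA)⁻¹
  have hx := S.slotGL_mem_std n (S.rf a) (S.rf_iso ha)
  have hy : y ∈ tensorWreathStandard k t F :=
    mul_mem (mul_mem (S.slotGL_mem_std l A hA) (permGL_mem_std _)) (inv_mem (S.slotGL_mem_std l A hA))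
  have hy' : y ∈ S.Iso t :=
    mul_mem (mul_mem (S.slotGL_mem_Iso l A hA) (S.permGL_mem_Iso _)) (inv_mem (S.slotGL_mem_Iso l A hA))
  refine ⟨_, H.comm x hx (S.slotGL_mem_Iso n _ _) y hy hy', ?_⟩
  have e1 : (y * x⁻¹ * y⁻¹).val = slot l (S.rf b) := by
    show slot l A * permMat (Equiv.swap n l) * slot l (S.adj A) * slot n (S.adj (S.rf a)) *
      (slot l A * (permMat (Equiv.swap n l)⁻¹ * slot l (S.adj A))) = _
    rw [S.adj_rf, Equiv.swap_inv, mul_assoc (slot l A * _) (slot l (S.adj A)), slot_comm hnl.symm (S.adj A),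
      mul_assoc (slot l A) (permMat _), ← mul_assoc (permMat _), permMat_mul_slot, Equiv.swap_apply_left]
    calc _ = slot l A * slot l (S.rf a) * (permMat (Equiv.swap n l) * ((slot l (S.adj A) * slot l A) *
          permMat (Equiv.swap n l))) * slot l (S.adj A) := by simp only [mul_assoc]
      _ = _ := by
        rw [← map_mul (slot l) (S.adj A), hA, map_one, one_mul, permMat_mul, Equiv.swap_mul_self, permMat_one,
          mul_one, ← map_mul, ← map_mul, hAr]
  show (x * y * x⁻¹ * y⁻¹).val = _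
  rw [show x * y * x⁻¹ * y⁻¹ = x * (y * x⁻¹ * y⁻¹) by group, Units.val_mul, e1]
  rfl

lemma iso_of_MV {x : Matrix (Fin t → Fin k) (Fin t → Fin k) F} (h : MV M x) : S.adjB x * x = 1 := by
  obtain ⟨g, hg, rfl⟩ := h
  exact H.le hg

/-- Conjugation by a slot element of a Siegel transformation. -/
lemma cj_mem (i : Fin t) {e w : Fin k → F} (he : S.bb e e = 0) (hw : S.bb e w = 0)
    {x : Matrix (Fin t → Fin k) (Fin t → Fin k) F} (hx : MV M x) :
    MV M (L i (cjm (S.z e w) (S.z e (-w))) x) := by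
  rw [← slot_sandwich]
  exact ((H.z_mem i he hw).mul hx).mul (H.z_mem i he (by rw [S.bb_neg_right, hw, neg_zero]))

end Over

end Sym

end CfsgLib.ClassicalMax.OWr
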