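/-
Conjugation by Siegel elements of one factor: the sandwich and the derivations as integral combinations.
-/
import Cfsg.Agent.Lib.ClassicalMax.OrthWreath.Hyp
set_option autoImplicit false
set_option linter.unusedSectionVars false
set_option linter.unusedVariables false
set_option linter.unusedSimpArgs false

namespace CfsgLib.ClassicalMax.OWr

open Matrix Cfsg.Geo
open CfsgLib.ClassicalMax.TWreath

variable {F : Type*} [Field F] {k t : ℕ}

namespace Sym

variable (S : Sym F k)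

/-- Conjugation by a Siegel element. -/
def Ad (e w : Fin k → F) : Matrix (Fin k) (Fin k) F →ₗ[F] Matrix (Fin k) (Fin k) F :=
  cjm (S.z e w) (S.z e (-w))

/-- The commutator with a matrix. -/
def br (N : Matrix (Fin k) (Fin k) F) : Matrix (Fin k) (Fin k) F →ₗ[F] Matrix (Fin k) (Fin k) F :=
  LinearMap.mulLeft F N - LinearMap.mulRight F N

lemma br_apply (N Y : Matrix (Fin k) (Fin k) F) : br N Y = N * Y - Y * N := rfl

/-- The sandwich. -/
def Pi (e : Fin k → F) : Matrix (Fin k) (Fin k) F →ₗ[F] Matrix (Fin k) (Fin k) F :=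
  cjm (S.P e) (S.P e)

lemma Pi_apply (e : Fin k → F) (Y : Matrix (Fin k) (Fin k) F) :
    S.Pi e Y = S.bb (Y *ᵥ e) e • S.P e := by
  rw [Pi, cjm_apply, mul_assoc, P, S.mul_op, S.op_mul]

/-- The skew maps of one factor. -/
def so : Submodule F (Matrix (Fin k) (Fin k) F) where
  carrier := {Y | S.adj Y = -Y}
  add_mem' := fun {x y} hx hy => by
    show S.adj (x + y) = -(x + y)
    rw [adj_add, hx, hy, neg_add]
  zero_mem' := by show S.adj 0 = -0; rw [adj_zero, neg_zero]
  smul_mem' := fun c x hx => by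
    show S.adj (c • x) = -(c • x)
    rw [adj_smul, hx, smul_neg]

/-- The skew maps and the scalars. -/
def so1 : Submodule F (Matrix (Fin k) (Fin k) F) := S.so ⊔ Submodule.span F {1}

lemma mem_so {Y : Matrix (Fin k) (Fin k) F} : Y ∈ S.so ↔ S.adj Y = -Y := Iff.rfl

lemma N_mem_so (e w : Fin k → F) : S.N e w ∈ S.so := S.adj_N e w

lemma bb_skew {Y : Matrix (Fin k) (Fin k) F} (hY : Y ∈ S.so) (x z : Fin k → F) :
    S.bb (Y *ᵥ x) z = -S.bb x (Y *ᵥ z) := by
  rw [S.bb_adj, hY, Matrix.neg_mulVec, S.bb_neg_right]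

lemma bb_skew_self {Y : Matrix (Fin k) (Fin k) F} (hY : Y ∈ S.so) (x : Fin k → F) :
    S.bb (Y *ᵥ x) x = 0 := by
  have h := S.bb_skew hY x x
  rw [S.bb_comm x] at h
  exact (mul_eq_zero.1 (by linear_combination h : (2 : F) * S.bb (Y *ᵥ x) x = 0)).resolve_left S.two

lemma Pi_so {Y : Matrix (Fin k) (Fin k) F} (hY : Y ∈ S.so) (e : Fin k → F) : S.Pi e Y = 0 := by
  rw [Pi_apply, S.bb_skew_self hY, zero_smul]

/-- A skew map acts on pairs by derivation. -/
lemma br_N {X : Matrix (Fin k) (Fin k) F} (hX : X ∈ S.so) (a b : Fin k → F) :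
    br X (S.N a b) = S.N (X *ᵥ a) b + S.N a (X *ᵥ b) := by
  rw [br_apply, N, N, N, mul_sub, sub_mul, S.mul_op, S.mul_op, S.op_mul_mat, S.op_mul_mat, hX,
    Matrix.neg_mulVec, Matrix.neg_mulVec, ← neg_one_smul F (X *ᵥ a), ← neg_one_smul F (X *ᵥ b),
    op_smul_right, op_smul_right]
  module

lemma br_mem_so {N Y : Matrix (Fin k) (Fin k) F} (hN : N ∈ S.so) (hY : Y ∈ S.so) : br N Y ∈ S.so := by
  rw [mem_so, br_apply, adj_sub, adj_mul, adj_mul, hN, hY]
  noncomm_ring

lemma br_one (N : Matrix (Fin k) (Fin k) F) : br N (1 : Matrix (Fin k) (Fin k) F) = 0 := by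
  rw [br_apply, mul_one, one_mul, sub_self]

lemma br_so1 {N Y : Matrix (Fin k) (Fin k) F} (hN : N ∈ S.so) (hY : Y ∈ S.so1) : br N Y ∈ S.so := by
  obtain ⟨Y', hY', s, hs, rfl⟩ := Submodule.mem_sup.1 hY
  obtain ⟨c, rfl⟩ := Submodule.mem_span_singleton.1 hs
  rw [map_add, map_smul, br_one, smul_zero, add_zero]
  exact S.br_mem_so hN hY'

variable {e : Fin k → F} (he : S.bb e e = 0)
include he

/-- The derivation as a difference of two conjugations. -/
lemma Ad_sub_Ad {w : Fin k → F} (hw : S.bb e w = 0) {Y : Matrix (Fin k) (Fin k) F} (hY : Y ∈ S.so1) :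
    S.Ad e w Y - S.Ad e (-w) Y = (2 : F) • br (S.N e w) Y := by
  have h0 : ∀ Y' : Matrix (Fin k) (Fin k) F, S.P e * Y' * S.N e w = S.N e w * Y' * S.P e →
      S.Ad e w Y' - S.Ad e (-w) Y' = (2 : F) • br (S.N e w) Y' := by
    intro Y' hc
    simp only [Ad, cjm_apply, br_apply, z, neg_neg, S.N_neg, S.Q_neg, add_mul, mul_add, sub_mul, mul_sub,
      neg_mul, mul_neg, one_mul, mul_one, smul_mul_assoc, mul_smul_comm, smul_add, smul_sub, hc]
    module
  obtain ⟨Y', hY', s, hs, rfl⟩ := Submodule.mem_sup.1 hY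
  obtain ⟨c, rfl⟩ := Submodule.mem_span_singleton.1 hs
  have h1 : S.P e * Y' * S.N e w = S.N e w * Y' * S.P e := by
    rw [P, N, mul_sub, mul_assoc, S.mul_op, S.op_mul, mul_assoc, S.mul_op, S.op_mul, sub_mul, sub_mul,
      mul_assoc, S.mul_op, S.op_mul, mul_assoc, S.mul_op, S.op_mul, S.bb_skew_self hY', zero_smul,
      zero_smul, sub_zero, zero_sub, S.bb_skew hY' e w, neg_smul, neg_neg, S.bb_comm (Y' *ᵥ w)]
  simp only [map_add, map_smul]
  rw [add_sub_add_comm, h0 _ h1, ← smul_sub, h0 1 (by rw [mul_one, mul_one, S.P_mul_N he hw, S.N_mul_P he hw]),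
    br_one, smul_zero, smul_zero, smul_add, smul_zero]

/-- The sandwich from two multiples of one vector. -/
lemma Pi_combo_line {w : Fin k → F} (hw : S.bb e w = 0) {l m : F} (hlm : l * m = 1) :
    (S.Ad e ((l + m) • w) + S.Ad e (-((l + m) • w)) - S.Ad e (l • w) - S.Ad e (-(l • w))
        - S.Ad e (m • w) - S.Ad e (-(m • w)))
      - (S.Ad e ((2 : F) • w) + S.Ad e (-((2 : F) • w)) - S.Ad e w - S.Ad e (-w) - S.Ad e w - S.Ad e (-w))
      = (8 * ((l - m) * (l - m)) * (S.Q w * S.Q w)) • S.Pi e := by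
  refine LinearMap.ext fun Y => ?_
  simp only [LinearMap.sub_apply, LinearMap.add_apply, LinearMap.smul_apply, Ad, Pi, cjm_apply, z,
    neg_neg, S.N_neg, S.Q_neg, S.N_smul, S.Q_smul, add_mul, mul_add, sub_mul, mul_sub, neg_mul, mul_neg,
    one_mul, mul_one, smul_mul_assoc, mul_smul_comm, smul_add, smul_sub, smul_neg, smul_smul]
  match_scalars <;> grind

/-- The sandwich from two orthogonal vectors. -/
lemma Pi_combo_two {a b : Fin k → F} (ha : S.bb e a = 0) (hb : S.bb e b = 0) (hab : S.bb a b = 0) :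
    S.Ad e (a + b) + S.Ad e (a + -b) + S.Ad e (-a + b) + S.Ad e (-a + -b)
      - (2 : F) • (S.Ad e a + S.Ad e (-a) + S.Ad e b + S.Ad e (-b)) + (4 : F) • S.Ad e 0
      = (8 * (S.Q a * S.Q b)) • S.Pi e := by
  refine LinearMap.ext fun Y => ?_
  simp only [LinearMap.sub_apply, LinearMap.add_apply, LinearMap.smul_apply, Ad, Pi, cjm_apply, z,
    neg_add, neg_neg, neg_zero, S.N_zero, S.Q_zero, zero_smul, add_zero, sub_zero, S.N_add, S.N_neg, S.Q_add,
    S.Q_neg, S.bb_neg_left, S.bb_neg_right, hab, neg_zero, add_zero,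
    add_mul, mul_add, sub_mul, mul_sub, neg_mul, mul_neg,
    one_mul, mul_one, smul_mul_assoc, mul_smul_comm, smul_add, smul_sub, smul_neg, smul_smul]
  module

end Sym

/-- An odd characteristic half is a natural number. -/
lemma exists_nat_half [Fintype F] (h2 : (2 : F) ≠ 0) : ∃ m : ℕ, (m : F) = 2⁻¹ := by
  refine ⟨2 ^ (Fintype.card F - 2), eq_inv_of_mul_eq_one_left ?_⟩
  rw [Nat.cast_pow, Nat.cast_ofNat, ← pow_succ,
    show Fintype.card F - 2 + 1 = Fintype.card F - 1 by have := Fintype.one_lt_card (α := F); omega]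
  exact FiniteField.pow_card_sub_one_eq_one 2 h2

lemma half_mem [Fintype F] (h2 : (2 : F) ≠ 0) {W : Type*} [AddCommGroup W] [Module F W] {Z : AddSubgroup W}
    {x : W} (h : (2 : F) • x ∈ Z) : x ∈ Z := by
  obtain ⟨m, hm⟩ := exists_nat_half (F := F) h2
  have := Z.nsmul_mem h m
  rwa [← Nat.cast_smul_eq_nsmul F, hm, inv_smul_smul₀ h2] at this

/-- A field with more than three elements has an element other than `0`, `1` and `-1`. -/
lemma exists_scalar [Fintype F] (hq : 5 ≤ Fintype.card F) : ∃ s : F, s ≠ 0 ∧ s * s ≠ 1 := by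
  classical
  by_contra hcon
  push Not at hcon
  have hsub : (Finset.univ : Finset F) ⊆ {0, 1, -1} := fun x _ => by
    rcases eq_or_ne x 0 with rfl | hx
    · simp
    · have : (x - 1) * (x + 1) = 0 := by linear_combination hcon x hx
      rcases mul_eq_zero.1 this with h | h
      · simp [sub_eq_zero.1 h]
      · simp [eq_neg_of_add_eq_zero_left h]
  have := (Finset.card_le_card hsub).trans (Finset.card_le_three)
  rw [Finset.card_univ] at this
  omega

namespace Sym

variable (S : Sym F k)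

/-- A set of matrices closed under conjugation by the Siegel elements of the slot `m`. -/
def Inv (Z : AddSubgroup (Matrix (Fin t → Fin k) (Fin t → Fin k) F)) (m : Fin t) : Prop :=
  ∀ e w, S.bb e e = 0 → S.bb e w = 0 → ∀ X ∈ Z, L m (S.Ad e w) X ∈ Z

variable {S} {Z : AddSubgroup (Matrix (Fin t → Fin k) (Fin t → Fin k) F)} {m : Fin t}
  {X : Matrix (Fin t → Fin k) (Fin t → Fin k) F} [Fintype F]

/-- The derivation of a slot. -/
lemma Inv.br_mem (hZ : S.Inv Z m) (hX : X ∈ Z) (hs : InS m S.so1 X) {e w : Fin k → F}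
    (he : S.bb e e = 0) (hw : S.bb e w = 0) : L m (br (S.N e w)) X ∈ Z := by
  refine half_mem S.two ?_
  have h := Z.sub_mem (hZ e w he hw X hX) (hZ e (-w) he (by rw [S.bb_neg_right, hw, neg_zero]) X hX)
  rwa [← LinearMap.sub_apply, ← L_sub, L_congr hs (ψ := (2 : F) • br (S.N e w)) fun Y hY => by
    rw [LinearMap.sub_apply, S.Ad_sub_Ad he hw hY, LinearMap.smul_apply], L_smul, LinearMap.smul_apply] at h

/-- A non-zero multiple of the sandwich of a slot. -/
lemma Inv.Pi_mem (hZ : S.Inv Z m) (hbig : 5 ≤ Fintype.card F ∨ 4 ≤ k) (hX : X ∈ Z) (p : S.Pr) :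
    ∃ c : F, c ≠ 0 ∧ c • L m (S.Pi p.e) X ∈ Z := by
  have h8 : (8 : F) ≠ 0 := by
    rw [show (8 : F) = 2 * (2 * 2) by norm_num]; exact mul_ne_zero S.two (mul_ne_zero S.two S.two)
  obtain ⟨a, ha, hQa⟩ := p.exists_aniso
  have hA : ∀ w, p.InW w → L m (S.Ad p.e w) X ∈ Z := fun w hw => hZ _ _ p.he hw.1 X hX
  rcases hbig with hq | hk
  · obtain ⟨l, hl0, hl1⟩ := exists_scalar hq
    have hlm : l * l⁻¹ = 1 := mul_inv_cancel₀ hl0
    refine ⟨8 * ((l - l⁻¹) * (l - l⁻¹)) * (S.Q a * S.Q a), mul_ne_zero (mul_ne_zero h8 ?_) (mul_ne_zero hQa hQa), ?_⟩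
    · have : l - l⁻¹ ≠ 0 := fun h => hl1 (by rw [sub_eq_zero] at h; nth_rw 2 [h]; exact hlm)
      exact mul_ne_zero this this
    rw [← LinearMap.smul_apply, ← L_smul, ← S.Pi_combo_line p.he ha.1 hlm]
    simp only [L_sub, L_add, LinearMap.sub_apply, LinearMap.add_apply]
    have h1 := hA _ (ha.smul (l + l⁻¹))
    have h2 := hA _ (ha.smul (l + l⁻¹)).neg
    have h3 := hA _ (ha.smul l)
    have h4 := hA _ (ha.smul l).neg
    have h5 := hA _ (ha.smul l⁻¹)
    have h6 := hA _ (ha.smul l⁻¹).neg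
    have h7 := hA _ (ha.smul 2)
    have h8' := hA _ (ha.smul 2).neg
    have h9 := hA _ ha
    have h10 := hA _ ha.neg
    exact Z.sub_mem (Z.sub_mem (Z.sub_mem (Z.sub_mem (Z.sub_mem (Z.add_mem h1 h2) h3) h4) h5) h6)
      (Z.sub_mem (Z.sub_mem (Z.sub_mem (Z.sub_mem (Z.add_mem h7 h8') h9) h10) h9) h10)
  · obtain ⟨b, hb, hab, hQb⟩ := p.exists_orth hk ha hQa
    refine ⟨8 * (S.Q a * S.Q b), mul_ne_zero h8 (mul_ne_zero hQa hQb), ?_⟩
    rw [← LinearMap.smul_apply, ← L_smul, ← S.Pi_combo_two p.he ha.1 hb.1 hab]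
    simp only [L_sub, L_add, L_smul, LinearMap.sub_apply, LinearMap.add_apply, LinearMap.smul_apply]
    rw [show (2 : F) = ((2 : ℕ) : F) by norm_num, show (4 : F) = ((4 : ℕ) : F) by norm_num,
      Nat.cast_smul_eq_nsmul, Nat.cast_smul_eq_nsmul]
    exact Z.add_mem (Z.sub_mem (Z.add_mem (Z.add_mem (Z.add_mem (hA _ (ha.add hb)) (hA _ (ha.add hb.neg)))
      (hA _ (ha.neg.add hb))) (hA _ (ha.neg.add hb.neg)))
      (Z.nsmul_mem (Z.add_mem (Z.add_mem (Z.add_mem (hA _ ha) (hA _ ha.neg)) (hA _ hb)) (hA _ hb.neg)) 2))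
      (Z.nsmul_mem (hA 0 ⟨S.bb_zero_right _, S.bb_zero_right _⟩) 4)

/-- A skew map killed by every double derivation vanishes. -/
lemma eq_zero_of_br_br {Y : Matrix (Fin k) (Fin k) F} (hY : Y ∈ S.so)
    (h : ∀ p : S.Pr, ∀ w, p.InW w → br (S.N p.e w) (br (S.N p.e w) Y) = 0) : Y = 0 := by
  have heig : ∀ p : S.Pr, Y *ᵥ p.e = S.bb (Y *ᵥ p.e) p.f • p.e := by
    intro p
    obtain ⟨w, hw, hQ⟩ := p.exists_aniso
    have hN := S.N_mul_N p.he hw.1 hw.1
    have e0 : br (S.N p.e w) (br (S.N p.e w) Y) =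
        (-S.bb w w) • (S.P p.e * Y + Y * S.P p.e) - (2 : F) • (S.N p.e w * Y * S.N p.e w) := by
      simp only [br_apply, mul_sub, sub_mul, ← mul_assoc, hN, smul_mul_assoc]
      rw [mul_assoc Y (S.N p.e w), hN, mul_smul_comm]
      module
    have h1 := congrArg (fun A => A *ᵥ p.f) (e0.symm.trans (h p w hw))
    have e1 : S.N p.e w *ᵥ p.f = w := by
      rw [N_mulVec, p.h1', hw.2, one_smul, zero_smul, sub_zero]
    have e2 : S.N p.e w *ᵥ (Y *ᵥ w) = (-S.bb (Y *ᵥ p.e) w) • w := by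
      rw [N_mulVec, S.bb_skew_self hY, S.bb_skew hY w p.e, S.bb_comm w, zero_smul, sub_zero]
    have e3 : S.bb (Y *ᵥ p.f) p.e = -S.bb (Y *ᵥ p.e) p.f := by rw [S.bb_skew hY, S.bb_comm p.f]
    simp only [Matrix.sub_mulVec, Matrix.smul_mulVec, Matrix.add_mulVec, Matrix.zero_mulVec,
      ← Matrix.mulVec_mulVec, P_mulVec, Matrix.mulVec_smul, p.h1', one_smul, e1, e2, e3, S.bb_self w] at h1
    have h2 : S.bb (Y *ᵥ p.e) w = 0 := by
      have := congrArg (fun x => S.bb x w) h1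
      simp only [S.bb_sub_left, S.bb_smul_left, S.bb_add_left, S.bb_zero_left, hw.1, S.bb_self w] at this
      have e : (2 : F) * S.Q w * S.bb (Y *ᵥ p.e) w = 0 := by linear_combination this
      exact (mul_eq_zero.1 e).resolve_left (mul_ne_zero S.two hQ)
    rw [h2] at h1
    simp only [neg_zero, zero_smul, smul_zero, sub_zero, smul_eq_zero, neg_eq_zero, mul_eq_zero, S.two, hQ,
      false_or, neg_smul] at h1
    exact eq_of_sub_eq_zero (by rw [← h1]; abel)
  have hsing : ∀ x, S.bb x x = 0 → Y *ᵥ x = 0 := by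
    intro x hx
    rcases eq_or_ne x 0 with rfl | hx0
    · exact Matrix.mulVec_zero Y
    obtain ⟨p, rfl⟩ := exists_pr_of hx hx0
    obtain ⟨w, hw, hQ⟩ := p.exists_aniso
    set u := p.e + w + (-S.Q w) • p.f with hu
    have hfu : S.bb u p.f = 1 := by
      rw [hu, S.bb_add_left, S.bb_add_left, S.bb_smul_left, p.h1, p.hf, S.bb_comm w, hw.2]; ring
    have hue : S.bb u p.e = -S.Q w := by
      rw [hu, S.bb_add_left, S.bb_add_left, S.bb_smul_left, p.he, S.bb_comm w, hw.1, p.h1']; ring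
    have huu : S.bb u u = 0 := by
      conv_lhs => arg 2; rw [hu]
      rw [S.bb_add_right, S.bb_add_right, S.bb_smul_right, hfu, hue]
      rw [S.bb_add_left, S.bb_add_left, S.bb_smul_left, hw.1, hw.2, S.bb_self]
      ring
    let p2 : S.Pr := ⟨u, p.f, huu, p.hf, hfu⟩
    have e0 := heig p
    have e1 := heig p.swap
    have e2 := heig p2
    simp only [Pr.swap, p2] at e1 e2
    set l0 := S.bb (Y *ᵥ p.e) p.f
    set l1 := S.bb (Y *ᵥ p.f) p.e
    set l2 := S.bb (Y *ᵥ u) p.f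
    have r01 : l0 + l1 = 0 := by
      have := S.bb_skew hY p.e p.f
      rw [e1, S.bb_smul_right, p.h1] at this
      linear_combination this
    have r02 : l0 + l2 = 0 := by
      have := S.bb_skew hY p.e u
      rw [e0, e2, S.bb_smul_left, S.bb_smul_right, S.bb_comm p.e u, hue] at this
      exact (mul_eq_zero.1 (by linear_combination -this : (l0 + l2) * S.Q w = 0)).resolve_right hQ
    have r12 : l1 + l2 = 0 := by
      have := S.bb_skew hY p.f u
      rw [e1, e2, S.bb_smul_left, S.bb_smul_right, S.bb_comm p.f u, hfu] at this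
      linear_combination this
    rw [e0, (mul_eq_zero.1 (by linear_combination r01 + r02 - r12 : (2 : F) * l0 = 0)).resolve_left S.two,
      zero_smul]
  refine Matrix.ext_of_mulVec_single fun q => ?_
  rw [Matrix.zero_mulVec]
  exact mem_of_singular (S := S)
    { carrier := {x | Y *ᵥ x = 0}
      zero_mem' := Matrix.mulVec_zero Y
      add_mem' := fun {x y} (hx : Y *ᵥ x = 0) (hy : Y *ᵥ y = 0) => by
        show Y *ᵥ (x + y) = 0
        rw [Matrix.mulVec_add, hx, hy, add_zero]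
      neg_mem' := fun {x} (hx : Y *ᵥ x = 0) => by
        show Y *ᵥ (-x) = 0
        rw [Matrix.mulVec_neg, hx, neg_zero] } hsing _

/-- Two steps back and forth on the radical of a singular vector. -/
lemma br_br_N (p : S.Pr) {c d x : Fin k → F} (hc : p.InW c) (hd : p.InW d) (hx : p.InW x) :
    br (S.N p.e d) (br (S.N p.f c) (S.N p.e x)) =
      S.N p.e ((-S.bb d c) • x + S.bb x d • c - S.bb x c • d) := by
  rw [S.br_N (S.N_mem_so _ _), map_add, S.br_N (S.N_mem_so _ _), S.br_N (S.N_mem_so _ _)]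
  simp only [N_mulVec, p.h1, p.h1', p.he, p.hf, hc.1, hc.2, hd.1, hd.2, hx.1, hx.2, S.bb_comm x p.f,
    S.bb_comm x p.e, S.bb_comm c p.e, S.bb_comm d p.e, S.bb_comm c p.f, one_smul, zero_smul, zero_sub, sub_zero,
    Matrix.mulVec_neg, Matrix.mulVec_smul, S.N_add, S.N_smul, S.N_neg, S.N_zero, S.bb_neg_left, S.bb_smul_left]
  simp only [N, S.op_smul_left, S.op_smul_right, sub_eq_add_neg, ← neg_smul, S.op_add_left, S.op_add_right,
    ← neg_one_smul F d, ← neg_one_smul F c, S.bb_comm c d, S.op_zero_left, S.op_zero_right]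
  module

end Sym

end CfsgLib.ClassicalMax.OWr
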