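/-
Reduction of a slot to the radical of a singular vector, and to one line of it.
-/
import Cfsg.Agent.Lib.ClassicalMax.OrthWreath.Ops
set_option autoImplicit false
set_option linter.unusedSectionVars false
set_option linter.unusedVariables false
set_option linter.unusedSimpArgs false

namespace CfsgLib.ClassicalMax.OWr

open Matrix Cfsg.Geo
open CfsgLib.ClassicalMax.TWreath

variable {F : Type*} [Field F] {k t : ℕ}

namespace Sym

variable {S : Sym F k}

lemma Pr.inW_zero (p : S.Pr) : p.InW 0 := ⟨S.bb_zero_right _, S.bb_zero_right _⟩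

/-- The radical of the pair. -/
def Pr.Nr (p : S.Pr) : Submodule F (Matrix (Fin k) (Fin k) F) where
  carrier := {Y | ∃ w, p.InW w ∧ Y = S.N p.e w}
  add_mem' := by
    rintro _ _ ⟨w, hw, rfl⟩ ⟨w', hw', rfl⟩
    exact ⟨w + w', hw.add hw', (S.N_add _ _ _).symm⟩
  zero_mem' := ⟨0, p.inW_zero, (S.N_zero _).symm⟩
  smul_mem' := by
    rintro c _ ⟨w, hw, rfl⟩
    exact ⟨c • w, hw.smul c, (S.N_smul _ _ _).symm⟩

lemma Pr.Nr_le (p : S.Pr) : p.Nr ≤ S.so := by
  rintro _ ⟨w, -, rfl⟩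
  exact S.N_mem_so _ _

lemma Pr.Nr_le_so1 (p : S.Pr) : p.Nr ≤ S.so1 := le_trans p.Nr_le le_sup_left

lemma Pr.N_inj {p : S.Pr} {w w' : Fin k → F} (hw : p.InW w) (hw' : p.InW w')
    (h : S.N p.e w = S.N p.e w') : w = w' := by
  have := congrArg (fun A => A *ᵥ p.f) h
  simpa [N_mulVec, p.h1', hw.2, hw'.2] using this

lemma Pr.N_ne_zero {p : S.Pr} {w : Fin k → F} (hw : p.InW w) (hw0 : w ≠ 0) : S.N p.e w ≠ 0 := fun h =>
  hw0 (Pr.N_inj hw p.inW_zero (by rw [h, S.N_zero]))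

lemma Pr.decomp (p : S.Pr) {Y : Matrix (Fin k) (Fin k) F} {γ : (Fin k → F) → Fin k → F}
    (h : ∀ v, Y *ᵥ v = γ v) : Y = Matrix.of fun i j => γ (Pi.single j 1) i := by
  refine Matrix.ext_of_mulVec_single fun j => ?_
  rw [h]
  funext i
  simp [Matrix.mulVec_single]

/-- A skew map killing the singular vector and sending the orthogonal of the pair into its line. -/
lemma Pr.mem_Nr (p : S.Pr) {Y : Matrix (Fin k) (Fin k) F} (hY : Y ∈ S.so) (h1 : Y *ᵥ p.e = 0)
    (h2 : ∀ v, p.InW v → Y *ᵥ v = S.bb (Y *ᵥ v) p.f • p.e) : Y ∈ p.Nr := by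
  set a := Y *ᵥ p.f with ha
  have ha' : p.InW a := by
    refine ⟨?_, ?_⟩
    · rw [S.bb_comm, ha, S.bb_skew hY, h1, S.bb_zero_right, neg_zero]
    · rw [S.bb_comm, ha]; exact S.bb_skew_self hY _
  refine ⟨a, ha', Matrix.ext_of_mulVec_single fun j => ?_⟩
  set x : Fin k → F := Pi.single j 1
  have hz := h2 _ (p.pr_mem x)
  conv_lhs => rw [p.eq_pr_add x, Matrix.mulVec_add, Matrix.mulVec_add, Matrix.mulVec_smul, Matrix.mulVec_smul, h1,
    smul_zero, add_zero, hz, S.bb_skew hY, ← ha]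
  conv_rhs => rw [N_mulVec]
  rw [show S.bb x a = S.bb (p.pr x) a by
    conv_lhs => rw [p.eq_pr_add x]
    rw [S.bb_add_left, S.bb_add_left, S.bb_smul_left, S.bb_smul_left, ha'.1, ha'.2]
    ring, neg_smul]
  abel

variable [Fintype F]

/-- A map whose form vanishes on the singular vectors is skew up to a scalar. -/
lemma mem_so1_of_singular (hbig : 5 ≤ Fintype.card F ∨ 4 ≤ k) {Y : Matrix (Fin k) (Fin k) F}
    (h : ∀ e, S.bb e e = 0 → S.bb (Y *ᵥ e) e = 0) : Y ∈ S.so1 := by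
  set Y' := (2⁻¹ : F) • (Y + S.adj Y) with hY'def
  have hsym : ∀ x z, S.bb (Y' *ᵥ x) z = S.bb (Y' *ᵥ z) x := fun x z => by
    rw [S.bb_adj Y', hY'def, adj_smul, adj_add, adj_adj, add_comm (S.adj Y), S.bb_comm]
  have h' : ∀ e, S.bb e e = 0 → S.bb (Y' *ᵥ e) e = 0 := fun e he => by
    rw [hY'def, Matrix.smul_mulVec, Matrix.add_mulVec, S.bb_smul_left, S.bb_add_left, h e he,
      S.bb_adj (S.adj Y), adj_adj, S.bb_comm, h e he, add_zero, mul_zero]
  -- the line of a pair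
  have key : ∀ (p : S.Pr) w, p.InW w →
      S.bb (Y' *ᵥ p.e) w = S.Q w * S.bb (Y' *ᵥ p.f) w ∧
      S.bb (Y' *ᵥ w) w = 2 * S.Q w * S.bb (Y' *ᵥ p.e) p.f := by
    intro p w hw
    have hu : ∀ w', p.InW w' → S.bb (Y' *ᵥ (p.e + w' + (-S.Q w') • p.f)) (p.e + w' + (-S.Q w') • p.f) = 0 := by
      intro w' hw'
      refine h' _ ?_
      simp only [S.bb_add_left, S.bb_add_right, S.bb_smul_left, S.bb_smul_right, p.he, p.hf, p.h1, p.h1',
        hw'.1, hw'.2, S.bb_comm w' p.e, S.bb_comm w' p.f, S.bb_self]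
      ring
    have a1 := hu w hw
    have a2 := hu (-w) hw.neg
    simp only [Matrix.mulVec_add, Matrix.mulVec_smul, Matrix.mulVec_neg, S.bb_add_left, S.bb_add_right,
      S.bb_smul_left, S.bb_smul_right, S.bb_neg_left, S.bb_neg_right, S.Q_neg, h' _ p.he, h' _ p.hf,
      hsym p.f p.e, hsym w p.e, hsym w p.f] at a1 a2
    have h4 : (4 : F) ≠ 0 := by rw [show (4 : F) = 2 * 2 by norm_num]; exact mul_ne_zero S.two S.two
    refine ⟨mul_left_cancel₀ h4 (by linear_combination a1 - a2), mul_left_cancel₀ S.two (by linear_combination a1 + a2)⟩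
  have hab : ∀ (p : S.Pr) w, p.InW w → S.bb (Y' *ᵥ p.e) w = 0 := by
    intro p w hw
    by_cases hQ : S.Q w = 0
    · rw [(key p w hw).1, hQ, zero_mul]
    rcases hbig with hq | hk
    · obtain ⟨s, hs, hs1⟩ := exists_scalar hq
      have h1 := (key p w hw).1
      have h2 := (key p _ (hw.smul s)).1
      rw [S.bb_smul_right, S.bb_smul_right, S.Q_smul] at h2
      have : s * (1 - s * s) * S.bb (Y' *ᵥ p.e) w = 0 := by linear_combination h2 - (s * s * s) * h1
      exact (mul_eq_zero.1 this).resolve_left (mul_ne_zero hs (sub_ne_zero.2 (Ne.symm hs1)))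
    · obtain ⟨w', hw', horth, hQ'⟩ := p.exists_orth hk hw hQ
      have h1 := (key p w hw).1
      have h2 := (key p _ (hw.add hw')).1
      have h3 := (key p _ (hw.add hw'.neg)).1
      simp only [S.bb_add_right, S.bb_neg_right, S.Q_add, S.Q_neg, horth, neg_zero, add_zero] at h2 h3
      have : (2 : F) * S.Q w' * S.bb (Y' *ᵥ p.f) w = 0 := by linear_combination 2 * h1 - h2 - h3
      rw [h1, (mul_eq_zero.1 this).resolve_left (mul_ne_zero S.two hQ'), mul_zero]
  obtain ⟨p⟩ := S.exists_pr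
  set μ := S.bb (Y' *ᵥ p.e) p.f
  have hbf : ∀ w, p.InW w → S.bb (Y' *ᵥ p.f) w = 0 := fun w hw => hab p.swap w hw.swap
  have hq : ∀ x, S.bb (Y' *ᵥ x) x = μ * S.bb x x := by
    intro x
    have hw := p.pr_mem x
    rw [p.eq_pr_add x]
    simp only [Matrix.mulVec_add, Matrix.mulVec_smul, S.bb_add_left, S.bb_add_right, S.bb_smul_left,
      S.bb_smul_right, h' _ p.he, h' _ p.hf, hsym p.f p.e, hsym (p.pr x) p.e, hsym (p.pr x) p.f, hab p _ hw,
      hbf _ hw, (key p _ hw).2, p.he, p.hf, p.h1, p.h1', hw.1, hw.2, S.bb_comm (p.pr x) p.e,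
      S.bb_comm (p.pr x) p.f, S.bb_self (p.pr x)]
    ring
  have hT : Y' = μ • 1 := by
    refine Matrix.ext_of_mulVec_single fun j => ?_
    set x : Fin k → F := Pi.single j 1
    rw [← sub_eq_zero]
    refine S.eq_zero_of_bb fun v => ?_
    have e := hq (x + v)
    simp only [Matrix.mulVec_add, S.bb_add_left, S.bb_add_right, hq x, hq v, hsym v x, S.bb_comm v x] at e
    rw [show (μ • (1 : Matrix (Fin k) (Fin k) F)) *ᵥ x = μ • x by rw [Matrix.smul_mulVec, Matrix.one_mulVec],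
      S.bb_comm, S.bb_sub_left, S.bb_smul_left]
    exact (mul_eq_zero.1 (by linear_combination e :
      (2 : F) * (S.bb (Y' *ᵥ x) v - μ * S.bb x v) = 0)).resolve_left S.two
  refine Submodule.mem_sup.2 ⟨(2⁻¹ : F) • (Y - S.adj Y), ?_, Y', hT ▸ Submodule.smul_mem _ μ
    (Submodule.mem_span_singleton_self _), ?_⟩
  · rw [mem_so, adj_smul, adj_sub, adj_adj, ← smul_neg, neg_sub]
  · rw [hY'def, ← smul_add, show Y - S.adj Y + (Y + S.adj Y) = (2 : F) • Y by rw [two_smul]; abel,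
      inv_smul_smul₀ S.two]

/-- Double derivations land in the radical. -/
lemma br_br_mem_Nr (p : S.Pr) {w : Fin k → F} (hw : p.InW w) {Y : Matrix (Fin k) (Fin k) F}
    (hY : Y ∈ S.so1) : br (S.N p.e w) (br (S.N p.e w) Y) ∈ p.Nr := by
  have hY1 : br (S.N p.e w) Y ∈ S.so := S.br_so1 (S.N_mem_so _ _) hY
  refine p.mem_Nr (S.br_mem_so (S.N_mem_so _ _) hY1) ?_ fun v hv => ?_
  · have e : S.N p.e w *ᵥ p.e = 0 := by rw [N_mulVec, p.he, hw.1]; simp
    rw [br_apply, Matrix.sub_mulVec, ← Matrix.mulVec_mulVec, ← Matrix.mulVec_mulVec _ _ (S.N p.e w), e,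
      Matrix.mulVec_zero, sub_zero, br_apply, Matrix.sub_mulVec, ← Matrix.mulVec_mulVec,
      ← Matrix.mulVec_mulVec _ _ (S.N p.e w), e, Matrix.mulVec_zero, sub_zero, Matrix.mulVec_mulVec,
      S.N_mul_N p.he hw.1 hw.1, Matrix.smul_mulVec, P_mulVec]
    obtain ⟨Y', hY', s, hs, rfl⟩ := Submodule.mem_sup.1 hY
    obtain ⟨c, rfl⟩ := Submodule.mem_span_singleton.1 hs
    simp [Matrix.add_mulVec, Matrix.smul_mulVec, S.bb_add_left, S.bb_smul_left, S.bb_skew_self hY', p.he]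
  · have e2 : S.N p.e w *ᵥ v = (-S.bb v w) • p.e := by
      rw [N_mulVec, S.bb_comm v p.e, hv.1, zero_smul, zero_sub, neg_smul]
    have h0 : ∀ Z : Matrix (Fin k) (Fin k) F, S.bb (Z *ᵥ p.e) p.e = 0 →
        ∀ c : F, S.N p.e w *ᵥ (c • (Z *ᵥ p.e)) ∈ Submodule.span F {p.e} := fun Z hZ c => by
      rw [Matrix.mulVec_smul, N_mulVec, hZ, zero_smul, zero_sub, ← neg_smul]
      exact Submodule.smul_mem _ _ (Submodule.smul_mem _ _ (Submodule.mem_span_singleton_self _))
    have hmem : br (S.N p.e w) (br (S.N p.e w) Y) *ᵥ v ∈ Submodule.span F {p.e} := by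
      rw [br_apply (S.N p.e w) (br _ Y), Matrix.sub_mulVec, ← Matrix.mulVec_mulVec,
        ← Matrix.mulVec_mulVec _ _ (S.N p.e w), e2, Matrix.mulVec_smul, br_apply, Matrix.sub_mulVec,
        Matrix.sub_mulVec, Matrix.mulVec_sub, ← Matrix.mulVec_mulVec, ← Matrix.mulVec_mulVec,
        Matrix.mulVec_mulVec _ (S.N p.e w) (S.N p.e w), S.N_mul_N p.he hw.1 hw.1, e2, Matrix.mulVec_smul,
        ← Matrix.mulVec_mulVec, ← Matrix.mulVec_mulVec _ _ (S.N p.e w),
        show S.N p.e w *ᵥ p.e = 0 by rw [N_mulVec, p.he, hw.1]; simp, Matrix.mulVec_zero, sub_zero]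
      obtain ⟨Y', hY', s, hs, rfl⟩ := Submodule.mem_sup.1 hY
      obtain ⟨c, rfl⟩ := Submodule.mem_span_singleton.1 hs
      have hee : S.bb ((Y' + c • 1) *ᵥ p.e) p.e = 0 := by
        simp [Matrix.add_mulVec, Matrix.smul_mulVec, S.bb_add_left, S.bb_smul_left, S.bb_skew_self hY', p.he]
      refine Submodule.sub_mem _ (Submodule.sub_mem _ ?_ (h0 _ hee _)) (Submodule.smul_mem _ _ ?_)
      · rw [Matrix.smul_mulVec, P_mulVec]
        exact Submodule.smul_mem _ _ (Submodule.smul_mem _ _ (Submodule.mem_span_singleton_self _))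
      · simpa using h0 _ hee 1
    obtain ⟨c, hc⟩ := Submodule.mem_span_singleton.1 hmem
    rw [← hc, S.bb_smul_left, p.h1, mul_one]

variable {Z : AddSubgroup (Matrix (Fin t → Fin k) (Fin t → Fin k) F)} {m : Fin t}
  {X : Matrix (Fin t → Fin k) (Fin t → Fin k) F}

/-- A slot is scalar, or a derivative has it in a radical. -/
lemma Inv.step (hZ : S.Inv Z m) (hso : ∀ Y ∈ Z, InS m S.so1 Y) (hX : X ∈ Z) :
    InS m (Submodule.span F {(1 : Matrix (Fin k) (Fin k) F)}) X ∨
      ∃ (φ : Matrix (Fin k) (Fin k) F →ₗ[F] Matrix (Fin k) (Fin k) F) (p : S.Pr),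
        L m φ X ∈ Z ∧ L m φ X ≠ 0 ∧ InS m p.Nr (L m φ X) := by
  by_cases hall : ∀ (p : S.Pr) w, p.InW w → L m (br (S.N p.e w) ∘ₗ br (S.N p.e w)) X = 0
  · refine Or.inl fun a b => ?_
    obtain ⟨Y, hY, s, hs, hsum⟩ := Submodule.mem_sup.1 (hso X hX a b)
    have hY0 : Y = 0 := eq_zero_of_br_br hY fun p w hw => by
      have := comp_ker (hall p w hw) a b
      rw [LinearMap.comp_apply, ← hsum] at this
      obtain ⟨c, rfl⟩ := Submodule.mem_span_singleton.1 hs
      rwa [map_add, map_smul, br_one, smul_zero, add_zero] at this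
    rw [← hsum, hY0, zero_add]
    exact hs
  · push Not at hall
    obtain ⟨p, w, hw, hne⟩ := hall
    refine Or.inr ⟨_, p, ?_, hne, InS.map (hso X hX) fun Y hY => br_br_mem_Nr p hw hY⟩
    rw [← L_comp]
    have h1 := hZ.br_mem hX (hso X hX) p.he hw.1
    exact hZ.br_mem h1 (hso _ h1) p.he hw.1

/-- Closed under two steps back and forth. -/
def ClO (Z : AddSubgroup (Matrix (Fin t → Fin k) (Fin t → Fin k) F)) (m : Fin t) (p : S.Pr) : Prop :=
  ∀ c d, p.InW c → p.InW d → ∀ X ∈ Z, InS m p.Nr X → L m (br (S.N p.e d) ∘ₗ br (S.N p.f c)) X ∈ Z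

lemma Inv.clO (hZ : S.Inv Z m) (hso : ∀ Y ∈ Z, InS m S.so1 Y) (p : S.Pr) : ClO Z m p := by
  intro c d hc hd X hX _
  rw [← L_comp]
  have h1 := hZ.br_mem hX (hso X hX) p.hf hc.2
  exact hZ.br_mem h1 (hso _ h1) p.he hd.1

/-- Two steps back and forth stay in the radical. -/
lemma opO_mem (p : S.Pr) {c d : Fin k → F} (hc : p.InW c) (hd : p.InW d) :
    ∀ Y ∈ p.Nr, (br (S.N p.e d) ∘ₗ br (S.N p.f c)) Y ∈ p.Nr := by
  rintro _ ⟨x, hx, rfl⟩
  refine ⟨_, ?_, br_br_N p hc hd hx⟩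
  rw [sub_eq_add_neg, ← neg_smul]
  exact ((hx.smul _).add (hc.smul _)).add (hd.smul _)

lemma ClO.scalar {p : S.Pr} (hZ : ClO Z m p) (hX : X ∈ Z) (hN : InS m p.Nr X) (s : F) : s • X ∈ Z := by
  obtain ⟨c, hc, hQ⟩ := p.exists_aniso
  have h := hZ c (((-(2 * S.Q c))⁻¹ * s) • c) hc (hc.smul _) X hX hN
  rwa [L_eq_smul hN (c := s)] at h
  rintro _ ⟨x, hx, rfl⟩
  rw [LinearMap.comp_apply, br_br_N p hc (hc.smul _) hx, ← S.N_smul]
  congr 1
  rw [S.bb_smul_left, S.bb_smul_right, S.bb_self]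
  have h2 := mul_ne_zero S.two hQ
  match_scalars <;> field_simp [S.two, hQ] <;> ring

lemma Pr.exists_orth3 (p : S.Pr) (hk : 5 ≤ k) {x y : Fin k → F} (hx : p.InW x) (hy : p.InW y)
    (hxy : S.bb x y = 0) (hQx : S.Q x ≠ 0) (hQy : S.Q y ≠ 0) :
    ∃ z, p.InW z ∧ S.bb x z = 0 ∧ S.bb y z = 0 ∧ S.Q z ≠ 0 := by
  classical
  have h2x : S.bb x x ≠ 0 := by rw [S.bb_self]; exact mul_ne_zero S.two hQx
  have h2y : S.bb y y ≠ 0 := by rw [S.bb_self]; exact mul_ne_zero S.two hQy
  obtain ⟨z, hz, hQz⟩ := exists_aniso_perp (S := S) (D := Submodule.span F ({p.e, p.f, x, y} : Finset (Fin k → F)))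
    (lt_of_le_of_lt ((finrank_span_finset_le_card _).trans Finset.card_le_four) hk) fun v => by
      refine ⟨S.bb v p.f • p.e + S.bb v p.e • p.f + (S.bb v x / S.bb x x) • x + (S.bb v y / S.bb y y) • y,
        ?_, fun d hd => ?_⟩
      · exact Submodule.add_mem _ (Submodule.add_mem _ (Submodule.add_mem _
          (Submodule.smul_mem _ _ (Submodule.subset_span (by simp)))
          (Submodule.smul_mem _ _ (Submodule.subset_span (by simp))))
          (Submodule.smul_mem _ _ (Submodule.subset_span (by simp))))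
          (Submodule.smul_mem _ _ (Submodule.subset_span (by simp)))
      · induction hd using Submodule.span_induction with
        | mem d hd =>
          simp only [Finset.coe_insert, Finset.coe_singleton, Set.mem_insert_iff, Set.mem_singleton_iff] at hd
          rcases hd with h | h | h | h <;>
            simp only [h, S.bb_sub_right, S.bb_add_right, S.bb_smul_right, p.he, p.hf, p.h1, p.h1', hx.1, hx.2,
              hy.1, hy.2, hxy, S.bb_comm y x, S.bb_comm x p.e, S.bb_comm x p.f, S.bb_comm y p.e,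
              S.bb_comm y p.f, S.bb_comm p.e v, S.bb_comm p.f v, S.bb_comm x v, S.bb_comm y v] <;>
            field_simp <;> ring
        | zero => rw [S.bb_zero_left]
        | add a b _ _ ha hb => rw [S.bb_add_left, ha, hb, add_zero]
        | smul c a _ ha => rw [S.bb_smul_left, ha, mul_zero]
  exact ⟨z, ⟨hz _ (Submodule.subset_span (by simp)), hz _ (Submodule.subset_span (by simp))⟩,
    hz _ (Submodule.subset_span (by simp)), hz _ (Submodule.subset_span (by simp)), hQz⟩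

/-- A slot in a radical is reduced to a line, except in dimension four. -/
lemma ClO.pure {p : S.Pr} (hZ : ClO Z m p) (hk : k ≠ 4) (hX : X ∈ Z) (hX0 : X ≠ 0) (hN : InS m p.Nr X) :
    ∃ (φ : Matrix (Fin k) (Fin k) F →ₗ[F] Matrix (Fin k) (Fin k) F) (a : Fin k → F), p.InW a ∧ S.Q a ≠ 0 ∧
      L m φ X ∈ Z ∧ L m φ X ≠ 0 ∧ InS m (Submodule.span F {S.N p.e a}) (L m φ X) := by
  classical
  obtain ⟨a, ha, hQa⟩ := p.exists_aniso
  by_cases hk3 : k = 3
  · refine ⟨LinearMap.id, a, ha, hQa, by rwa [L_id], by rwa [L_id], ?_⟩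
    rw [L_id]
    intro r r'
    obtain ⟨w, hw, hwe⟩ := hN r r'
    refine Submodule.mem_span_singleton.2 ⟨S.bb w a / S.bb a a, ?_⟩
    rw [hwe, ← S.N_smul]
    congr 1
    set y := w - (S.bb w a / S.bb a a) • a with hy
    have hy' : p.InW y := by rw [hy, sub_eq_add_neg, ← neg_smul]; exact hw.add (ha.smul _)
    have hya : S.bb a y = 0 := by
      rw [hy, S.bb_sub_right, S.bb_smul_right, S.bb_comm a w]
      have : S.bb a a ≠ 0 := by rw [S.bb_self]; exact mul_ne_zero S.two hQa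
      field_simp; ring
    refine (sub_eq_zero.1 (?_ : y = 0)).symm
    by_contra hy0
    have hli : LinearIndependent F ![p.e, p.f, a, y] := by
      rw [Fintype.linearIndependent_iff]
      intro g hg
      simp only [Fin.sum_univ_four, Matrix.cons_val_zero, Matrix.cons_val_one, Matrix.cons_val_two,
        Matrix.cons_val_three, Matrix.head_cons, Matrix.tail_cons] at hg
      have e1 := congrArg (S.bb p.f) hg
      have e2 := congrArg (S.bb p.e) hg
      have e3 := congrArg (S.bb a) hg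
      simp only [S.bb_add_right, S.bb_smul_right, S.bb_zero_right, p.he, p.hf, p.h1, p.h1', ha.1, ha.2,
        hy'.1, hy'.2, hya, S.bb_comm a p.e, S.bb_comm a p.f, mul_zero, mul_one, add_zero, zero_add] at e1 e2 e3
      have g2 : g 2 = 0 := (mul_eq_zero.1 e3).resolve_right (by rw [S.bb_self]; exact mul_ne_zero S.two hQa)
      rw [e1, e2, g2] at hg
      simp only [zero_smul, zero_add, smul_eq_zero, hy0, or_false] at hg
      intro i
      fin_cases i
      exacts [e1, e2, g2, hg]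
    have := hli.fintype_card_le_finrank
    rw [Module.finrank_fin_fun, Fintype.card_fin] at this
    omega
  have hk5 : 5 ≤ k := by have := S.three_le; omega
  obtain ⟨r, r', hc⟩ : ∃ r r', comp m r r' X ≠ 0 := by
    by_contra h
    push Not at h
    exact hX0 (eq_zero_of_comp m h)
  obtain ⟨x, hx, hxe⟩ := hN r r'
  obtain ⟨e0, he0, hQe0, hxe0⟩ : ∃ e0, p.InW e0 ∧ S.Q e0 ≠ 0 ∧ S.bb x e0 ≠ 0 := by
    by_contra hcon
    push Not at hcon
    refine hc ?_
    rw [hxe, show x = 0 from ?_, S.N_zero]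
    refine S.eq_zero_of_bb fun v => ?_
    have h1 : ∀ w, p.InW w → S.bb x w = 0 := by
      intro w hw
      by_cases hQ : S.Q w = 0
      swap
      · exact hcon w hw hQ
      have hor : S.Q (w + a) ≠ 0 ∨ S.Q (w + -a) ≠ 0 := by
        by_contra h
        push Not at h
        rw [S.Q_add, S.Q_add, S.Q_neg, S.bb_neg_right, hQ] at h
        exact hQa ((mul_eq_zero.1 (by linear_combination h.1 + h.2 : (2 : F) * S.Q a = 0)).resolve_left S.two)
      rcases hor with h | h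
      · have := hcon _ (hw.add ha) h
        rwa [S.bb_add_right, hcon a ha hQa, add_zero] at this
      · have := hcon _ (hw.add ha.neg) h
        rwa [S.bb_add_right, S.bb_neg_right, hcon a ha hQa, neg_zero, add_zero] at this
    rw [p.eq_pr_add v, S.bb_comm, S.bb_add_right, S.bb_add_right, S.bb_smul_right, S.bb_smul_right,
      h1 _ (p.pr_mem v), S.bb_comm x p.e, S.bb_comm x p.f, hx.1, hx.2]
    ring
  obtain ⟨c, hc', hec, hQc⟩ := p.exists_orth (by omega) he0 hQe0
  obtain ⟨d, hd, hed, hcd, hQd⟩ := p.exists_orth3 hk5 he0 hc' hec hQe0 hQc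
  have e : ∀ x, p.InW x → ((br (S.N p.e d) ∘ₗ br (S.N p.f c)) ∘ₗ (br (S.N p.e e0) ∘ₗ br (S.N p.f c))) (S.N p.e x) =
      (-(2 * S.Q c) * S.bb x e0) • S.N p.e d := by
    intro x hx
    simp only [LinearMap.comp_apply]
    rw [br_br_N p hc' he0 hx, br_br_N p hc' hd (by
      rw [sub_eq_add_neg, ← neg_smul]; exact ((hx.smul _).add (hc'.smul _)).add (he0.smul _)), ← S.N_smul]
    congr 1
    simp only [S.bb_sub_left, S.bb_add_left, S.bb_smul_left, S.bb_comm c e0, S.bb_comm d c, hec, hed, hcd,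
      S.bb_self c]
    module
  refine ⟨(br (S.N p.e d) ∘ₗ br (S.N p.f c)) ∘ₗ (br (S.N p.e e0) ∘ₗ br (S.N p.f c)), d, hd, hQd, ?_, ?_,
    InS.map hN ?_⟩
  · rw [← L_comp]
    exact hZ c d hc' hd _ (hZ c e0 hc' he0 X hX hN) (InS.map hN (opO_mem p hc' he0))
  · intro h0
    have := comp_ker h0 r r'
    rw [hxe, e x hx, smul_eq_zero] at this
    rcases this with h | h
    · exact mul_ne_zero (neg_ne_zero.2 (mul_ne_zero S.two hQc)) hxe0 h
    · exact Pr.N_ne_zero hd (fun h0 => hQd (by rw [h0, S.Q_zero])) h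
  · rintro _ ⟨w, hw, rfl⟩
    rw [e w hw]
    exact Submodule.smul_mem _ _ (Submodule.mem_span_singleton_self _)

end Sym

end CfsgLib.ClassicalMax.OWr
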