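/-
From radicals to lines in several slots at once.
-/
import Cfsg.Agent.Lib.ClassicalMax.OrthWreath.Red
set_option autoImplicit false
set_option linter.unusedSectionVars false
set_option linter.unusedVariables false
set_option linter.unusedSimpArgs false

namespace CfsgLib.ClassicalMax.OWr

open Matrix Cfsg.Geo
open CfsgLib.ClassicalMax.TWreath

variable {F : Type*} [Field F] {k t : ℕ}

namespace Sym

variable (S : Sym F k)

/-- Conjugation by two reflections in two slots. -/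
def rr (n l : Fin t) (a b : Fin k → F) :
    Matrix (Fin t → Fin k) (Fin t → Fin k) F →ₗ[F] Matrix (Fin t → Fin k) (Fin t → Fin k) F :=
  L n (cjm (S.rf a) (S.rf a)) ∘ₗ L l (cjm (S.rf b) (S.rf b))

/-- No totally singular plane. -/
def NoPlane : Prop :=
  ∀ u r, S.bb u u = 0 → S.bb r r = 0 → S.bb u r = 0 → u ≠ 0 → ∃ c : F, c • u = r

variable {S}

lemma eq_zero_of_orth {n : ℕ} {v : Fin n → Fin k → F} (hli : LinearIndependent F v) (hn : n = k)
    {y : Fin k → F} (hy : ∀ i, S.bb (v i) y = 0) : y = 0 := by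
  subst hn
  refine S.eq_zero_of_bb fun x => ?_
  rcases Nat.eq_zero_or_pos n with h | h
  · subst h
    simp [bb]
  have : Nonempty (Fin n) := ⟨⟨0, h⟩⟩
  have hx : x ∈ Submodule.span F (Set.range v) := by
    rw [hli.span_eq_top_of_card_eq_finrank (by simp)]
    exact Submodule.mem_top
  induction hx using Submodule.span_induction with
  | mem x hx => obtain ⟨i, rfl⟩ := hx; exact hy i
  | zero => exact S.bb_zero_left _
  | add x z _ _ h1 h2 => rw [S.bb_add_left, h1, h2, add_zero]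
  | smul c x _ h1 => rw [S.bb_smul_left, h1, mul_zero]

/-- Coordinates in a four-dimensional space. -/
lemma Pr.coord_four (p : S.Pr) (hk : k = 4) {c d x : Fin k → F} (hc : p.InW c) (hd : p.InW d)
    (hcd : S.bb c d = 0) (hQc : S.Q c ≠ 0) (hQd : S.Q d ≠ 0) (hx : p.InW x) :
    x = (S.bb x c / S.bb c c) • c + (S.bb x d / S.bb d d) • d := by
  have h2c : S.bb c c ≠ 0 := by rw [S.bb_self]; exact mul_ne_zero S.two hQc
  have h2d : S.bb d d ≠ 0 := by rw [S.bb_self]; exact mul_ne_zero S.two hQd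
  have hli : LinearIndependent F ![p.e, p.f, c, d] := by
    rw [Fintype.linearIndependent_iff]
    intro g hg
    simp only [Fin.sum_univ_four, Matrix.cons_val_zero, Matrix.cons_val_one, Matrix.cons_val_two,
      Matrix.cons_val_three, Matrix.head_cons, Matrix.tail_cons] at hg
    have e1 := congrArg (S.bb p.f) hg
    have e2 := congrArg (S.bb p.e) hg
    have e3 := congrArg (S.bb c) hg
    have e4 := congrArg (S.bb d) hg
    simp only [S.bb_add_right, S.bb_smul_right, S.bb_zero_right, p.he, p.hf, p.h1, p.h1', hc.1, hc.2, hd.1, hd.2,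
      hcd, S.bb_comm d c, S.bb_comm c p.e, S.bb_comm c p.f, S.bb_comm d p.e, S.bb_comm d p.f, mul_zero, mul_one,
      add_zero, zero_add] at e1 e2 e3 e4
    intro i
    fin_cases i
    exacts [e1, e2, (mul_eq_zero.1 e3).resolve_right h2c, (mul_eq_zero.1 e4).resolve_right h2d]
  rw [← sub_eq_zero]
  refine eq_zero_of_orth (S := S) hli hk.symm fun i => ?_
  fin_cases i <;>
    simp only [Matrix.cons_val_zero, Matrix.cons_val_one, Matrix.cons_val_two, Matrix.cons_val_three,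
      Matrix.head_cons, Matrix.tail_cons, Fin.zero_eta, Fin.mk_one, Fin.reduceFinMk, Matrix.cons_val,
      S.bb_sub_right, S.bb_add_right, S.bb_smul_right, hc.1, hc.2, hd.1, hd.2, hx.1, hx.2, hcd,
      S.bb_comm d c, S.bb_comm c x, S.bb_comm d x] <;>
    field_simp <;> ring

variable [Fintype F]

lemma Pr.exists_unit (p : S.Pr) (hk : k = 4) (hplane : S.NoPlane) :
    ∃ c d, p.InW c ∧ p.InW d ∧ S.bb c d = 0 ∧ S.Q c = 1 ∧ S.Q d ≠ 0 ∧ ∀ s : F, s * s ≠ -S.Q d := by
  classical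
  obtain ⟨a, ha, hQa⟩ := p.exists_aniso
  obtain ⟨b, hb, hab, hQb⟩ := p.exists_orth (by omega) ha hQa
  have hodd : Fintype.card F % 2 = 1 := FiniteField.odd_card_of_char_ne_two fun h => S.two (by
    have : CharP F 2 := h ▸ ringChar.charP F
    exact CharTwo.two_eq_zero)
  obtain ⟨x, y, hxy⟩ := FiniteField.exists_root_sum_quadratic
    (f := Polynomial.C (S.Q a) * Polynomial.X ^ 2) (g := Polynomial.C (S.Q b) * Polynomial.X ^ 2 - 1)
    (Polynomial.degree_C_mul_X_pow 2 hQa) (by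
      rw [Polynomial.degree_sub_eq_left_of_degree_lt] <;> simp [Polynomial.degree_C_mul_X_pow 2 hQb]) hodd
  simp only [Polynomial.eval_mul, Polynomial.eval_C, Polynomial.eval_pow, Polynomial.eval_X, Polynomial.eval_sub,
    Polynomial.eval_one] at hxy
  set c := x • a + y • b with hc
  have hcW : p.InW c := (ha.smul x).add (hb.smul y)
  have hQc : S.Q c = 1 := by
    rw [hc, S.Q_add, S.Q_smul, S.Q_smul, S.bb_smul_left, S.bb_smul_right, hab]
    linear_combination hxy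
  obtain ⟨d, hd, hcd, hQd⟩ := p.exists_orth (by omega) hcW (by rw [hQc]; exact one_ne_zero)
  refine ⟨c, d, hcW, hd, hcd, hQc, hQd, fun s hs => ?_⟩
  have hu : p.InW (s • c + d) := (hcW.smul s).add hd
  have huu : S.bb (s • c + d) (s • c + d) = 0 := by
    rw [S.bb_self, S.Q_add, S.Q_smul, S.bb_smul_left, hcd, hQc]
    linear_combination (2 : F) * hs
  obtain ⟨r, hr⟩ := hplane p.e _ p.he huu hu.1 p.e_ne
  have h1 := congrArg (S.bb d) hr
  rw [S.bb_smul_right, S.bb_comm d p.e, hd.1, mul_zero, S.bb_add_right, S.bb_smul_right, S.bb_comm d c, hcd,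
    mul_zero, zero_add, S.bb_self] at h1
  exact mul_ne_zero S.two hQd h1.symm

variable {Z : AddSubgroup (Matrix (Fin t → Fin k) (Fin t → Fin k) F)} {D : Finset (Fin t)} {p : Fin t → S.Pr}
  {B0 : Fin t → Matrix (Fin k) (Fin k) F} {X : Matrix (Fin t → Fin k) (Fin t → Fin k) F}

/-- In lines off `D` and in radicals on `D`. -/
def Shape (D : Finset (Fin t)) (p : Fin t → S.Pr) (B0 : Fin t → Matrix (Fin k) (Fin k) F)
    (X : Matrix (Fin t → Fin k) (Fin t → Fin k) F) : Prop :=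
  (∀ l ∈ D, InS l (p l).Nr X) ∧ ∀ l ∉ D, InS l (Submodule.span F {B0 l}) X

lemma Shape.map (h : Shape D p B0 X) {m : Fin t} (hm : m ∈ D)
    {φ : Matrix (Fin k) (Fin k) F →ₗ[F] Matrix (Fin k) (Fin k) F} (hφ : ∀ Y ∈ (p m).Nr, φ Y ∈ (p m).Nr) :
    Shape D p B0 (L m φ X) := by
  refine ⟨fun l hl => ?_, fun l hl => InS.other (h.2 l hl) (fun e => hl (e ▸ hm)) φ⟩
  rcases eq_or_ne l m with rfl | hlm
  · exact InS.map (h.1 l hl) hφ
  · exact InS.other (h.1 l hl) hlm.symm φ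

theorem pure_big (hk : k ≠ 4) (hD : D.Nonempty) (hZ : ∀ l ∈ D, ClO Z l (p l)) (hX : X ∈ Z) (hX0 : X ≠ 0)
    (hs : Shape D p B0 X) :
    ∃ a : Fin t → Fin k → F, (∀ l ∈ D, (p l).InW (a l) ∧ S.Q (a l) ≠ 0) ∧
      pmat (fun l => if l ∈ D then S.N (p l).e (a l) else B0 l) ∈ Z := by
  classical
  obtain ⟨a0, -⟩ : ∃ a0 : Fin k → F, a0 = 0 := ⟨0, rfl⟩
  have : ∀ s : Finset (Fin t), s ⊆ D → ∃ (X' : Matrix (Fin t → Fin k) (Fin t → Fin k) F) (a : Fin t → Fin k → F),
      X' ∈ Z ∧ X' ≠ 0 ∧ Shape D p B0 X' ∧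
      ∀ l ∈ s, (p l).InW (a l) ∧ S.Q (a l) ≠ 0 ∧ InS l (Submodule.span F {S.N (p l).e (a l)}) X' := by
    intro s
    induction s using Finset.induction with
    | empty => exact fun _ => ⟨X, fun _ => 0, hX, hX0, hs, fun l hl => absurd hl (Finset.notMem_empty l)⟩
    | insert m s hm ih =>
      intro hsub
      obtain ⟨X', a, h1, h2, h3, h4⟩ := ih fun x hx => hsub (Finset.mem_insert_of_mem hx)
      have hmD := hsub (Finset.mem_insert_self m s)
      obtain ⟨φ, b, hb, hQb, hφ1, hφ2, hφ3⟩ := ClO.pure (hZ m hmD) hk h1 h2 (h3.1 m hmD)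
      refine ⟨_, Function.update a m b, hφ1, hφ2, ⟨fun l hl => ?_,
        fun l hl => InS.other (h3.2 l hl) (fun e => hl (e ▸ hmD)) φ⟩, fun l hl => ?_⟩
      · rcases eq_or_ne l m with rfl | hlm
        · exact hφ3.mono ((Submodule.span_singleton_le_iff_mem _ _).2 ⟨b, hb, rfl⟩)
        · exact InS.other (h3.1 l hl) hlm.symm φ
      · rcases eq_or_ne l m with rfl | hlm
        · rw [Function.update_self]; exact ⟨hb, hQb, hφ3⟩
        · rw [Function.update_of_ne hlm]
          obtain ⟨e1, e2, e3⟩ := h4 l ((Finset.mem_insert.1 hl).resolve_left hlm)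
          exact ⟨e1, e2, InS.other e3 hlm.symm φ⟩
  obtain ⟨X', a, h1, h2, h3, h4⟩ := this D subset_rfl
  refine ⟨a, fun l hl => ⟨(h4 l hl).1, (h4 l hl).2.1⟩, ?_⟩
  obtain ⟨c, hc⟩ := eq_smul_pmat (X := X') (B := fun l => if l ∈ D then S.N (p l).e (a l) else B0 l) fun l => by
    by_cases hl : l ∈ D
    · simp only [if_pos hl]; exact (h4 l hl).2.2
    · simp only [if_neg hl]; exact h3.2 l hl
  have hc0 : c ≠ 0 := fun e => h2 (by rw [hc, e, zero_smul])
  obtain ⟨l, hl⟩ := hD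
  have := (hZ l hl).scalar h1 (h3.1 l hl) c⁻¹
  rwa [hc, inv_smul_smul₀ hc0] at this

theorem pure_four (hk : k = 4) (hplane : S.NoPlane) (hodd : Odd D.card) (hZ : ∀ l ∈ D, ClO Z l (p l))
    (hpair : ∀ n ∈ D, ∀ l ∈ D, n ≠ l → ∀ a b, (p n).InW a → (p l).InW b → S.Q a = S.Q b → S.Q a ≠ 0 →
      ∀ Y ∈ Z, S.rr n l a b Y ∈ Z)
    (hX : X ∈ Z) (hX0 : X ≠ 0) (hs : Shape D p B0 X) :
    ∃ a : Fin t → Fin k → F, (∀ l ∈ D, (p l).InW (a l) ∧ S.Q (a l) ≠ 0) ∧
      pmat (fun l => if l ∈ D then S.N (p l).e (a l) else B0 l) ∈ Z := by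
  classical
  choose c d hc hd hcd hQc hQd hns using fun l : Fin t => (p l).exists_unit hk hplane
  have hQc0 : ∀ l, S.Q (c l) ≠ 0 := fun l => by rw [hQc]; exact one_ne_zero
  let σ (l : Fin t) := cjm (S.rf (c l)) (S.rf (c l))
  let J (l : Fin t) := br (S.N (p l).e (d l)) ∘ₗ br (S.N (p l).f (c l))
  let κ (l : Fin t) : F := -(4 : F) * S.Q (d l)
  have hσN : ∀ l w, (p l).InW w → σ l (S.N (p l).e w) = S.N (p l).e (S.rf (c l) *ᵥ w) := fun l w hw => by
    rw [show σ l (S.N (p l).e w) = S.rf (c l) * S.N (p l).e w * S.rf (c l) from rfl, S.conj_N (S.adj_rf _),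
      S.rf_mulVec _ (p l).e, (hc l).1, mul_zero, zero_smul, sub_zero]
  have hrW : ∀ l w, (p l).InW w → (p l).InW (S.rf (c l) *ᵥ w) := fun l w hw => by
    rw [S.rf_mulVec, sub_eq_add_neg, ← neg_smul]; exact hw.add ((hc l).smul _)
  have hσc : ∀ l, S.rf (c l) *ᵥ c l = -c l := fun l => by
    rw [S.rf_mulVec, S.bb_self, hQc]; simp [two_smul]
  have hσd : ∀ l, S.rf (c l) *ᵥ d l = d l := fun l => by
    rw [S.rf_mulVec, S.bb_comm, hcd]; simp
  have hJc : ∀ l, J l (S.N (p l).e (c l)) = (-2 : F) • S.N (p l).e (d l) := fun l => by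
    rw [LinearMap.comp_apply, br_br_N (p l) (hc l) (hd l) (hc l), ← S.N_smul]
    congr 1
    rw [S.bb_comm (d l) (c l), hcd, S.bb_self, hQc]
    module
  have hJd : ∀ l, J l (S.N (p l).e (d l)) = (2 * S.Q (d l)) • S.N (p l).e (c l) := fun l => by
    rw [LinearMap.comp_apply, br_br_N (p l) (hc l) (hd l) (hd l), ← S.N_smul]
    congr 1
    rw [S.bb_comm (d l) (c l), hcd, S.bb_self]
    module
  have hgen : ∀ l, ∀ Y ∈ (p l).Nr, ∃ α β : F, Y = α • S.N (p l).e (c l) + β • S.N (p l).e (d l) := by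
    rintro l _ ⟨w, hw, rfl⟩
    exact ⟨_, _, by rw [← S.N_smul, ← S.N_smul, ← S.N_add, ← Pr.coord_four (p l) hk (hc l) (hd l) (hcd l) (hQc0 l) (hQd l) hw]⟩
  have hσc' : ∀ l, σ l (S.N (p l).e (c l)) = -S.N (p l).e (c l) := fun l => by
    rw [hσN l _ (hc l), hσc, S.N_neg]
  have hσd' : ∀ l, σ l (S.N (p l).e (d l)) = S.N (p l).e (d l) := fun l => by
    rw [hσN l _ (hd l), hσd]
  have hσm : ∀ l, ∀ Y ∈ (p l).Nr, σ l Y ∈ (p l).Nr := fun l Y hY => by
    obtain ⟨w, hw, rfl⟩ := hY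
    exact ⟨_, hrW l w hw, hσN l w hw⟩
  have hJm : ∀ l, ∀ Y ∈ (p l).Nr, J l Y ∈ (p l).Nr := fun l => opO_mem (p l) (hc l) (hd l)
  have hσσ : ∀ {Y} l, InS l (p l).Nr Y → L l (σ l) (L l (σ l) Y) = Y := fun {Y} l h => by
    rw [L_comp, L_eq_smul h (c := 1) fun V hV => by
      obtain ⟨α, β, rfl⟩ := hgen l V hV
      simp only [LinearMap.comp_apply, map_add, map_smul, hσc', hσd', map_neg, neg_neg, one_smul],
      one_smul]
  have hJJ : ∀ {Y} l, InS l (p l).Nr Y → L l (J l) (L l (J l) Y) = κ l • Y := fun {Y} l h => by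
    rw [L_comp, L_eq_smul h (c := κ l) fun V hV => by
      obtain ⟨α, β, rfl⟩ := hgen l V hV
      simp only [LinearMap.comp_apply (J l), map_add, map_smul, hJc, hJd, κ]
      module]
  have hσJ : ∀ {Y} l, InS l (p l).Nr Y → L l (σ l) (L l (J l) Y) = -L l (J l) (L l (σ l) Y) := fun {Y} l h => by
    rw [L_comp, L_comp, ← LinearMap.neg_apply, L_congr h (ψ := -(J l ∘ₗ σ l)) fun V hV => by
      obtain ⟨α, β, rfl⟩ := hgen l V hV
      simp only [LinearMap.comp_apply (σ l), LinearMap.comp_apply (J l) (σ l), LinearMap.neg_apply, map_add,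
        map_smul, map_neg, hσc', hσd', hJc, hJd]
      module, ← neg_one_smul F (J l ∘ₗ σ l), L_smul, LinearMap.smul_apply, neg_one_smul, LinearMap.neg_apply]
  have hκ : ∀ l, κ l ≠ 0 := fun l => by
    refine mul_ne_zero (neg_ne_zero.2 ?_) (hQd l)
    rw [show (4 : F) = 2 * 2 by norm_num]; exact mul_ne_zero S.two S.two
  obtain ⟨n₀, hn₀⟩ : D.Nonempty := Finset.card_pos.1 hodd.pos
  -- equal signs
  have hT : ∀ s : Finset (Fin t), s ⊆ D.erase n₀ → ∃ Y ∈ Z, Y ≠ 0 ∧ Shape D p B0 Y ∧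
      ∀ l ∈ s, L n₀ (σ n₀) (L l (σ l) Y) = Y := by
    intro s
    induction s using Finset.induction with
    | empty => exact fun _ => ⟨X, hX, hX0, hs, fun l hl => absurd hl (Finset.notMem_empty l)⟩
    | insert m s hm ih =>
      intro hsub
      obtain ⟨Y, h1, h2, h3, h4⟩ := ih fun x hx => hsub (Finset.mem_insert_of_mem hx)
      obtain ⟨hmn, hmD⟩ := Finset.mem_erase.1 (hsub (Finset.mem_insert_self m s))
      have hls : ∀ l ∈ s, l ≠ n₀ ∧ l ≠ m := fun l hl =>
        ⟨(Finset.mem_erase.1 (hsub (Finset.mem_insert_of_mem hl))).1, fun e => hm (e ▸ hl)⟩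
      have h5 : L n₀ (σ n₀) (L m (σ m) Y) ∈ Z :=
        hpair n₀ hn₀ m hmD hmn.symm _ _ (hc n₀) (hc m) (by rw [hQc, hQc]) (hQc0 _) Y h1
      have hsh : Shape D p B0 (L n₀ (σ n₀) (L m (σ m) Y)) := (h3.map hmD (hσm m)).map hn₀ (hσm n₀)
      by_cases hne : Y + L n₀ (σ n₀) (L m (σ m) Y) = 0
      · refine ⟨L m (J m) Y, hZ m hmD _ _ (hc m) (hd m) Y h1 (h3.1 m hmD), fun h0 => ?_, h3.map hmD (hJm m),
          fun l hl => ?_⟩
        · have := hJJ m (h3.1 m hmD)
          rw [h0, map_zero] at this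
          exact h2 ((smul_eq_zero.1 this.symm).resolve_left (hκ m))
        · rcases Finset.mem_insert.1 hl with rfl | hl
          · rw [hσJ l (h3.1 l hmD), map_neg, L_comm hmn.symm, ← map_neg, ← eq_neg_of_add_eq_zero_left hne]
          · rw [L_comm (hls l hl).2 (σ l) (J m), L_comm hmn.symm (σ n₀) (J m), h4 l hl]
      · refine ⟨_, Z.add_mem h1 h5, hne, ⟨fun l hl => (h3.1 l hl).add (hsh.1 l hl),
          fun l hl => (h3.2 l hl).add (hsh.2 l hl)⟩, fun l hl => ?_⟩
        rcases Finset.mem_insert.1 hl with rfl | hl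
        · rw [map_add, map_add, L_comm hmn (σ l) (σ n₀), hσσ l (h3.1 l hmD), hσσ n₀ (h3.1 n₀ hn₀), add_comm]
        · rw [map_add, map_add, h4 l hl, L_comm (hls l hl).1 (σ l) (σ n₀), L_comm (hls l hl).2 (σ l) (σ m),
            L_comm hmn.symm (σ n₀) (σ m), h4 l hl, L_comm hmn.symm (σ n₀) (σ m)]
  obtain ⟨Y, hY, hY0, hYs, hYf⟩ := hT _ subset_rfl
  have hall : ∀ l ∈ D, L l (σ l) Y = L n₀ (σ n₀) Y := fun l hl => by
    rcases eq_or_ne l n₀ with rfl | hne
    · rfl
    · have h := congrArg (L n₀ (σ n₀)) (hYf l (Finset.mem_erase.2 ⟨hne, hl⟩))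
      rwa [hσσ n₀ (InS.other (hYs.1 n₀ hn₀) hne _)] at h
  set Yc := Y - L n₀ (σ n₀) Y with hYc
  set Yd := Y + L n₀ (σ n₀) Y with hYd
  let BC (l : Fin t) := if l ∈ D then S.N (p l).e (c l) else B0 l
  let BD (l : Fin t) := if l ∈ D then S.N (p l).e (d l) else B0 l
  have h4 : (4 : F) ≠ 0 := by rw [show (4 : F) = 2 * 2 by norm_num]; exact mul_ne_zero S.two S.two
  have hshσ := hYs.map hn₀ (hσm n₀)
  have hlσ : ∀ l ∈ D, L l (σ l) (L n₀ (σ n₀) Y) = Y := fun l hl => by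
    rw [← hall l hl, hσσ l (hYs.1 l hl)]
  have hlc : ∀ l, InS l (Submodule.span F {BC l}) Yc := fun l => by
    by_cases hl : l ∈ D
    · simp only [BC, if_pos hl]
      intro r r'
      obtain ⟨α, β, hab⟩ := hgen l _ (((p l).Nr).sub_mem (hYs.1 l hl r r') (hshσ.1 l hl r r'))
      have e : L l (σ l) Yc = -Yc := by rw [hYc, map_sub, hall l hl, hlσ l hl, neg_sub]
      have h1 := comp_L l (σ l) r r' Yc
      rw [e, map_neg, hYc, map_sub, hab, map_add, map_smul, map_smul, hσc', hσd'] at h1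
      have h2 : (2 * β) • S.N (p l).e (d l) = 0 := by
        rw [← sub_eq_zero] at h1
        rw [← neg_eq_zero, ← h1]; module
      rw [hYc, map_sub, hab, (mul_eq_zero.1 ((smul_eq_zero.1 h2).resolve_right
        (Pr.N_ne_zero (hd l) fun e => hQd l (by rw [e, S.Q_zero])))).resolve_left S.two, zero_smul, add_zero]
      exact Submodule.smul_mem _ _ (Submodule.mem_span_singleton_self _)
    · simp only [BC, if_neg hl]
      intro r r'
      rw [hYc, map_sub]
      exact Submodule.sub_mem _ (hYs.2 l hl r r') (hshσ.2 l hl r r')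
  have hld : ∀ l, InS l (Submodule.span F {BD l}) Yd := fun l => by
    by_cases hl : l ∈ D
    · simp only [BD, if_pos hl]
      intro r r'
      obtain ⟨α, β, hab⟩ := hgen l _ (((p l).Nr).add_mem (hYs.1 l hl r r') (hshσ.1 l hl r r'))
      have e : L l (σ l) Yd = Yd := by rw [hYd, map_add, hall l hl, hlσ l hl, add_comm]
      have h1 := comp_L l (σ l) r r' Yd
      rw [e, hYd, map_add, hab, map_add, map_smul, map_smul, hσc', hσd'] at h1
      have h2 : (2 * α) • S.N (p l).e (c l) = 0 := by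
        rw [← sub_eq_zero] at h1
        rw [← h1]; module
      rw [hYd, map_add, hab, (mul_eq_zero.1 ((smul_eq_zero.1 h2).resolve_right
        (Pr.N_ne_zero (hc l) fun e => hQc0 l (by rw [e, S.Q_zero])))).resolve_left S.two, zero_smul, zero_add]
      exact Submodule.smul_mem _ _ (Submodule.mem_span_singleton_self _)
    · simp only [BD, if_neg hl]
      exact (hYs.2 l hl).add (hshσ.2 l hl)
  obtain ⟨α, hα⟩ := eq_smul_pmat hlc
  obtain ⟨β, hβ⟩ := eq_smul_pmat hld
  have h2Y : (2 : F) • Y = α • pmat BC + β • pmat BD := by rw [← hα, ← hβ, hYc, hYd, two_smul]; abel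
  have hscal : ∀ s : F, s • Y ∈ Z := (hZ n₀ hn₀).scalar hY (hYs.1 n₀ hn₀)
  by_cases hα0 : α = 0
  · refine ⟨d, fun l hl => ⟨hd l, hQd l⟩, ?_⟩
    rw [hα0, zero_smul, zero_add] at h2Y
    have hβ0 : β ≠ 0 := fun e => hY0 (by
      rw [e, zero_smul] at h2Y; exact (smul_eq_zero.1 h2Y).resolve_left S.two)
    have := hscal (β⁻¹ * 2)
    rwa [mul_smul, h2Y, inv_smul_smul₀ hβ0] at this
  obtain ⟨T, m, n, hT1, hTC, hTD, hmn⟩ : ∃ (T : Matrix (Fin t → Fin k) (Fin t → Fin k) F →ₗ[F]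
      Matrix (Fin t → Fin k) (Fin t → Fin k) F) (m n : F),
      (∀ W ∈ Z, Shape D p B0 W → T W ∈ Z ∧ Shape D p B0 (T W)) ∧
      T (pmat BC) = m • pmat BD ∧ T (pmat BD) = n • pmat BC ∧ m * n = ∏ l ∈ D, κ l := by
    suffices Hs : ∀ s : Finset (Fin t), s ⊆ D → ∃ (T : Matrix (Fin t → Fin k) (Fin t → Fin k) F →ₗ[F]
        Matrix (Fin t → Fin k) (Fin t → Fin k) F) (m n : F),
        (∀ W ∈ Z, Shape D p B0 W → T W ∈ Z ∧ Shape D p B0 (T W)) ∧
        T (pmat BC) = m • pmat (s.piecewise BD BC) ∧ T (pmat BD) = n • pmat (s.piecewise BC BD) ∧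
        m * n = ∏ l ∈ s, κ l by
      obtain ⟨T, m, n, h1, h2, h3, h4⟩ := Hs D subset_rfl
      have e1 : D.piecewise BD BC = BD := funext fun l => by
        by_cases hl : l ∈ D <;> simp [Finset.piecewise, BC, BD, hl]
      have e2 : D.piecewise BC BD = BC := funext fun l => by
        by_cases hl : l ∈ D <;> simp [Finset.piecewise, BC, BD, hl]
      exact ⟨T, m, n, h1, by rw [h2, e1], by rw [h3, e2], h4⟩
    intro s
    induction s using Finset.induction with
    | empty => exact fun _ => ⟨LinearMap.id, 1, 1, fun W hW h => ⟨hW, h⟩, by simp, by simp, by simp⟩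
    | insert l s hl ih =>
      intro hsub
      obtain ⟨T, m, n, h1, h2, h3, h4⟩ := ih fun x hx => hsub (Finset.mem_insert_of_mem hx)
      have hlD := hsub (Finset.mem_insert_self l s)
      refine ⟨L l (J l) ∘ₗ T, (-2 : F) * m, (2 * S.Q (d l)) * n, fun W hW h => ?_, ?_, ?_, ?_⟩
      · obtain ⟨g1, g2⟩ := h1 W hW h
        exact ⟨hZ l hlD _ _ (hc l) (hd l) _ g1 (g2.1 l hlD), g2.map hlD (hJm l)⟩
      · rw [LinearMap.comp_apply, h2, map_smul, L_pmat, Finset.piecewise_insert,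
          Finset.piecewise_eq_of_notMem _ _ _ hl, show BC l = S.N (p l).e (c l) from if_pos hlD, hJc,
          pmat_update_smul, smul_smul, mul_comm m, show BD l = S.N (p l).e (d l) from if_pos hlD]
      · rw [LinearMap.comp_apply, h3, map_smul, L_pmat, Finset.piecewise_insert,
          Finset.piecewise_eq_of_notMem _ _ _ hl, show BD l = S.N (p l).e (d l) from if_pos hlD, hJd,
          pmat_update_smul, smul_smul, mul_comm n, show BC l = S.N (p l).e (c l) from if_pos hlD]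
      · rw [Finset.prod_insert hl, ← h4]; simp only [κ]; ring
  refine ⟨c, fun l hl => ⟨hc l, hQc0 l⟩, ?_⟩
  set w := α * α * m - β * β * n with hw
  have e : (2 * (α * m)) • Y - T ((2 * β) • Y) = w • pmat BC := by
    rw [mul_comm (2 : F) (α * m), mul_smul, h2Y, map_smul, mul_comm (2 : F) β, mul_smul β, ← map_smul T (2 : F),
      h2Y, map_add, map_smul, map_smul, hTC, hTD, hw]
    module
  have hmem : w • pmat BC ∈ Z := by
    rw [← e]
    exact Z.sub_mem (hscal _) (hT1 _ (hscal _) ⟨fun l hl => (hYs.1 l hl).smul _,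
      fun l hl => (hYs.2 l hl).smul _⟩).1
  have hw0 : w ≠ 0 := by
    intro hw0
    have hsq : IsSquare (∏ l ∈ D, κ l) := by
      rw [← hmn]
      by_cases hβ0 : β = 0
      · exfalso
        rw [hw, hβ0, mul_zero, zero_mul, sub_zero] at hw0
        have : m = 0 := (mul_eq_zero.1 hw0).resolve_left (mul_ne_zero hα0 hα0)
        rw [this, zero_mul] at hmn
        exact Finset.prod_ne_zero_iff.2 (fun l _ => hκ l) hmn.symm
      · refine ⟨α * m / β, ?_⟩
        field_simp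
        linear_combination (-m) * hw0
    have hchar : ∀ l, quadraticChar F (κ l) = -1 := fun l => by
      rw [quadraticChar_neg_one_iff_not_isSquare]
      rintro ⟨s, hs⟩
      refine hns l (s / 2) ?_
      simp only [κ] at hs
      rw [div_mul_div_comm, show (2 : F) * 2 = 4 by norm_num, div_eq_iff h4]
      linear_combination -hs
    have h1 := (quadraticChar_one_iff_isSquare (Finset.prod_ne_zero_iff.2 fun l _ => hκ l)).2 hsq
    rw [map_prod, Finset.prod_congr rfl fun l _ => hchar l, Finset.prod_const, hodd.neg_one_pow] at h1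
    norm_num at h1
  have := (hZ n₀ hn₀).scalar hmem (fun r r' => by
    rw [map_smul, comp_pmat]
    exact Submodule.smul_mem _ _ (Submodule.smul_mem _ _ ⟨c n₀, hc n₀, if_pos hn₀⟩)) w⁻¹
  rwa [inv_smul_smul₀ hw0] at this

/-- Lines in all slots of `D`. -/
theorem pure (hplane : k = 4 → S.NoPlane ∧ Odd D.card) (hD : D.Nonempty) (hZ : ∀ l ∈ D, ClO Z l (p l))
    (hpair : k = 4 → ∀ n ∈ D, ∀ l ∈ D, n ≠ l → ∀ a b, (p n).InW a → (p l).InW b → S.Q a = S.Q b → S.Q a ≠ 0 →
      ∀ Y ∈ Z, S.rr n l a b Y ∈ Z)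
    (hX : X ∈ Z) (hX0 : X ≠ 0) (hs : Shape D p B0 X) :
    ∃ a : Fin t → Fin k → F, (∀ l ∈ D, (p l).InW (a l) ∧ S.Q (a l) ≠ 0) ∧
      pmat (fun l => if l ∈ D then S.N (p l).e (a l) else B0 l) ∈ Z := by
  by_cases hk : k = 4
  · exact pure_four hk (hplane hk).1 (hplane hk).2 hZ (hpair hk) hX hX0 hs
  · exact pure_big hk hD hZ hX hX0 hs

end Sym

end CfsgLib.ClassicalMax.OWr
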