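/-
Without roots, no unipotent element has the sandwich of a singular vector in some slots.
-/
import Cfsg.Agent.Lib.ClassicalMax.OrthWreath.Pure
set_option autoImplicit false
set_option linter.unusedSectionVars false
set_option linter.unusedVariables false
set_option linter.unusedSimpArgs false

namespace CfsgLib.ClassicalMax.OWr

open Matrix Cfsg.Geo
open CfsgLib.ClassicalMax.TWreath

variable {F : Type*} [Field F] {k t : ℕ}

section Alg

variable {A : Type*} [Ring A] [Algebra F A]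

lemma ex_cj {u v n : A} (huv : u * v = 1) (hvu : v * u = 1) : u * ex F n * v = ex F (u * n * v) := by
  rw [ex, ex, mul_add, mul_add, add_mul, add_mul, mul_one, huv, mul_smul_comm, smul_mul_assoc]
  congr 2
  rw [mul_assoc (u * n) v, ← mul_assoc v (u * n) v, ← mul_assoc v u n, hvu, one_mul]
  simp only [mul_assoc]

/-- The commutator of two exponentials with vanishing triple products. -/
lemma ex_comm (h2 : (2 : F) ≠ 0) {a b : A}
    (h : ∀ x y z, x ∈ ({a, b} : Set A) → y ∈ ({a, b} : Set A) → z ∈ ({a, b} : Set A) → x * y * z = 0) :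
    ex F a * ex F b * ex F (-a) * ex F (-b) = 1 + (a * b - b * a) := by
  have ha : a ∈ ({a, b} : Set A) := Or.inl rfl
  have hb : b ∈ ({a, b} : Set A) := Or.inr rfl
  have t : ∀ {x y z : A}, x ∈ ({a, b} : Set A) → y ∈ ({a, b} : Set A) → z ∈ ({a, b} : Set A) →
      x * (y * z) = 0 := fun hx hy hz => by rw [← mul_assoc, h _ _ _ hx hy hz]
  have q : ∀ {x y z : A} (w : A), x ∈ ({a, b} : Set A) → y ∈ ({a, b} : Set A) → z ∈ ({a, b} : Set A) →
      x * (y * (z * w)) = 0 := fun w hx hy hz => by rw [← mul_assoc, ← mul_assoc, h _ _ _ hx hy hz, zero_mul]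
  simp only [ex, mul_add, add_mul, mul_smul_comm, smul_mul_assoc, mul_one, one_mul, smul_add, mul_assoc,
    neg_mul, mul_neg, neg_neg, smul_neg,
    t ha ha ha, t ha ha hb, t ha hb ha, t ha hb hb, t hb ha ha, t hb ha hb, t hb hb ha, t hb hb hb,
    q _ ha ha ha, q _ ha ha hb, q _ ha hb ha, q _ ha hb hb, q _ hb ha ha, q _ hb ha hb, q _ hb hb ha,
    q _ hb hb hb, mul_zero, zero_mul, smul_zero, neg_zero, add_zero, zero_add]
  match_scalars <;> field_simp <;> ring

lemma pmat_eq_zero {B : Fin t → Matrix (Fin k) (Fin k) F} {l : Fin t} (h : B l = 0) : pmat B = 0 := by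
  ext x y
  rw [pmat_apply, Matrix.zero_apply]
  exact Finset.prod_eq_zero (Finset.mem_univ l) (by rw [h, Matrix.zero_apply])

lemma pmat_update_sub (B : Fin t → Matrix (Fin k) (Fin k) F) (i : Fin t) (X Y : Matrix (Fin k) (Fin k) F) :
    pmat (Function.update B i (X - Y)) = pmat (Function.update B i X) - pmat (Function.update B i Y) := by
  rw [eq_sub_iff_add_eq, ← pmat_update_add, sub_add_cancel]

end Alg

namespace Sym

variable (S : Sym F k)

/-- The standing assumptions on the factor. -/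
def Adm [Fintype F] : Prop := (5 ≤ Fintype.card F ∨ 4 ≤ k) ∧ (k = 4 → S.NoPlane)

/-- No root elements. -/
def NoRoot (M : Subgroup (GL (Fin t → Fin k) F)) : Prop :=
  ∀ (q : Fin t → S.Pr) (i : Fin t) (X : Matrix (Fin k) (Fin k) F), X ∈ S.so →
    MV M (1 + pmat (Function.update (fun l => S.P (q l).e) i X)) → X = 0

variable {S}

lemma Ad_P {e w : Fin k → F} (x : Fin k → F) : S.Ad e w (S.P x) = S.P (S.z e w *ᵥ x) := by
  rw [show S.Ad e w (S.P x) = S.z e w * S.P x * S.z e (-w) from rfl, S.conj_P (by rw [S.adj_z, neg_neg])]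

lemma Ad_N {e w : Fin k → F} (x y : Fin k → F) :
    S.Ad e w (S.N x y) = S.N (S.z e w *ᵥ x) (S.z e w *ᵥ y) := by
  rw [show S.Ad e w (S.N x y) = S.z e w * S.N x y * S.z e (-w) from rfl, S.conj_N (by rw [S.adj_z, neg_neg])]

lemma z_f_e (p : S.Pr) {c : Fin k → F} (hc : p.InW c) : S.z p.f c *ᵥ p.e = p.e + c + (-S.Q c) • p.f := by
  rw [z_mulVec, p.h1, hc.1, one_smul, mul_one, neg_zero, zero_sub]

variable {M : Subgroup (GL (Fin t → Fin k) F)} (H : S.Over M)
include H

lemma Over.cj_ex (i : Fin t) {e w : Fin k → F} (he : S.bb e e = 0) (hw : S.bb e w = 0)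
    {X : Matrix (Fin t → Fin k) (Fin t → Fin k) F} (h : MV M (ex F X)) :
    MV M (ex F (L i (S.Ad e w) X)) := by
  have hw' : S.bb e (-w) = 0 := by rw [S.bb_neg_right, hw, neg_zero]
  have h1 := S.z_inv he hw
  have h2 : S.z e (-w) * S.z e w = 1 := mul_eq_one_comm.1 h1
  rw [Ad, ← slot_sandwich, ← ex_cj (by rw [← map_mul, h1, map_one]) (by rw [← map_mul, h2, map_one])]
  exact ((H.z_mem i he hw).mul h).mul (H.z_mem i he hw')

lemma Over.cj_set (c : F) (e w : Fin t → Fin k → F) (he : ∀ l, S.bb (e l) (e l) = 0)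
    (hw : ∀ l, S.bb (e l) (w l) = 0) {B : Fin t → Matrix (Fin k) (Fin k) F}
    (h : MV M (ex F (c • pmat B))) (s : Finset (Fin t)) :
    MV M (ex F (c • pmat (s.piecewise (fun l => S.Ad (e l) (w l) (B l)) B))) := by
  classical
  induction s using Finset.induction with
  | empty => simpa using h
  | insert m s hm ih =>
    have := H.cj_ex m (he m) (hw m) ih
    rwa [map_smul, L_pmat, Finset.piecewise_eq_of_notMem _ _ _ hm, ← Finset.piecewise_insert] at this

lemma Over.mv_neg {r X : Matrix (Fin t → Fin k) (Fin t → Fin k) F} (h3 : X * X * X = 0) (h : MV M (ex F X)) :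
    MV M (ex F (-X)) := by
  refine h.inv ?_
  have h3' : X * (X * X) = 0 := by rw [← mul_assoc, h3]
  simp only [ex, mul_add, add_mul, mul_one, one_mul, mul_neg, neg_mul, neg_neg, mul_smul_comm, smul_mul_assoc,
    mul_assoc, h3', mul_zero, smul_zero, neg_zero, smul_neg]
  have h2 := S.two
  match_scalars <;> field_simp <;> ring

lemma Over.skew_of_sq {X : Matrix (Fin t → Fin k) (Fin t → Fin k) F} (h0 : X * X = 0) (h : MV M (1 + X)) :
    S.adjB X = -X := by
  have h1 := H.iso_of_MV h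
  rw [map_add, S.adjB_one] at h1
  have h2 : (1 + X) * (1 - X) = 1 := by
    rw [add_mul, mul_sub, mul_sub, h0, one_mul, mul_one, one_mul, sub_zero, sub_add_cancel]
  have h3 : 1 + S.adjB X = 1 - X := by
    calc 1 + S.adjB X = (1 + S.adjB X) * ((1 + X) * (1 - X)) := by rw [h2, mul_one]
      _ = 1 - X := by rw [← mul_assoc, h1, one_mul]
  rw [sub_eq_add_neg] at h3
  exact add_left_cancel h3

omit H in
lemma mul_eq_zero_of_P {i : Fin t} (p : S.Pr) {X Y : Matrix (Fin t → Fin k) (Fin t → Fin k) F}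
    (hX : InS i (Submodule.span F {S.P p.e}) X) (hY : InS i (Submodule.span F {S.P p.e}) Y) : X * Y = 0 := by
  have e1 : X * slot i (S.op p.f p.e) = X := by
    rw [mul_slot_eq_L, L_congr hX (ψ := LinearMap.id) fun Z hZ => ?_, L_id]
    obtain ⟨c, rfl⟩ := Submodule.mem_span_singleton.1 hZ
    rw [LinearMap.mulRight_apply, LinearMap.id_apply, smul_mul_assoc, P, S.op_mul, p.h1', one_smul]
  have e2 : slot i (S.op p.e p.f) * Y = Y := by
    rw [slot_mul_eq_L, L_congr hY (ψ := LinearMap.id) fun Z hZ => ?_, L_id]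
    obtain ⟨c, rfl⟩ := Submodule.mem_span_singleton.1 hZ
    rw [LinearMap.mulLeft_apply, LinearMap.id_apply, mul_smul_comm, P, S.op_mul, p.h1, one_smul]
  rw [← e1, ← e2, mul_assoc, ← mul_assoc (slot i _), ← map_mul, S.op_mul, p.he, zero_smul, map_zero, zero_mul,
    mul_zero]

/-- The unipotent elements with sandwiches in the slots of `A`. -/
def lv (M : Subgroup (GL (Fin t → Fin k) F)) (q : Fin t → S.Pr) {A : Finset (Fin t)} (hA : A.Nonempty) :
    AddSubgroup (Matrix (Fin t → Fin k) (Fin t → Fin k) F) where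
  carrier := {X | (∀ l ∈ A, InS l (Submodule.span F {S.P (q l).e}) X) ∧ MV M (1 + X)}
  zero_mem' := ⟨fun l _ => InS.zero, by rw [add_zero]; exact MV.one⟩
  add_mem' := by
    rintro X Y ⟨hX, hX'⟩ ⟨hY, hY'⟩
    obtain ⟨i, hi⟩ := hA
    refine ⟨fun l hl => (hX l hl).add (hY l hl), ?_⟩
    have := hX'.mul hY'
    rw [add_mul, one_mul, mul_add X, mul_one, mul_eq_zero_of_P (q i) (hX i hi) (hY i hi), add_zero] at this
    rwa [add_assoc, add_comm Y X] at this
  neg_mem' := by
    rintro X ⟨hX, hX'⟩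
    obtain ⟨i, hi⟩ := hA
    refine ⟨fun l hl => by simpa using (hX l hl).smul (-1), hX'.inv ?_⟩
    rw [add_mul, mul_add, mul_add, one_mul, one_mul, mul_one, mul_neg,
      mul_eq_zero_of_P (q i) (hX i hi) (hX i hi), neg_zero, add_zero, neg_add_cancel_right]

variable {q : Fin t → S.Pr} {A : Finset (Fin t)} {hA : A.Nonempty}
  {X : Matrix (Fin t → Fin k) (Fin t → Fin k) F}

omit H in
lemma mem_lv {hA : A.Nonempty} : X ∈ lv M q hA ↔
    (∀ l ∈ A, InS l (Submodule.span F {S.P (q l).e}) X) ∧ MV M (1 + X) := Iff.rfl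

lemma lv_congr {q' : Fin t → S.Pr} (h : ∀ l ∈ A, q' l = q l) (hX : X ∈ lv M q hA) : X ∈ lv M q' hA :=
  ⟨fun l hl => by rw [h l hl]; exact hX.1 l hl, hX.2⟩

lemma lv_sq (hX : X ∈ lv M q hA) : X * X = 0 := by
  obtain ⟨i, hi⟩ := id hA
  exact mul_eq_zero_of_P (q i) (hX.1 i hi) (hX.1 i hi)

lemma lv_inv {m : Fin t} (hm : m ∉ A) : S.Inv (lv M q hA) m := by
  intro e w he hw X hX
  refine ⟨fun l hl => InS.other (hX.1 l hl) (fun h : m = l => hm (h ▸ hl)) _, ?_⟩
  have := H.cj_mem m he hw hX.2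
  rw [map_add] at this
  rwa [← slot_sandwich m _ _ (1 : Matrix (Fin t → Fin k) (Fin t → Fin k) F), mul_one, ← map_mul,
    S.z_inv he hw, map_one] at this

lemma lv_pair {n l : Fin t} (hn : n ∉ A) (hl : l ∉ A) (hnl : n ≠ l) {a b : Fin k → F} (hab : S.Q a = S.Q b)
    (ha : S.Q a ≠ 0) (hX : X ∈ lv M q hA) : S.rr n l a b X ∈ lv M q hA := by
  refine ⟨fun i hi => InS.other (InS.other (hX.1 i hi) (fun h : l = i => hl (h ▸ hi)) _)
    (fun h : n = i => hn (h ▸ hi)) _, ?_⟩
  have hx := H.rf_pair hnl hab ha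
  have hy := H.rf_pair hnl.symm hab.symm (hab ▸ ha)
  have := (hx.mul hX.2).mul hy
  rw [mul_add, add_mul, mul_one] at this
  rwa [show slot n (S.rf a) * slot l (S.rf b) * (slot l (S.rf b) * slot n (S.rf a)) =
      (1 : Matrix (Fin t → Fin k) (Fin t → Fin k) F) by
    rw [mul_assoc, ← mul_assoc (slot l (S.rf b)), ← map_mul, S.rf_sq (hab ▸ ha), map_one, one_mul, ← map_mul,
      S.rf_sq ha, map_one],
    show slot n (S.rf a) * slot l (S.rf b) * X * (slot l (S.rf b) * slot n (S.rf a)) = S.rr n l a b X by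
      rw [rr, LinearMap.comp_apply, ← slot_sandwich, ← slot_sandwich]
      simp only [mul_assoc]] at this

variable [Fintype F]

/-- Sandwiches in further slots. -/
lemma pi_all (hbig : 5 ≤ Fintype.card F ∨ 4 ≤ k) (g : Fin t → S.Pr) {c : F} (hc : c ≠ 0)
    {U V : Fin t → Matrix (Fin k) (Fin k) F} (h : c • (pmat U - pmat V) ∈ lv M q hA)
    (s : Finset (Fin t)) : Disjoint s A → ∃ c' : F, c' ≠ 0 ∧
      c' • (pmat (s.piecewise (fun l => S.Pi (g l).e (U l)) U) - pmat (s.piecewise (fun l => S.Pi (g l).e (V l)) V))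
        ∈ lv M (s.piecewise g q) (A := A ∪ s) (hA.mono Finset.subset_union_left) := by
  classical
  induction s using Finset.induction with
  | empty => exact fun _ => ⟨c, hc, by simpa [mem_lv] using h⟩
  | insert m s hm ih =>
    intro hd
    rw [Finset.disjoint_insert_left] at hd
    obtain ⟨c', hc', h'⟩ := ih hd.2
    obtain ⟨d, hd0, hd'⟩ := (lv_inv H (q := s.piecewise g q) (hA := hA.mono Finset.subset_union_left)
      (m := m) (by simp [hm, hd.1])).Pi_mem hbig h' (g m)
    refine ⟨d * c', mul_ne_zero hd0 hc', ?_⟩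
    rw [map_smul, map_sub, L_pmat, L_pmat, Finset.piecewise_eq_of_notMem _ _ _ hm,
      Finset.piecewise_eq_of_notMem _ _ _ hm, ← Finset.piecewise_insert, ← Finset.piecewise_insert, smul_smul] at hd'
    refine ⟨fun l hl => ?_, ?_⟩
    · rcases eq_or_ne l m with rfl | hlm
      · rw [Finset.piecewise_eq_of_mem _ _ _ (Finset.mem_insert_self _ _)]
        refine InS.smul (fun r r' => ?_) _
        rw [map_sub, comp_pmat, comp_pmat, Finset.piecewise_eq_of_mem _ _ _ (Finset.mem_insert_self _ _),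
          Finset.piecewise_eq_of_mem _ _ _ (Finset.mem_insert_self _ _), S.Pi_apply, S.Pi_apply]
        exact Submodule.sub_mem _
          (Submodule.smul_mem _ _ (Submodule.smul_mem _ _ (Submodule.mem_span_singleton_self _)))
          (Submodule.smul_mem _ _ (Submodule.smul_mem _ _ (Submodule.mem_span_singleton_self _)))
      · have hl' : l ∈ A ∪ s := by simpa [hlm] using hl
        rw [Finset.piecewise_insert, Function.update_of_ne hlm]
        exact hd'.1 l hl'
    · exact hd'.2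

omit H [Fintype F] in
/-- The standard product. -/
def stdB (q : Fin t → S.Pr) (A D : Finset (Fin t)) (a : Fin t → Fin k → F) (l : Fin t) :
    Matrix (Fin k) (Fin k) F :=
  if l ∈ A then S.P (q l).e else if l ∈ D then S.N (q l).e (a l) else 1

variable {D : Finset (Fin t)} {a : Fin t → Fin k → F} {c : F}

/-- Two radical slots give a higher level. -/
theorem no_two (hbig : 5 ≤ Fintype.card F ∨ 4 ≤ k)
    (IH : ∀ (q' : Fin t → S.Pr) (A' : Finset (Fin t)) (hA' : A'.Nonempty), A.card < A'.card →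
      ∀ Y ∈ lv M q' hA', Y = 0)
    (hdisj : Disjoint A D) (hD : 2 ≤ D.card) (ha : ∀ l ∈ D, (q l).InW (a l) ∧ S.Q (a l) ≠ 0) (hc : c ≠ 0)
    (h : MV M (ex F (c • pmat (stdB q A D a)))) : False := by
  classical
  obtain ⟨n, hn, n', hn', hnn⟩ := Finset.one_lt_card.1 (by omega : 1 < D.card)
  choose w hw hQw using fun l : Fin t => (q l).exists_aniso
  have hnA : n ∉ A := fun h => Finset.disjoint_left.1 hdisj h hn
  have hn'A : n' ∉ A := fun h => Finset.disjoint_left.1 hdisj h hn'
  set B := stdB q A D a with hB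
  let b : Fin t → Fin k → F := fun l => if l = n' then a l else w l
  have hb : ∀ l, (q l).InW (b l) ∧ S.Q (b l) ≠ 0 := fun l => by
    by_cases hl : l = n'
    · subst hl; simp only [b, if_true]; exact ha l hn'
    · simp only [b, if_neg hl]; exact ⟨hw l, hQw l⟩
  set B' := (insert n' A).piecewise (fun l => S.Ad (q l).f (b l) (B l)) B with hB'
  have h' : MV M (ex F (c • pmat B')) :=
    H.cj_set c (fun l => (q l).f) b (fun l => (q l).hf) (fun l => (hb l).1.2) h _
  have hBn : B n = S.N (q n).e (a n) := by rw [hB, stdB, if_neg hnA, if_pos hn]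
  have hB'n : B' n = S.N (q n).e (a n) := by
    rw [hB', Finset.piecewise_eq_of_notMem _ _ _ (by simp [hnA, hnn]), hBn]
  have hN3 : S.N (q n).e (a n) * S.N (q n).e (a n) * S.N (q n).e (a n) = 0 := by
    rw [S.N_mul_N (q n).he (ha n hn).1.1 (ha n hn).1.1, smul_mul_assoc, S.P_mul_N (q n).he (ha n hn).1.1,
      smul_zero]
  have htrip : ∀ x y z, x ∈ ({c • pmat B, c • pmat B'} : Set _) → y ∈ ({c • pmat B, c • pmat B'} : Set _) →
      z ∈ ({c • pmat B, c • pmat B'} : Set _) → x * y * z = 0 := by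
    intro x y z hx hy hz
    have e : ∀ {x}, x ∈ ({c • pmat B, c • pmat B'} : Set _) →
        ∃ U : Fin t → Matrix (Fin k) (Fin k) F, x = c • pmat U ∧ U n = S.N (q n).e (a n) := by
      rintro x (rfl | rfl)
      exacts [⟨B, rfl, hBn⟩, ⟨B', rfl, hB'n⟩]
    obtain ⟨U, rfl, hU⟩ := e hx
    obtain ⟨U', rfl, hU'⟩ := e hy
    obtain ⟨U'', rfl, hU''⟩ := e hz
    rw [smul_mul_smul_comm, smul_mul_smul_comm, pmat_mul, pmat_mul, pmat_eq_zero (l := n) (by rw [hU, hU', hU'', hN3]),
      smul_zero]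
  have hneg : ∀ {x}, x ∈ ({c • pmat B, c • pmat B'} : Set _) → MV M (ex F x) → MV M (ex F (-x)) :=
    fun hx hm => H.mv_neg (r := 0) (htrip _ _ _ hx hx hx) hm
  have hE := ((h.mul h').mul (hneg (Or.inl rfl) h)).mul (hneg (Or.inr rfl) h')
  rw [ex_comm S.two htrip, smul_mul_smul_comm, smul_mul_smul_comm, pmat_mul, pmat_mul, ← smul_sub] at hE
  set U := fun l => B l * B' l
  set V := fun l => B' l * B l
  have hUV : ∀ l, l ≠ n' → l ∉ A → U l = V l := fun l h1 h2 => by
    simp only [U, V, hB', Finset.piecewise_eq_of_notMem _ _ _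
      (show l ∉ insert n' A by simp [h1, h2])]
  have hUD : ∀ l ∈ D, l ≠ n' → U l = (-S.bb (a l) (a l)) • S.P (q l).e := fun l hl h1 => by
    have h2 : l ∉ A := fun h => Finset.disjoint_left.1 hdisj h hl
    simp only [U, hB', Finset.piecewise_eq_of_notMem _ _ _ (show l ∉ insert n' A by simp [h1, h2])]
    rw [hB, stdB, if_neg h2, if_pos hl, S.N_mul_N (q l).he (ha l hl).1.1 (ha l hl).1.1]
  have hsp : ∀ l ∈ D, l ≠ n' → ∀ W : Fin t → Matrix (Fin k) (Fin k) F, W l = U l →
      InS l (Submodule.span F {S.P (q l).e}) (pmat W) := fun l hl h1 W hW => by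
    refine InS.pmat ?_
    rw [hW, hUD l hl h1]
    exact Submodule.smul_mem _ _ (Submodule.mem_span_singleton_self _)
  have hmem : (c * c) • (pmat U - pmat V) ∈ lv M q (Finset.singleton_nonempty n) := by
    refine ⟨fun l hl => ?_, hE⟩
    obtain rfl := Finset.mem_singleton.1 hl
    refine InS.smul ?_ _
    rw [sub_eq_add_neg, ← neg_one_smul F (pmat V)]
    exact (hsp l hn hnn U rfl).add ((hsp l hn hnn V (hUV l hnn hnA).symm).smul _)
  let g : Fin t → S.Pr := fun l => (q l).swap
  obtain ⟨c', hc', hc''⟩ := pi_all H hbig g (mul_ne_zero hc hc) hmem A (Finset.disjoint_singleton_right.2 hnA)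
  set U' := A.piecewise (fun l => S.Pi (g l).e (U l)) U
  set V' := A.piecewise (fun l => S.Pi (g l).e (V l)) V
  set A' := A ∪ D.erase n'
  have hA' : A'.Nonempty := ⟨n, Finset.mem_union_right _ (Finset.mem_erase.2 ⟨hnn, hn⟩)⟩
  have hfin : c' • (pmat U' - pmat V') ∈ lv M (A.piecewise g q) hA' := by
    refine ⟨fun l hl => ?_, hc''.2⟩
    by_cases hlA : l ∈ A
    · exact hc''.1 l (Finset.mem_union_right _ hlA)
    obtain ⟨h1, h2⟩ := Finset.mem_erase.1 ((Finset.mem_union.1 hl).resolve_left hlA)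
    rw [Finset.piecewise_eq_of_notMem _ _ _ hlA]
    refine InS.smul ?_ _
    rw [sub_eq_add_neg, ← neg_one_smul F (pmat V')]
    exact (hsp l h2 h1 U' (Finset.piecewise_eq_of_notMem _ _ _ hlA)).add
      ((hsp l h2 h1 V' (by simp only [V', Finset.piecewise_eq_of_notMem _ _ _ hlA]; exact (hUV l h1 hlA).symm)).smul _)
  have h0 := IH _ A' hA' (by
    rw [Finset.card_union_of_disjoint (Finset.disjoint_of_subset_right (Finset.erase_subset _ _) hdisj),
      Finset.card_erase_of_mem hn']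
    omega) _ hfin
  rw [smul_eq_zero, or_iff_right hc'] at h0
  have hPi : ∀ l ∈ A, U' l = V' l ∧ U' l ≠ 0 := by
    intro l hl
    have hlne : l ≠ n' := fun e => hn'A (e ▸ hl)
    have hbl := hb l
    have e1 : S.z (q l).f (b l) *ᵥ (q l).e = (q l).e + b l + (-S.Q (b l)) • (q l).f := z_f_e (q l) hbl.1
    have e2 : U' l = (-S.Q (b l)) • S.P (q l).f ∧ V' l = (-S.Q (b l)) • S.P (q l).f := by
      simp only [U', V', Finset.piecewise_eq_of_mem _ _ _ hl, U, V, hB',
        Finset.piecewise_eq_of_mem _ _ _ (Finset.mem_insert_of_mem hl), hB, stdB, if_pos hl, Ad_P, e1, S.Pi_apply,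
        g, Pr.swap, ← Matrix.mulVec_mulVec, P_mulVec, Matrix.mulVec_smul, S.bb_smul_left, S.bb_add_left,
        S.bb_add_right, S.bb_smul_right, (q l).h1', (q l).h1, (q l).he, (q l).hf, hbl.1.1, hbl.1.2,
        S.bb_comm (b l) (q l).e, S.bb_comm (b l) (q l).f]
      constructor <;> congr 1 <;> ring
    refine ⟨e2.1.trans e2.2.symm, ?_⟩
    rw [e2.1]
    refine smul_ne_zero (neg_ne_zero.2 hbl.2) fun h0 => ?_
    have := congrArg (fun T => T *ᵥ (q l).e) h0
    simp [P_mulVec, (q l).h1, (q l).f_ne] at this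
  have hU'n : U' n' = U n' ∧ V' n' = V n' :=
    ⟨Finset.piecewise_eq_of_notMem _ _ _ hn'A, Finset.piecewise_eq_of_notMem _ _ _ hn'A⟩
  have hV : V' = Function.update U' n' (V n') := funext fun l => by
    rcases eq_or_ne l n' with rfl | hl
    · rw [Function.update_self, hU'n.2]
    · rw [Function.update_of_ne hl]
      by_cases hlA : l ∈ A
      · exact (hPi l hlA).1.symm
      · simp only [U', V', Finset.piecewise_eq_of_notMem _ _ _ hlA, hUV l hl hlA]
  have h0' : pmat (Function.update U' n' (U n' - V n')) = 0 := by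
    rw [pmat_update_sub, ← hU'n.1, Function.update_eq_self, ← hV, h0]
  refine pmat_ne_zero (fun l => ?_) h0'
  rcases eq_or_ne l n' with rfl | hl
  · rw [Function.update_self]
    obtain ⟨haW, haQ⟩ := ha l hn'
    intro hz
    have := congrArg (fun T => S.bb (T *ᵥ (q l).e) (q l).f) hz
    simp only [U, V, hB', Finset.piecewise_eq_of_mem _ _ _ (Finset.mem_insert_self _ _), hB, stdB, if_neg hn'A,
      if_pos hn', Ad_N, b, if_true, z_f_e (q l) haW, z_mulVec, Matrix.sub_mulVec, ← Matrix.mulVec_mulVec,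
      N_mulVec, Matrix.mulVec_sub, Matrix.mulVec_smul, Matrix.mulVec_add, Matrix.zero_mulVec, S.bb_zero_left,
      S.bb_sub_left, S.bb_add_left, S.bb_smul_left, S.bb_sub_right, S.bb_add_right, S.bb_smul_right,
      (q l).h1', (q l).h1, (q l).he, (q l).hf, haW.1, haW.2, S.bb_comm (a l) (q l).e, S.bb_comm (a l) (q l).f,
      S.bb_self (a l)] at this
    have h4 : (2 : F) * S.Q (a l) * S.Q (a l) = 0 := by linear_combination -this
    exact mul_ne_zero (mul_ne_zero S.two haQ) haQ h4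
  · rw [Function.update_of_ne hl]
    by_cases hlA : l ∈ A
    · exact (hPi l hlA).2
    · simp only [U', Finset.piecewise_eq_of_notMem _ _ _ hlA]
      by_cases hlD : l ∈ D
      · rw [hUD l hlD hl]
        refine smul_ne_zero (neg_ne_zero.2 (by rw [S.bb_self]; exact mul_ne_zero S.two (ha l hlD).2)) fun h0 => ?_
        have := congrArg (fun T => T *ᵥ (q l).f) h0
        simp [P_mulVec, (q l).h1', (q l).e_ne] at this
      · have : Nonempty (Fin k) := ⟨⟨0, by have := S.three_le; omega⟩⟩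
        simp [U, hB', Finset.piecewise_eq_of_notMem _ _ _ (show l ∉ insert n' A by simp [hl, hlA]), hB, stdB,
          hlA, hlD]

/-- A radical slot with a free slot gives a higher level. -/
theorem no_one (hbig : 5 ≤ Fintype.card F ∨ 4 ≤ k)
    (IH : ∀ (q' : Fin t → S.Pr) (A' : Finset (Fin t)) (hA' : A'.Nonempty), A.card < A'.card →
      ∀ Y ∈ lv M q' hA', Y = 0)
    {i m r : Fin t} (hi : i ∈ A) (hm : m ∉ A) (hr : r ∉ A) (hmr : m ≠ r)
    (ha : (q m).InW (a m) ∧ S.Q (a m) ≠ 0) (hc : c ≠ 0)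
    (h : MV M (ex F (c • pmat (stdB q A {m} a)))) : False := by
  classical
  choose w hw hQw using fun l : Fin t => (q l).exists_aniso
  have him : i ≠ m := fun e => hm (e ▸ hi)
  have hir : i ≠ r := fun e => hr (e ▸ hi)
  set B := stdB q A {m} a with hB
  have hBi : B i = S.P (q i).e := by rw [hB, stdB, if_pos hi]
  have hBm : B m = S.N (q m).e (a m) := by rw [hB, stdB, if_neg hm, if_pos (Finset.mem_singleton_self m)]
  have hBr : B r = 1 := by rw [hB, stdB, if_neg hr, if_neg (by simp [hmr.symm])]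
  -- a conjugate of the radical element that does not kill the centre
  set N := S.N (q m).e (a m) with hN
  have hN0 : N ≠ 0 := Pr.N_ne_zero ha.1 fun e => ha.2 (by rw [e, S.Q_zero])
  obtain ⟨u, hu, hNu⟩ : ∃ u, (q i).InW u ∧ N *ᵥ (S.z (q i).f (-u) *ᵥ (q i).e) ≠ 0 := by
    by_contra hcon
    push Not at hcon
    have he : N *ᵥ (q i).e = 0 := by
      have := hcon 0 (q i).inW_zero
      rwa [neg_zero, S.z_zero, Matrix.one_mulVec] at this
    have hW : ∀ v, (q i).InW v → N *ᵥ v = 0 ∧ S.Q v • (N *ᵥ (q i).f) = 0 := by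
      intro v hv
      have e1 := hcon v hv
      have e2 := hcon (-v) hv.neg
      rw [z_f_e (q i) hv.neg] at e1
      rw [neg_neg, z_f_e (q i) hv] at e2
      simp only [Matrix.mulVec_add, Matrix.mulVec_smul, Matrix.mulVec_neg, he, S.Q_neg, zero_add] at e1 e2
      refine ⟨(smul_eq_zero.1 (?_ : (2 : F) • (N *ᵥ v) = 0)).resolve_left S.two, (smul_eq_zero.1
        (?_ : (2 : F) • (S.Q v • (N *ᵥ (q i).f)) = 0)).resolve_left S.two⟩
      · rw [two_smul]; linear_combination (norm := module) e2 - e1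
      · rw [two_smul]; linear_combination (norm := module) (-1 : F) • e2 - (1 : F) • e1
    have hf : N *ᵥ (q i).f = 0 := (smul_eq_zero.1 (hW _ (hw i)).2).resolve_left (hQw i)
    refine hN0 (Matrix.ext_of_mulVec_single fun j => ?_)
    rw [(q i).eq_pr_add (Pi.single j 1), Matrix.mulVec_add, Matrix.mulVec_add, Matrix.mulVec_smul,
      Matrix.mulVec_smul, (hW _ ((q i).pr_mem _)).1, he, hf]
    simp
  set N' := S.Ad (q i).f u N with hN'
  have hN'so : N' ∈ S.so := by rw [hN', hN, Ad_N]; exact S.N_mem_so _ _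
  have hN'e : N' *ᵥ (q i).e ≠ 0 := by
    show (S.z (q i).f u * N * S.z (q i).f (-u)) *ᵥ (q i).e ≠ 0
    rw [← Matrix.mulVec_mulVec, ← Matrix.mulVec_mulVec]
    intro h0
    refine hNu ?_
    have := congrArg (fun x => S.z (q i).f (-u) *ᵥ x) h0
    simp only [Matrix.mulVec_mulVec _ (S.z (q i).f (-u)) (S.z (q i).f u)] at this
    rw [S.z_mul (q i).hf (by rw [S.bb_neg_right, hu.2, neg_zero]) hu.2, neg_add_cancel, S.z_zero, Matrix.one_mulVec,
      Matrix.mulVec_zero] at this
    exact this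
  -- a singular vector seeing it
  obtain ⟨g0, hg0, hg1, hg2⟩ : ∃ g0, S.bb g0 g0 = 0 ∧ S.bb g0 (q i).e ≠ 0 ∧ S.bb g0 (N' *ᵥ (q i).e) ≠ 0 := by
    by_contra hcon
    push Not at hcon
    refine hN'e (S.eq_zero_of_bb fun v => ?_)
    set x := N' *ᵥ (q i).e
    have hex : S.bb (q i).e x = 0 := by rw [S.bb_comm]; exact S.bb_skew_self hN'so _
    have hg : ∀ v', (q i).InW v' → S.bb ((q i).f + v' + (-S.Q v') • (q i).e) x = 0 := fun v' hv' => by
      refine hcon _ ?_ ?_
      · simp only [S.bb_add_left, S.bb_add_right, S.bb_smul_left, S.bb_smul_right, (q i).he, (q i).hf, (q i).h1,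
          (q i).h1', hv'.1, hv'.2, S.bb_comm v' (q i).e, S.bb_comm v' (q i).f, S.bb_self v']
        ring
      · simp [S.bb_add_left, S.bb_neg_left, S.bb_smul_left, (q i).he, (q i).h1', S.bb_comm v' (q i).e, hv'.1]
    have hf : S.bb (q i).f x = 0 := by simpa [S.Q_zero] using hg 0 (q i).inW_zero
    have hW : ∀ v', (q i).InW v' → S.bb v' x = 0 := fun v' hv' => by
      have := hg v' hv'
      simpa [S.bb_add_left, S.bb_neg_left, S.bb_smul_left, hex, hf] using this
    rw [(q i).eq_pr_add v, S.bb_add_left, S.bb_add_left, S.bb_smul_left, S.bb_smul_left, hW _ ((q i).pr_mem v),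
      hex, hf]
    ring
  obtain ⟨pg, hpg⟩ := exists_pr_of hg0 (fun e => hg1 (by rw [e, S.bb_zero_left]))
  -- the partner
  set σ : Equiv.Perm (Fin t) := Equiv.swap i r * Equiv.swap r m with hσ
  have σi : σ i = r := by simp [hσ, Equiv.swap_apply_of_ne_of_ne hir him]
  have σr : σ r = m := by simp [hσ, Equiv.swap_apply_of_ne_of_ne him.symm hmr]
  have σm : σ m = i := by simp [hσ]
  have σo : ∀ x, x ≠ i → x ≠ r → x ≠ m → σ x = x := fun x h1 h2 h3 => by
    simp [hσ, Equiv.swap_apply_of_ne_of_ne h2 h3, Equiv.swap_apply_of_ne_of_ne h1 h2]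
  have σ3 : σ * σ * σ = 1 := Equiv.ext fun x => by
    simp only [Equiv.Perm.mul_apply, Equiv.Perm.one_apply]
    by_cases h1 : x = i
    · rw [h1, σi, σr, σm]
    by_cases h2 : x = r
    · rw [h2, σr, σm, σi]
    by_cases h3 : x = m
    · rw [h3, σm, σi, σr]
    rw [σo x h1 h2 h3, σo x h1 h2 h3, σo x h1 h2 h3]
  have hpm : MV M (permMat σ : Matrix (Fin t → Fin k) (Fin t → Fin k) F) ∧
      MV M (permMat σ⁻¹ : Matrix (Fin t → Fin k) (Fin t → Fin k) F) := by
    have e1 : σ = (σ * σ) * (σ * σ) := by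
      calc σ = (σ * σ * σ) * σ := by rw [σ3, one_mul]
        _ = _ := by group
    have hm1 : MV M (permMat σ : Matrix (Fin t → Fin k) (Fin t → Fin k) F) := by
      rw [e1]; exact H.perm_sq _
    exact ⟨hm1, hm1.inv (by rw [permMat_mul, mul_inv_cancel, permMat_one])⟩
  have hperm : MV M (ex F (c • pmat (B ∘ ⇑σ⁻¹))) := by
    have := (hpm.1.mul h).mul hpm.2
    rwa [ex_cj (by rw [permMat_mul, mul_inv_cancel, permMat_one]) (by rw [permMat_mul, inv_mul_cancel, permMat_one]),
      mul_smul_comm, permMat_mul_pmat, smul_mul_assoc, mul_assoc, permMat_mul, mul_inv_cancel, permMat_one,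
      mul_one] at this
  let b : Fin t → Fin k → F := fun l => if l = i then u else w l
  have hb : ∀ l, (q l).InW (b l) := fun l => by
    by_cases hl : l = i
    · subst hl; simp only [b, if_true]; exact hu
    · simp only [b, if_neg hl]; exact hw l
  set B' := A.piecewise (fun l => S.Ad (q l).f (b l) ((B ∘ ⇑σ⁻¹) l)) (B ∘ ⇑σ⁻¹) with hB'
  have h' : MV M (ex F (c • pmat B')) := H.cj_set c (fun l => (q l).f) b (fun l => (q l).hf) (fun l => (hb l).2) hperm A
  have σi' : σ⁻¹ i = m := Equiv.Perm.inv_eq_iff_eq.2 σm.symm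
  have σr' : σ⁻¹ r = i := Equiv.Perm.inv_eq_iff_eq.2 σi.symm
  have σm' : σ⁻¹ m = r := Equiv.Perm.inv_eq_iff_eq.2 σr.symm
  have σo' : ∀ x, x ≠ i → x ≠ r → x ≠ m → σ⁻¹ x = x := fun x h1 h2 h3 =>
    Equiv.Perm.inv_eq_iff_eq.2 (σo x h1 h2 h3).symm
  have hB'i : B' i = N' := by
    simp only [hB', Finset.piecewise_eq_of_mem _ _ _ hi, Function.comp_apply, σi', hBm, b, if_true, hN']
  have hB'r : B' r = S.P (q i).e := by
    rw [hB', Finset.piecewise_eq_of_notMem _ _ _ hr, Function.comp_apply, σr', hBi]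
  have hB'm : B' m = 1 := by
    rw [hB', Finset.piecewise_eq_of_notMem _ _ _ hm, Function.comp_apply, σm', hBr]
  have hB'o : ∀ l, l ∉ A → l ≠ r → l ≠ m → B' l = 1 ∧ B l = 1 := fun l h1 h2 h3 => by
    have hBl : B l = 1 := by rw [hB, stdB, if_neg h1, if_neg (by simp [h3])]
    exact ⟨by rw [hB', Finset.piecewise_eq_of_notMem _ _ _ h1, Function.comp_apply,
      σo' l (fun e => h1 (e ▸ hi)) h2 h3, hBl], hBl⟩
  have h1sq : c • pmat B * c • pmat B = 0 := by
    rw [smul_mul_smul_comm, pmat_mul, pmat_eq_zero (l := i) (by rw [hBi, S.P_mul_P (q i).he]), smul_zero]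
  have h2sq : c • pmat B' * c • pmat B' = 0 := by
    rw [smul_mul_smul_comm, pmat_mul, pmat_eq_zero (l := r) (by rw [hB'r, S.P_mul_P (q i).he]), smul_zero]
  have h3 : c • pmat B * c • pmat B' * c • pmat B = 0 := by
    rw [smul_mul_smul_comm, smul_mul_smul_comm, pmat_mul, pmat_mul, pmat_eq_zero (l := i) (by
      rw [hBi, hB'i]; exact S.Pi_so hN'so _), smul_zero]
  have h4 : c • pmat B' * c • pmat B * c • pmat B' = 0 := by
    rw [smul_mul_smul_comm, smul_mul_smul_comm, pmat_mul, pmat_mul, pmat_eq_zero (l := r) (by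
      rw [hBr, hB'r, mul_one, S.P_mul_P (q i).he]), smul_zero]
  have htrip : ∀ x y z, x ∈ ({c • pmat B, c • pmat B'} : Set _) → y ∈ ({c • pmat B, c • pmat B'} : Set _) →
      z ∈ ({c • pmat B, c • pmat B'} : Set _) → x * y * z = 0 := by
    rintro x y z (rfl | rfl) (rfl | rfl) (rfl | rfl)
    all_goals first
      | exact h3
      | exact h4
      | (rw [h1sq, zero_mul])
      | (rw [h2sq, zero_mul])
      | (rw [mul_assoc, h1sq, mul_zero])
      | (rw [mul_assoc, h2sq, mul_zero])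
  have hneg : ∀ {x}, x ∈ ({c • pmat B, c • pmat B'} : Set _) → MV M (ex F x) → MV M (ex F (-x)) :=
    fun hx hm => H.mv_neg (r := 0) (htrip _ _ _ hx hx hx) hm
  have hE := ((h.mul h').mul (hneg (Or.inl rfl) h)).mul (hneg (Or.inr rfl) h')
  rw [ex_comm S.two htrip, smul_mul_smul_comm, smul_mul_smul_comm, pmat_mul, pmat_mul, ← smul_sub] at hE
  set U := fun l => B l * B' l
  set V := fun l => B' l * B l
  have hUV : ∀ l, l ∉ A → U l = V l ∧ U l ≠ 0 := fun l hl => by
    have : Nonempty (Fin k) := ⟨⟨0, by have := S.three_le; omega⟩⟩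
    rcases eq_or_ne l r with rfl | hlr
    · refine ⟨by simp only [U, V, hBr, mul_one, one_mul], fun h0 => ?_⟩
      simp only [U, hBr, hB'r, one_mul] at h0
      have := congrArg (fun T => T *ᵥ (q i).f) h0
      simp [P_mulVec, (q i).h1', (q i).e_ne] at this
    rcases eq_or_ne l m with rfl | hlm
    · refine ⟨by simp only [U, V, hB'm, mul_one, one_mul], ?_⟩
      simp only [U, hB'm, mul_one, hBm]
      exact hN0
    · simp [U, V, (hB'o l hl hlr hlm).1, (hB'o l hl hlr hlm).2]
  let q₁ := Function.update q r (q i)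
  have hPr : ∀ W : Fin t → Matrix (Fin k) (Fin k) F, W r = U r →
      InS r (Submodule.span F {S.P (q₁ r).e}) (pmat W) := fun W hW => by
    refine InS.pmat ?_
    simp only [hW, U, hBr, hB'r, one_mul, q₁, Function.update_self]
    exact Submodule.mem_span_singleton_self _
  have hmem : (c * c) • (pmat U - pmat V) ∈ lv M q₁ (Finset.singleton_nonempty r) := by
    refine ⟨fun l hl => ?_, hE⟩
    obtain rfl := Finset.mem_singleton.1 hl
    refine InS.smul ?_ _
    rw [sub_eq_add_neg, ← neg_one_smul F (pmat V)]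
    exact (hPr U rfl).add ((hPr V (hUV l hr).1.symm).smul _)
  let g : Fin t → S.Pr := fun l => if l = i then pg else (q l).swap
  obtain ⟨c', hc', hc''⟩ := pi_all H hbig g (mul_ne_zero hc hc) hmem A (Finset.disjoint_singleton_right.2 hr)
  have h0 := IH _ ({r} ∪ A) _ (by
    rw [← Finset.insert_eq, Finset.card_insert_of_notMem hr]; omega) _ hc''
  rw [smul_eq_zero, or_iff_right hc'] at h0
  set U' := A.piecewise (fun l => S.Pi (g l).e (U l)) U
  set V' := A.piecewise (fun l => S.Pi (g l).e (V l)) V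
  set s := S.bb g0 (q i).e * S.bb g0 (N' *ᵥ (q i).e) with hs
  have hgi : g i = pg := if_pos rfl
  have hPne : ∀ p : S.Pr, S.P p.e ≠ 0 := fun p h0 => by
    have := congrArg (fun T => T *ᵥ p.f) h0
    simp [P_mulVec, p.h1', p.e_ne] at this
  have hUi : U' i = (-s) • S.P pg.e ∧ V' i = s • S.P pg.e := by
    simp only [U', V', Finset.piecewise_eq_of_mem _ _ _ hi, hgi, S.Pi_apply, U, V, hBi, hB'i,
      ← Matrix.mulVec_mulVec, P_mulVec, Matrix.mulVec_smul, S.bb_smul_left, hpg, hs]
    constructor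
    · congr 1
      rw [S.bb_skew hN'so, S.bb_comm (q i).e g0]; ring
    · congr 1
      rw [S.bb_comm (N' *ᵥ (q i).e)]
  have hUo : ∀ l, l ≠ i → U' l = V' l ∧ U' l ≠ 0 := by
    intro l hli
    by_cases hlA : l ∈ A
    swap
    · simpa only [U', V', Finset.piecewise_eq_of_notMem _ _ _ hlA] using hUV l hlA
    have hlr : l ≠ r := fun e => hr (e ▸ hlA)
    have hlm : l ≠ m := fun e => hm (e ▸ hlA)
    have e1 := z_f_e (q l) (hw l)
    have e2 : U' l = (-S.Q (w l)) • S.P (q l).f ∧ V' l = (-S.Q (w l)) • S.P (q l).f := by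
      simp only [U', V', Finset.piecewise_eq_of_mem _ _ _ hlA, U, V, hB', Function.comp_apply,
        σo' l hli hlr hlm, hB, stdB, if_pos hlA, b, if_neg hli, g, Pr.swap, Ad_P, e1, S.Pi_apply,
        ← Matrix.mulVec_mulVec, P_mulVec, Matrix.mulVec_smul, S.bb_smul_left, S.bb_add_left,
        S.bb_add_right, S.bb_smul_right, (q l).h1', (q l).h1, (q l).he, (q l).hf, (hw l).1, (hw l).2,
        S.bb_comm (w l) (q l).e, S.bb_comm (w l) (q l).f]
      constructor <;> congr 1 <;> ring
    exact ⟨e2.1.trans e2.2.symm, by rw [e2.1]; exact smul_ne_zero (neg_ne_zero.2 (hQw l)) (hPne (q l).swap)⟩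
  have hV : V' = Function.update U' i (V' i) := funext fun l => by
    rcases eq_or_ne l i with rfl | hl
    · rw [Function.update_self]
    · rw [Function.update_of_ne hl, (hUo l hl).1]
  have h0' : pmat (Function.update U' i (U' i - V' i)) = 0 := by
    rw [pmat_update_sub, Function.update_eq_self, ← hV, h0]
  refine pmat_ne_zero (fun l => ?_) h0'
  rcases eq_or_ne l i with rfl | hl
  · rw [Function.update_self, hUi.1, hUi.2, ← sub_smul]
    refine smul_ne_zero ?_ (hPne pg)
    rw [show -s - s = -(2 * s) by ring]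
    exact neg_ne_zero.2 (mul_ne_zero S.two (mul_ne_zero hg1 hg2))
  · rw [Function.update_of_ne hl]
    exact (hUo l hl).2

end Sym

end CfsgLib.ClassicalMax.OWr
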