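/-
Ranks of slots and unipotent products with small ranks.
-/
import Cfsg.Agent.Lib.ClassicalMax.OrthWreath.Hyp
set_option autoImplicit false
set_option linter.unusedSectionVars false
set_option linter.unusedVariables false
set_option linter.unusedSimpArgs false

namespace CfsgLib.ClassicalMax.OWr

open Matrix Cfsg.Geo
open CfsgLib.ClassicalMax.TWreath

variable {F : Type*} [Field F] {k t : ℕ}

lemma slot_diagonal (i : Fin t) (d : Fin k → F) :
    slot i (Matrix.diagonal d) = Matrix.diagonal fun a : Fin t → Fin k => d (a i) := by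
  ext a b
  rw [slot_apply]
  by_cases h : a = b
  · subst h; simp
  · rw [Matrix.diagonal_apply_ne _ h]
    split_ifs with hl
    · rw [Matrix.diagonal_apply_ne]
      exact fun e => h (funext fun l => by
        rcases eq_or_ne l i with rfl | hli
        · exact e
        · exact hl l hli)
    · rfl

/-- The sum of rank one maps. -/
def sumR {c : ℕ} (x φ : Fin c → Fin k → F) : Matrix (Fin k) (Fin k) F := ∑ j, Matrix.vecMulVec (x j) (φ j)

lemma sumR_mulVec {c : ℕ} (x φ : Fin c → Fin k → F) (v : Fin k → F) :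
    sumR x φ *ᵥ v = ∑ j, (φ j ⬝ᵥ v) • x j := by
  rw [sumR, Matrix.sum_mulVec]
  exact Finset.sum_congr rfl fun j _ => by rw [Matrix.vecMulVec_mulVec, op_smul_eq_smul]

lemma card_slot (i : Fin t) (s : Finset (Fin k)) :
    Fintype.card {a : Fin t → Fin k // a i ∈ s} = s.card * k ^ (t - 1) := by
  rw [Fintype.card_congr ((Equiv.funSplitAt i (Fin k)).subtypeEquiv (q := fun x => x.1 ∈ s)
    fun a => by simp [Equiv.funSplitAt, Equiv.piSplitAt]),
    Fintype.card_congr (Equiv.prodSubtypeFstEquivSubtypeProd (p := fun x : Fin k => x ∈ s))]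
  simp [Fintype.card_coe]

lemma rank_slot_proj (i : Fin t) (s : Finset (Fin k)) :
    (slot i (Matrix.diagonal fun p => if p ∈ s then (1 : F) else 0)).rank = s.card * k ^ (t - 1) := by
  classical
  rw [slot_diagonal, Matrix.rank_diagonal, ← card_slot i s]
  exact Fintype.card_congr (Equiv.subtypeEquivRight fun a => by simp)

/-- The columns as a square matrix. -/
def cols {c : ℕ} (hc : c ≤ k) (x : Fin c → Fin k → F) : Matrix (Fin k) (Fin k) F :=
  ∑ j, Matrix.vecMulVec (x j) (Pi.single (Fin.castLE hc j) 1)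

/-- The rows as a square matrix. -/
def rows {c : ℕ} (hc : c ≤ k) (φ : Fin c → Fin k → F) : Matrix (Fin k) (Fin k) F :=
  ∑ j, Matrix.vecMulVec (Pi.single (Fin.castLE hc j) 1) (φ j)

lemma diag_castLE {c : ℕ} (hc : c ≤ k) :
    (Matrix.diagonal fun p => if p ∈ (Finset.univ : Finset (Fin c)).map (Fin.castLEEmb hc) then (1 : F) else 0) =
      ∑ j, Matrix.vecMulVec (Pi.single (Fin.castLE hc j) 1) (Pi.single (Fin.castLE hc j) 1) := by
  classical
  ext a b
  simp only [Matrix.sum_apply, Matrix.vecMulVec_apply, Pi.single_apply, Matrix.diagonal_apply, Finset.mem_map,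
    Finset.mem_univ, true_and, Fin.castLEEmb_apply]
  split_ifs with hab hex
  · obtain ⟨j, rfl⟩ := hex
    subst hab
    rw [Finset.sum_eq_single j (fun j' _ hj' => by simp [(Fin.castLE_injective hc).ne hj'.symm]) (by simp)]
    simp
  · subst hab
    rw [Finset.sum_eq_zero]
    intro j _
    have : a ≠ Fin.castLE hc j := fun e => hex ⟨j, e.symm⟩
    simp [this]
  · rw [Finset.sum_eq_zero]
    intro j _
    split_ifs with h1 h2
    · exact absurd (h1.trans h2.symm) hab
    all_goals simp

lemma sum_mul_sum {c : ℕ} (x e e' y : Fin c → Fin k → F) (h : ∀ a b, e a ⬝ᵥ e' b = if a = b then 1 else 0) :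
    (∑ a, Matrix.vecMulVec (x a) (e a)) * (∑ b, Matrix.vecMulVec (e' b) (y b)) = ∑ a, Matrix.vecMulVec (x a) (y a) := by
  classical
  rw [Finset.sum_mul]
  refine Finset.sum_congr rfl fun a _ => ?_
  rw [Finset.mul_sum, Finset.sum_eq_single a (fun b _ hb => by
    rw [Matrix.vecMulVec_mul_vecMulVec, h, if_neg hb.symm, zero_smul, Matrix.vecMulVec_zero]) (by simp),
    Matrix.vecMulVec_mul_vecMulVec, h, if_pos rfl, one_smul]

lemma cols_rows {c : ℕ} (hc : c ≤ k) (x φ : Fin c → Fin k → F) :
    cols hc x * (Matrix.diagonal fun p => if p ∈ (Finset.univ : Finset (Fin c)).map (Fin.castLEEmb hc) then (1 : F)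
      else 0) * rows hc φ = sumR x φ := by
  classical
  have h : ∀ a b : Fin c, (Pi.single (Fin.castLE hc a) (1 : F) : Fin k → F) ⬝ᵥ Pi.single (Fin.castLE hc b) 1 =
      if a = b then 1 else 0 := fun a b => by simp [Pi.single_apply, eq_comm]
  rw [diag_castLE, cols, rows, sumR, sum_mul_sum _ _ _ _ h, sum_mul_sum _ _ _ _ h]

lemma rank_sumR_le (i : Fin t) {c : ℕ} (hc : c ≤ k) (x φ : Fin c → Fin k → F) :
    (slot i (sumR x φ)).rank ≤ c * k ^ (t - 1) := by
  classical
  rw [← cols_rows hc, map_mul, map_mul]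
  refine (Matrix.rank_mul_le_left _ _).trans ((Matrix.rank_mul_le_right _ _).trans ?_)
  rw [rank_slot_proj]
  simp

lemma rows_cols {c : ℕ} (hc : c ≤ k) {x φ : Fin c → Fin k → F}
    (hδ : ∀ a b, φ a ⬝ᵥ x b = if a = b then 1 else 0) :
    rows hc φ * sumR x φ * cols hc x =
      Matrix.diagonal fun p => if p ∈ (Finset.univ : Finset (Fin c)).map (Fin.castLEEmb hc) then (1 : F) else 0 := by
  classical
  rw [diag_castLE, cols, rows, sumR, sum_mul_sum _ _ _ _ hδ, sum_mul_sum _ _ _ _ hδ]

lemma rank_sumR (i : Fin t) {c : ℕ} (hc : c ≤ k) {x φ : Fin c → Fin k → F}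
    (hδ : ∀ a b, φ a ⬝ᵥ x b = if a = b then 1 else 0) : (slot i (sumR x φ)).rank = c * k ^ (t - 1) := by
  classical
  refine le_antisymm (rank_sumR_le i hc x φ) ?_
  have := rank_slot_proj (F := F) i ((Finset.univ : Finset (Fin c)).map (Fin.castLEEmb hc))
  rw [Finset.card_map, Finset.card_univ, Fintype.card_fin, ← rows_cols hc hδ, map_mul, map_mul] at this
  rw [← this]
  exact (Matrix.rank_mul_le_left _ _).trans (Matrix.rank_mul_le_right _ _)

/-- Functionals dual to independent vectors. -/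
lemma exists_duals {c : ℕ} {v : Fin c → Fin k → F} (hv : LinearIndependent F v) :
    ∃ ψ : Fin c → Fin k → F, ∀ a b, ψ a ⬝ᵥ v b = if a = b then 1 else 0 := by
  obtain ⟨g, hg⟩ := LinearMap.exists_leftInverse_of_injective (Fintype.linearCombination F v)
    (LinearMap.ker_eq_bot.2 (linearIndependent_iff_injective_fintypeLinearCombination.1 hv))
  refine ⟨fun a p => g (Pi.single p 1) a, fun a b => ?_⟩
  have e : (fun p => g (Pi.single p 1) a) ⬝ᵥ v b = g (v b) a := by
    conv_rhs => rw [pi_eq_sum_univ' (v b), map_sum, Finset.sum_apply]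
    simp only [dotProduct, map_smul, Pi.smul_apply, smul_eq_mul]
    exact Finset.sum_congr rfl fun p _ => mul_comm _ _
  rw [e]
  have := congrFun (LinearMap.congr_fun hg (Pi.single b 1)) a
  simp only [LinearMap.comp_apply, Fintype.linearCombination_apply_single, one_smul, LinearMap.id_apply] at this
  rw [this, Pi.single_apply]

/-- A commuting unipotent factor does not lower the rank on a slot. -/
lemma eq_zero_of_ker {n D π : Matrix (Fin k) (Fin k) F} {i : Fin t}
    {b : Matrix (Fin t → Fin k) (Fin t → Fin k) F} (hb : IsNilpotent b) (hc : ∀ Y, slot i Y * b = b * slot i Y)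
    {j : ℕ} (hD : D * n ^ j * π = π) {y : (Fin t → Fin k) → F} (hπ : slot i π *ᵥ y = y)
    (h : (slot i (1 + n) * (1 + b) - 1) ^ j *ᵥ y = 0) : y = 0 := by
  classical
  by_contra hy
  obtain ⟨N, hN⟩ := hb
  have hex : ∃ d, b ^ d *ᵥ y = 0 := ⟨N, by rw [hN, Matrix.zero_mulVec]⟩
  obtain ⟨d, hd⟩ : ∃ d, Nat.find hex = d + 1 := Nat.exists_eq_succ_of_ne_zero fun h0 => hy (by
    simpa [h0] using Nat.find_spec hex)
  set z := b ^ d *ᵥ y with hz
  have hz0 : z ≠ 0 := Nat.find_min hex (by omega)
  have hbz : b *ᵥ z = 0 := by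
    rw [hz, Matrix.mulVec_mulVec, ← pow_succ', ← hd]
    exact Nat.find_spec hex
  have hcd : ∀ Y, slot i Y * b ^ d = b ^ d * slot i Y := fun Y => Commute.pow_right (hc Y) d
  set T := slot i (1 + n) * (1 + b) - 1 with hT
  have hTb : T * b = b * T := by
    have h := hc (1 + n)
    rw [hT, sub_mul, mul_sub, one_mul, mul_one, mul_assoc, ← mul_assoc b, ← h, mul_assoc,
      show (1 + b) * b = b * (1 + b) by noncomm_ring]
  have hTz : T ^ j *ᵥ z = 0 := by
    rw [hz, Matrix.mulVec_mulVec, (Commute.pow_pow (hTb : Commute T b) j d).eq, ← Matrix.mulVec_mulVec, h,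
      Matrix.mulVec_zero]
  have hTn : ∀ m : ℕ, T ^ m *ᵥ z = slot i (n ^ m) *ᵥ z := by
    intro m
    induction m with
    | zero => simp
    | succ m ih =>
      have hs : slot i (n ^ m) * b = b * slot i (n ^ m) := hc _
      have e0 : b *ᵥ (slot i (n ^ m) *ᵥ z) = 0 := by
        rw [Matrix.mulVec_mulVec, ← hs, ← Matrix.mulVec_mulVec, hbz, Matrix.mulVec_zero]
      rw [pow_succ' T, ← Matrix.mulVec_mulVec, ih, hT, Matrix.sub_mulVec, Matrix.one_mulVec, ← Matrix.mulVec_mulVec,
        Matrix.add_mulVec, Matrix.one_mulVec, e0, add_zero, map_add, map_one, Matrix.add_mulVec, Matrix.one_mulVec,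
        add_sub_cancel_left, Matrix.mulVec_mulVec, ← map_mul, ← pow_succ']
  have h1 : slot i π *ᵥ z = z := by
    rw [hz, Matrix.mulVec_mulVec, hcd, ← Matrix.mulVec_mulVec, hπ]
  refine hz0 ?_
  rw [← h1, ← hD, map_mul, map_mul, ← Matrix.mulVec_mulVec, ← Matrix.mulVec_mulVec, h1, ← hTn, hTz,
    Matrix.mulVec_zero]

/-- The range of a slot under a unipotent product. -/
lemma le_finrank_map {n D π : Matrix (Fin k) (Fin k) F} {i : Fin t}
    {b : Matrix (Fin t → Fin k) (Fin t → Fin k) F} (hb : IsNilpotent b) (hc : ∀ Y, slot i Y * b = b * slot i Y)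
    {j : ℕ} (hD : D * n ^ j * π = π) (hπ : π * π = π) :
    (slot (t := t) i π).rank ≤ Module.finrank F
      ((LinearMap.range (slot (t := t) i π).mulVecLin).map ((slot i (1 + n) * (1 + b) - 1) ^ j).mulVecLin) := by
  rw [Matrix.rank]
  set W := LinearMap.range (slot (t := t) i π).mulVecLin
  let f := ((slot i (1 + n) * (1 + b) - 1) ^ j).mulVecLin.domRestrict W
  have hinj : Function.Injective f := by
    rw [← LinearMap.ker_eq_bot]
    refine LinearMap.ker_eq_bot'.2 fun y hy => Subtype.ext (eq_zero_of_ker hb hc hD ?_ hy)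
    obtain ⟨y, x, rfl⟩ := y
    show slot i π *ᵥ (slot i π *ᵥ x) = slot i π *ᵥ x
    rw [Matrix.mulVec_mulVec, ← map_mul, hπ]
  rw [← LinearMap.finrank_range_of_inj hinj, LinearMap.range_domRestrict]

end CfsgLib.ClassicalMax.OWr
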