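/-
Conjugates of Siegel elements of a slot in the wreath group do not permute the slots.
-/
import Cfsg.Agent.Lib.ClassicalMax.OrthWreath.Level
import Cfsg.Agent.Lib.ClassicalMax.OrthWreath.Rank
import Cfsg.Agent.Lib.ClassicalMax.TWreath.Trace
set_option autoImplicit false
set_option linter.unusedSectionVars false
set_option linter.unusedVariables false
set_option linter.unusedSimpArgs false

namespace CfsgLib.ClassicalMax.OWr

open Matrix Cfsg.Geo
open CfsgLib.ClassicalMax.TWreath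

variable {F : Type*} [Field F] {k t : ℕ}

/-- Five zeros kill a polynomial of degree four. -/
lemma quartic_zero {c0 c1 c2 c3 c4 : F} {Z : Finset F} (hZ : 5 ≤ Z.card)
    (h : ∀ s ∈ Z, c0 + s * c1 + s ^ 2 * c2 + s ^ 3 * c3 + s ^ 4 * c4 = 0) :
    c0 = 0 ∧ c1 = 0 ∧ c2 = 0 ∧ c3 = 0 ∧ c4 = 0 := by
  classical
  open Polynomial in
  set P : F[X] := C c4 * X ^ 4 + C c3 * X ^ 3 + C c2 * X ^ 2 + C c1 * X + C c0 with hP
  have hd : P.natDegree ≤ 4 := by rw [hP]; compute_degree
  have h0 : P = 0 := Polynomial.eq_zero_of_natDegree_lt_card_of_eval_eq_zero' P Z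
    (fun s hs => by rw [hP]; simp only [Polynomial.eval_add, Polynomial.eval_mul, Polynomial.eval_C,
      Polynomial.eval_pow, Polynomial.eval_X]; linear_combination h s hs) (by omega)
  have e : ∀ m, P.coeff m = 0 := fun m => by rw [h0, Polynomial.coeff_zero]
  have e0 := e 0
  have e1 := e 1
  have e2 := e 2
  have e3 := e 3
  have e4 := e 4
  simp [hP, Polynomial.coeff_X, Polynomial.coeff_C] at e0 e1 e2 e3 e4
  exact ⟨e0, e1, e2, e3, e4⟩

/-- The logarithm of the exponential of degree two. -/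
lemma log_ex {A : Type*} [Ring A] [Algebra F A] (h2 : (2 : F) ≠ 0) {X : A} (h3 : X * X * X = 0) :
    (ex F X - 1) * (ex F X - 1) = X * X ∧ (ex F X - 1) - (2⁻¹ : F) • ((ex F X - 1) * (ex F X - 1)) = X ∧
      (ex F X - 1) * (ex F X - 1) * (ex F X - 1) = 0 := by
  have h3' : X * (X * X) = 0 := by rw [← mul_assoc, h3]
  have e : ex F X - 1 = X + (2⁻¹ : F) • (X * X) := by simp only [ex]; abel
  have e2 : (ex F X - 1) * (ex F X - 1) = X * X := by
    simp only [e, add_mul, mul_add, smul_mul_assoc, mul_smul_comm, mul_assoc, h3', mul_zero, smul_zero, add_zero]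
  refine ⟨e2, ?_, ?_⟩
  · rw [e2, e]; abel
  · rw [e2, e]
    simp only [mul_add, mul_smul_comm, mul_assoc, h3', mul_zero, smul_zero, add_zero]

/-- A biorthogonal family bounds the rank from below. -/
lemma card_le_rank {n ι : Type*} [Fintype n] [Fintype ι] [DecidableEq ι] (T : Matrix n n F) (x φ : ι → n → F)
    (h : ∀ a b, φ b ⬝ᵥ (T *ᵥ x a) = if b = a then 1 else 0) : Fintype.card ι ≤ T.rank := by
  have e : Matrix.of φ * T * (Matrix.of x)ᵀ = 1 := by
    ext b a
    rw [Matrix.mul_assoc, Matrix.mul_apply, Matrix.one_apply, ← h a b]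
    rfl
  have := (Matrix.rank_mul_le_left (Matrix.of φ * T) (Matrix.of x)ᵀ).trans (Matrix.rank_mul_le_right _ T)
  rwa [e, Matrix.rank_one] at this

lemma pmatGL_perm_mulVec (A : Fin t → GL (Fin k) F) (σ : Equiv.Perm (Fin t)) (x : Fin t → Fin k → F) :
    (pmatGL A * permGL σ).val *ᵥ pvec x = pvec fun l => (A l).val *ᵥ x (σ⁻¹ l) := by
  rw [Units.val_mul, ← Matrix.mulVec_mulVec, coe_permGL, permMat_mulVec_pvec, coe_pmatGL, pmat_mulVec_pvec]
  rfl

/-- A nonscalar element of a slot determines the slot. -/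
lemma eq_of_slot_eq {l m : Fin t} (hk : 2 ≤ k) {X : Matrix (Fin k) (Fin k) F}
    (h : slot l (Matrix.single (⟨0, by omega⟩ : Fin k) ⟨1, by omega⟩ (1 : F)) = slot m X) : l = m := by
  by_contra hne
  have hc := slot_comm hne (Matrix.single (⟨1, by omega⟩ : Fin k) ⟨0, by omega⟩ (1 : F)) X
  rw [← h, ← map_mul, ← map_mul] at hc
  have h1 := slot_injective l hc
  rw [Matrix.single_mul_single_same, Matrix.single_mul_single_same] at h1
  have := congrFun (congrFun h1 ⟨0, by omega⟩) ⟨0, by omega⟩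
  simp [Matrix.single, Fin.ext_iff] at this

lemma perm_pow_eq_one (hk : 2 ≤ k) {A : Fin t → GL (Fin k) F} {σ : Equiv.Perm (Fin t)} {n : ℕ}
    (h : (pmatGL A * permGL σ) ^ n = 1) : σ ^ n = 1 := by
  have H : ∀ m, ∃ B, (pmatGL A * permGL σ) ^ m = pmatGL B * permGL (σ ^ m) := by
    intro m
    induction m with
    | zero => exact ⟨1, by simp⟩
    | succ m ih =>
      obtain ⟨B, hB⟩ := ih
      refine ⟨B * (A ∘ ⇑(σ ^ m)⁻¹), ?_⟩
      rw [pow_succ, hB, pow_succ σ m, map_mul, map_mul, mul_assoc (pmatGL B), ← mul_assoc (permGL (σ ^ m)),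
        permGL_mul_pmatGL, mul_assoc, mul_assoc]
  obtain ⟨B, hB⟩ := H n
  rw [h] at hB
  refine Equiv.ext fun l => ?_
  have := conj_std_slot B (σ ^ n) l (Matrix.single (⟨0, by omega⟩ : Fin k) ⟨1, by omega⟩ (1 : F))
  rw [← hB, inv_one, Units.val_one, one_mul, mul_one] at this
  exact (eq_of_slot_eq hk this).symm

/-- No cube zero translation part permutes slots in characteristic at least five. -/
theorem perm_of_cube (hk : 2 ≤ k) {p : ℕ} (hp : p.Prime) (hp5 : 5 ≤ p) {A : Fin t → GL (Fin k) F}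
    {σ : Equiv.Perm (Fin t)} (hσp : σ ^ p = 1)
    (h : ((pmatGL A * permGL σ).val - 1) * ((pmatGL A * permGL σ).val - 1) * ((pmatGL A * permGL σ).val - 1) = 0) :
    σ = 1 := by
  classical
  by_contra hne
  obtain ⟨r, hr⟩ : ∃ r, σ⁻¹ r ≠ r := by
    by_contra hcon
    push Not at hcon
    exact hne (inv_eq_one.1 (Equiv.ext hcon))
  have hmv : ∀ j, 0 < j → j < p → (σ⁻¹ ^ j) r ≠ r := by
    intro j hj hjp hfix
    have h1 : Function.IsPeriodicPt (⇑σ⁻¹) j r := by
      rw [Function.IsPeriodicPt, Function.IsFixedPt, ← Equiv.Perm.coe_pow]; exact hfix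
    have h2 : Function.IsPeriodicPt (⇑σ⁻¹) p r := by
      rw [Function.IsPeriodicPt, Function.IsFixedPt, ← Equiv.Perm.coe_pow, inv_pow, hσp, inv_one]; rfl
    have := h1.gcd h2
    rw [Nat.Coprime.gcd_eq_one ((hp.coprime_iff_not_dvd.2 fun hd => by
      have := Nat.le_of_dvd hj hd; omega).symm)] at this
    exact hr this
  set n1 := σ⁻¹ r
  set n2 := σ⁻¹ n1
  set n3 := σ⁻¹ n2
  have h1 : n1 ≠ r := hr
  have h2 : n2 ≠ r := hmv 2 (by omega) (by omega)
  have h3 : n3 ≠ r := hmv 3 (by omega) (by omega)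
  have h12 : n2 ≠ n1 := fun e => h1 (σ⁻¹.injective e)
  have h23 : n3 ≠ n2 := fun e => h12 (σ⁻¹.injective e)
  have h13 : n3 ≠ n1 := fun e => h2 (σ⁻¹.injective e)
  let e0 : Fin k → F := Pi.single ⟨0, by omega⟩ 1
  let e1 : Fin k → F := Pi.single ⟨1, by omega⟩ 1
  let y1 := (A r)⁻¹.val *ᵥ e1
  let y2 := (A n1)⁻¹.val *ᵥ y1
  let y3 := (A n2)⁻¹.val *ᵥ y2
  let x : Fin t → Fin k → F := fun l => if l = n1 then y1 else if l = n2 then (A n1)⁻¹.val *ᵥ y1 else
    if l = n3 then (A n2)⁻¹.val *ᵥ y2 else e0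
  have hcan : ∀ (m : Fin t) (v : Fin k → F), (A m).val *ᵥ ((A m)⁻¹.val *ᵥ v) = v := fun m v => by
    rw [Matrix.mulVec_mulVec, Units.mul_inv, Matrix.one_mulVec]
  have he1 : e1 ≠ 0 := by simp [e1]
  have hxn : ∀ l, x l ≠ 0 := by
    intro l
    have e0n : e0 ≠ 0 := by simp [e0]
    simp only [x]
    split_ifs
    exacts [mulVec_ne_zero _ he1, mulVec_ne_zero _ (mulVec_ne_zero _ he1),
      mulVec_ne_zero _ (mulVec_ne_zero _ (mulVec_ne_zero _ he1)), e0n]
  choose d hd using fun l => exists_dual (hxn l)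
  let φ := Function.update d r e0
  have hφ : pvec φ ⬝ᵥ pvec x = 1 := by
    rw [pvec_dot]
    refine Finset.prod_eq_one fun l _ => ?_
    rcases eq_or_ne l r with rfl | hl
    · simp [φ, x, h1.symm, h2.symm, h3.symm, e0]
    · simp only [φ, Function.update_of_ne hl, hd]
  have hz : ∀ y : Fin t → Fin k → F, y r = e1 → pvec φ ⬝ᵥ pvec y = 0 := fun y hy => by
    rw [pvec_dot]
    exact Finset.prod_eq_zero (Finset.mem_univ r) (by simp [φ, hy, e0, e1, Fin.ext_iff])
  set u := (pmatGL A * permGL σ).val with hu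
  have hux : u *ᵥ pvec x = pvec fun l => (A l).val *ᵥ x (σ⁻¹ l) := pmatGL_perm_mulVec A σ x
  have huux : u *ᵥ (u *ᵥ pvec x) = pvec fun l => (A l).val *ᵥ ((A (σ⁻¹ l)).val *ᵥ x (σ⁻¹ (σ⁻¹ l))) := by
    rw [hux, hu, pmatGL_perm_mulVec]
  have huuux : u *ᵥ (u *ᵥ (u *ᵥ pvec x)) = pvec fun l => (A l).val *ᵥ ((A (σ⁻¹ l)).val *ᵥ
      ((A (σ⁻¹ (σ⁻¹ l))).val *ᵥ x (σ⁻¹ (σ⁻¹ (σ⁻¹ l))))) := by
    rw [huux, hu, pmatGL_perm_mulVec]
  have q1 : pvec φ ⬝ᵥ (u *ᵥ pvec x) = 0 := by
    rw [hux]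
    refine hz _ ?_
    show (A r).val *ᵥ x n1 = e1
    rw [show x n1 = y1 from if_pos rfl, hcan]
  have q2 : pvec φ ⬝ᵥ (u *ᵥ (u *ᵥ pvec x)) = 0 := by
    rw [huux]
    refine hz _ ?_
    show (A r).val *ᵥ ((A n1).val *ᵥ x n2) = e1
    rw [show x n2 = (A n1)⁻¹.val *ᵥ y1 by simp [x, h12], hcan, hcan]
  have q3 : pvec φ ⬝ᵥ (u *ᵥ (u *ᵥ (u *ᵥ pvec x))) = 0 := by
    rw [huuux]
    refine hz _ ?_
    show (A r).val *ᵥ ((A n1).val *ᵥ ((A n2).val *ᵥ x n3)) = e1
    rw [show x n3 = (A n2)⁻¹.val *ᵥ ((A n1)⁻¹.val *ᵥ y1) by simp [x, h13, h23, y2], hcan, hcan, hcan]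
  have h' := congrArg (fun T => pvec φ ⬝ᵥ (T *ᵥ pvec x)) h
  simp only [← Matrix.mulVec_mulVec, Matrix.sub_mulVec, Matrix.one_mulVec, Matrix.mulVec_sub, dotProduct_sub,
    q1, q2, q3, hφ, Matrix.zero_mulVec, dotProduct_zero] at h'
  simp at h'

/-- A long orbit of the unit line does not permute slots. -/
theorem perm_of_line [Fintype F] (hk : 2 ≤ k) (hq : 9 ≤ Fintype.card F) {A : Fin t → GL (Fin k) F}
    {σ : Equiv.Perm (Fin t)} {U : F → GL (Fin t → Fin k) F} (hU : ∀ s s', U s * U s' = U (s + s'))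
    (hstd : ∀ s, U s ∈ tensorWreathStandard k t F) (h1 : U 1 = pmatGL A * permGL σ)
    {X : Matrix (Fin t → Fin k) (Fin t → Fin k) F}
    (hX : ∀ s, (U s).val = 1 + s • X + (2⁻¹ * s ^ 2 : F) • (X * X)) : σ = 1 := by
  classical
  refine Equiv.ext fun r => ?_
  by_contra hr
  let E : Matrix (Fin k) (Fin k) F := Matrix.single ⟨0, by omega⟩ ⟨1, by omega⟩ 1
  let a : Fin t → Fin k := fun _ => ⟨0, by omega⟩
  let b : Fin t → Fin k := Function.update a r ⟨1, by omega⟩
  have hab : ∀ m Y, m ≠ r → slot (F := F) m Y a b = 0 := fun m Y hm => by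
    rw [slot_apply, if_neg fun h => ?_]
    have := h r (Ne.symm hm)
    simp [a, b, Fin.ext_iff] at this
  have hE : slot r E a b = 1 := by
    rw [slot_apply, if_pos fun l hl => (Function.update_of_ne hl _ _).symm]
    simp [a, b, E]
  have hU0 : U 0 = 1 := by simpa using hU 0 0
  have hinv : ∀ s, (U s)⁻¹ = U (-s) := fun s => inv_eq_of_mul_eq_one_right (by rw [hU, add_neg_cancel, hU0])
  have hconj : ∀ s, ∃ m Y, (U s).val * slot r E * (U s)⁻¹.val = slot m Y := fun s => by
    obtain ⟨τ, B, hB⟩ := mem_std_iff.1 (hstd s)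
    exact ⟨_, _, by rw [hB, conj_std_slot]⟩
  set Z : Finset F := Finset.univ.filter fun s => ((U s).val * slot r E * (U s)⁻¹.val) a b = 0
  have hcover : ∀ s, s ∈ Z ∨ s + 1 ∈ Z := by
    intro s
    by_contra hcon
    simp only [Z, Finset.mem_filter, Finset.mem_univ, true_and, not_or] at hcon
    obtain ⟨m, Y, hm⟩ := hconj s
    rw [hm] at hcon
    have hmr : m = r := by
      by_contra hne
      exact hcon.1 (hab m Y hne)
    subst hmr
    refine hcon.2 ?_
    rw [add_comm, ← hU, _root_.mul_inv_rev, Units.val_mul, Units.val_mul, show (U 1).val * (U s).val * slot m E *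
      ((U s)⁻¹.val * (U 1)⁻¹.val) = (U 1).val * ((U s).val * slot m E * (U s)⁻¹.val) * (U 1)⁻¹.val by
        simp only [mul_assoc], hm, h1, conj_std_slot]
    exact hab _ _ hr
  have hcard : 5 ≤ Z.card := by
    have hsub : (Finset.univ : Finset F) ⊆ Z ∪ Z.image (fun s => s - 1) := fun s _ => by
      rcases hcover s with h | h
      · exact Finset.mem_union_left _ h
      · exact Finset.mem_union_right _ (Finset.mem_image.2 ⟨s + 1, h, by ring⟩)
    have := ((Finset.card_le_card hsub).trans (Finset.card_union_le _ _)).trans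
      (Nat.add_le_add_left (Finset.card_image_le (s := Z) (f := fun s : F => s - 1)) _)
    rw [Finset.card_univ] at this
    omega
  have hpoly : ∀ s : F, (U s).val * slot r E * (U s)⁻¹.val =
      slot r E + s • (X * slot r E - slot r E * X) +
      s ^ 2 • ((2⁻¹ : F) • (X * X * slot r E) - X * slot r E * X + (2⁻¹ : F) • (slot r E * (X * X))) +
      s ^ 3 • ((2⁻¹ : F) • (X * slot r E * (X * X)) - (2⁻¹ : F) • (X * X * slot r E * X)) +
      s ^ 4 • ((2⁻¹ * 2⁻¹ : F) • (X * X * slot r E * (X * X))) := fun s => by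
    rw [hinv, hX, hX]
    simp only [add_mul, mul_add, smul_mul_assoc, mul_smul_comm, one_mul, mul_one, mul_assoc, smul_smul]
    match_scalars <;> ring
  have := (quartic_zero hcard (c0 := slot r E a b) fun s hs => by
    have h0 := (Finset.mem_filter.1 hs).2
    rw [hpoly] at h0
    simp only [Matrix.add_apply, Matrix.smul_apply (α := F), smul_eq_mul] at h0
    exact h0).1
  rw [hE] at this
  exact one_ne_zero this

/-- Low rank excludes permutations of order three. -/
theorem perm_of_rank (hk : 4 ≤ k) {A : Fin t → GL (Fin k) F} {σ : Equiv.Perm (Fin t)} (hσ3 : σ ^ 3 = 1)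
    (h3 : (pmatGL A * permGL σ) ^ 3 = 1)
    (hr : ((1 : Matrix (Fin t → Fin k) (Fin t → Fin k) F) + (pmatGL A * permGL σ).val +
      (pmatGL A * permGL σ).val * (pmatGL A * permGL σ).val).rank ≤
      k ^ (t - 1)) : σ = 1 := by
  classical
  by_contra hne
  obtain ⟨r, hr1⟩ : ∃ r, σ r ≠ r := by
    by_contra hcon
    push Not at hcon
    exact hne (Equiv.ext hcon)
  set s1 := σ r with hs1
  set s2 := σ s1 with hs2
  have hs3 : σ s2 = r := by
    have := congrArg (fun π : Equiv.Perm (Fin t) => π r) hσ3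
    simpa [pow_succ, hs1, hs2] using this
  have h1 : s1 ≠ r := hr1
  have h2 : s2 ≠ s1 := fun e => h1 (σ.injective e)
  have h20 : s2 ≠ r := fun e => h1 (by rw [e] at hs3; exact hs3)
  have hi1 : σ⁻¹ s1 = r := by rw [hs1]; exact σ.symm_apply_apply r
  have hi2 : σ⁻¹ s2 = s1 := by rw [hs2]; exact σ.symm_apply_apply s1
  have hi0 : σ⁻¹ r = s2 := by rw [← hs3]; exact σ.symm_apply_apply s2
  set u := (pmatGL A * permGL σ).val with hu
  let e : Fin k → Fin k → F := fun j => Pi.single j 1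
  let B : Fin t → GL (Fin k) F := fun l => if l = s1 then A s1 else if l = s2 then A s2 * A s1 else 1
  let C : GL (Fin k) F := A r * (A s2 * A s1)
  -- the scalar around the orbit
  obtain ⟨c, hC⟩ : ∃ c : F, C.val = c • 1 := by
    refine eq_smul_one_of_eigen (by omega) fun v => ?_
    by_contra hcon
    push Not at hcon
    have hv : v ≠ 0 := fun h0 => hcon 0 (by rw [h0, Matrix.mulVec_zero, smul_zero])
    obtain ⟨φ0, hφ0, hφ1⟩ := exists_sep hcon
    have he0 : (Pi.single (⟨0, by omega⟩ : Fin k) (1 : F) : Fin k → F) ≠ 0 := by simp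
    let x : Fin t → Fin k → F := Function.update (fun _ => Pi.single ⟨0, by omega⟩ 1) r v
    have hx : ∀ l, x l ≠ 0 := fun l => by
      rcases eq_or_ne l r with rfl | hl
      · simpa [x] using hv
      · simp only [x, Function.update_of_ne hl]; exact he0
    have h3' := congrArg (fun g : GL (Fin t → Fin k) F => g.val *ᵥ pvec x) h3
    have e3 : ∀ (g : GL (Fin t → Fin k) F) (y : (Fin t → Fin k) → F),
        (g ^ 3).val *ᵥ y = g.val *ᵥ (g.val *ᵥ (g.val *ᵥ y)) := fun g y => by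
      simp only [pow_three, Units.val_mul, Matrix.mulVec_mulVec, mul_assoc]
    rw [e3, pmatGL_perm_mulVec, pmatGL_perm_mulVec, pmatGL_perm_mulVec, Units.val_one, Matrix.one_mulVec] at h3'
    choose d hd using fun l => exists_dual (v := (A l).val *ᵥ ((A (σ⁻¹ l)).val *ᵥ
        ((A (σ⁻¹ (σ⁻¹ l))).val *ᵥ x (σ⁻¹ (σ⁻¹ (σ⁻¹ l))))))
      (mulVec_ne_zero _ (mulVec_ne_zero _ (mulVec_ne_zero _ (hx _))))
    have hC' : (A r).val *ᵥ ((A (σ⁻¹ r)).val *ᵥ ((A (σ⁻¹ (σ⁻¹ r))).val *ᵥ x (σ⁻¹ (σ⁻¹ (σ⁻¹ r))))) =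
        C.val *ᵥ v := by
      rw [hi0, hi2, hi1]
      simp [C, x, Matrix.mulVec_mulVec]
    have := congrArg (pvec (Function.update d r φ0) ⬝ᵥ ·) h3'
    rw [pvec_dot, pvec_dot, Finset.prod_eq_one, Finset.prod_eq_zero (Finset.mem_univ r)] at this
    · exact one_ne_zero this
    · simp [x, hφ0]
    · intro l _
      rcases eq_or_ne l r with rfl | hl
      · rw [Function.update_self, hC', hφ1]
      · rw [Function.update_of_ne hl, hd]
  let xv : (Fin t → Fin k) → (Fin t → Fin k) → F := fun a => pvec fun l => (B l).val *ᵥ e (a l)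
  let φv : (Fin t → Fin k) → (Fin t → Fin k) → F := fun a => pvec fun l => e (a l) ᵥ* (B l)⁻¹.val
  have hdot : ∀ (m : GL (Fin k) F) (j j' : Fin k),
      (e j ᵥ* m⁻¹.val) ⬝ᵥ (m.val *ᵥ e j') = if j = j' then 1 else 0 := fun m j j' => by
    rw [← Matrix.dotProduct_mulVec, Matrix.mulVec_mulVec, Units.inv_mul, Matrix.one_mulVec]
    simp [e, Pi.single_apply, eq_comm]
  let O := Finset.univ.filter fun a : Fin t → Fin k => a r < a s1 ∧ a r ≤ a s2
  have hB1 : B s1 = A s1 := by simp [B]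
  have hB2 : B s2 = A s2 * A s1 := by simp [B, h2]
  have hB0 : B r = 1 := by simp [B, h1.symm, h20.symm]
  have hu1 : ∀ a : Fin t → Fin k, ∀ b ∈ O, a ∈ O → φv b ⬝ᵥ (u *ᵥ xv a) = 0 := by
    intro a b hb ha
    rw [hu, pmatGL_perm_mulVec, pvec_dot]
    by_contra hne0
    have hp := Finset.prod_ne_zero_iff.1 hne0
    have e1 : b s1 = a r := by
      by_contra hh
      refine hp s1 (Finset.mem_univ _) ?_
      rw [hi1, hB0, hB1, Units.val_one, Matrix.one_mulVec, hdot, if_neg hh]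
    have e2 : b s2 = a s1 := by
      by_contra hh
      refine hp s2 (Finset.mem_univ _) ?_
      rw [hi2, hB2, hB1, Matrix.mulVec_mulVec, ← Units.val_mul, hdot, if_neg hh]
    have e0 : b r = a s2 := by
      by_contra hh
      refine hp r (Finset.mem_univ _) ?_
      rw [hi0, hB2, hB0, inv_one, Units.val_one, Matrix.vecMul_one, Matrix.mulVec_mulVec, ← Units.val_mul,
        show A r * (A s2 * A s1) = C from rfl, hC, Matrix.smul_mulVec, Matrix.one_mulVec, dotProduct_smul]
      simp [e, hh, eq_comm, Pi.single_apply]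
    obtain ⟨-, hb1, hb2⟩ := Finset.mem_filter.1 hb
    obtain ⟨-, ha1, ha2⟩ := Finset.mem_filter.1 ha
    rw [e0, e1] at hb1
    omega
  have hu2 : ∀ a : Fin t → Fin k, ∀ b ∈ O, a ∈ O → φv b ⬝ᵥ (u *ᵥ (u *ᵥ xv a)) = 0 := by
    intro a b hb ha
    rw [hu, pmatGL_perm_mulVec, pmatGL_perm_mulVec, pvec_dot]
    by_contra hne0
    have hp := Finset.prod_ne_zero_iff.1 hne0
    have e0 : b r = a s1 := by
      by_contra hh
      refine hp r (Finset.mem_univ _) ?_
      rw [hi0, hi2, hB1, hB0, inv_one, Units.val_one, Matrix.vecMul_one, Matrix.mulVec_mulVec,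
        Matrix.mulVec_mulVec, ← Units.val_mul, ← Units.val_mul, mul_assoc (A r),
        show A r * (A s2 * A s1) = C from rfl, hC, Matrix.smul_mulVec, Matrix.one_mulVec, dotProduct_smul]
      simp [e, hh, eq_comm, Pi.single_apply]
    have e2 : b s2 = a r := by
      by_contra hh
      refine hp s2 (Finset.mem_univ _) ?_
      rw [hi2, hi1, hB2, hB0, Units.val_one, Matrix.one_mulVec, Matrix.mulVec_mulVec, ← Units.val_mul, hdot,
        if_neg hh]
    obtain ⟨-, hb1, hb2⟩ := Finset.mem_filter.1 hb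
    obtain ⟨-, ha1, ha2⟩ := Finset.mem_filter.1 ha
    rw [e0, e2] at hb2
    omega
  have hdiag : ∀ a b : Fin t → Fin k, φv b ⬝ᵥ xv a = if b = a then 1 else 0 := by
    intro a b
    rw [pvec_dot]
    by_cases hba : b = a
    · subst hba
      rw [if_pos rfl]
      exact Finset.prod_eq_one fun l _ => by rw [hdot, if_pos rfl]
    · rw [if_neg hba]
      obtain ⟨l, hl⟩ := Function.ne_iff.1 hba
      exact Finset.prod_eq_zero (Finset.mem_univ l) (by rw [hdot, if_neg hl])
  have hO : O.card ≤ k ^ (t - 1) := by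
    refine le_trans ?_ hr
    have := card_le_rank (1 + u + u * u) (fun a : {a // a ∈ O} => xv a.1) (fun a => φv a.1) fun a b => by
      rw [Matrix.add_mulVec, Matrix.add_mulVec, Matrix.one_mulVec, ← Matrix.mulVec_mulVec, dotProduct_add,
        dotProduct_add, hdiag, hu1 _ _ b.2 a.2, hu2 _ _ b.2 a.2, add_zero, add_zero]
      simp only [Subtype.ext_iff]
    rw [Fintype.card_coe] at this
    exact this
  -- counting
  let rot : (Fin t → Fin k) → (Fin t → Fin k) := fun a => Function.update (Function.update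
    (Function.update a r (a s1)) s1 (a s2)) s2 (a r)
  have rot0 : ∀ a, rot a r = a s1 := fun a => by simp [rot, h20.symm, h1.symm]
  have rot1 : ∀ a, rot a s1 = a s2 := fun a => by simp [rot, h2.symm]
  have rot2 : ∀ a, rot a s2 = a r := fun a => by simp [rot]
  have rotr : ∀ a l, l ≠ r → l ≠ s1 → l ≠ s2 → rot a l = a l := fun a l e0 e1 e2 => by simp [rot, e0, e1, e2]
  have rot3 : ∀ a, rot (rot (rot a)) = a := fun a => funext fun l => by
    rcases eq_or_ne l r with rfl | e0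
    · rw [rot0, rot1, rot2]
    rcases eq_or_ne l s1 with rfl | e1
    · rw [rot1, rot2, rot0]
    rcases eq_or_ne l s2 with rfl | e2
    · rw [rot2, rot0, rot1]
    rw [rotr _ l e0 e1 e2, rotr _ l e0 e1 e2, rotr _ l e0 e1 e2]
  let D := Finset.univ.filter fun a : Fin t → Fin k => a r = a s1 ∧ a r = a s2
  have hD : D.card ≤ k ^ (t - 2) := by
    set T := ((Finset.univ : Finset (Fin t)).erase s1).erase s2
    have hinj : Set.InjOn (fun a : Fin t → Fin k => fun l : {l // l ∈ T} => a l.1) D := by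
      intro a ha b hb hab
      rw [Finset.mem_coe, Finset.mem_filter] at ha hb
      have hr' : a r = b r := congrFun hab ⟨r, by simp [T, h1.symm, h20.symm]⟩
      funext l
      rcases eq_or_ne l s1 with rfl | e1
      · rw [← ha.2.1, ← hb.2.1, hr']
      rcases eq_or_ne l s2 with rfl | e2
      · rw [← ha.2.2, ← hb.2.2, hr']
      exact congrFun hab ⟨l, by simp [T, e1, e2]⟩
    have := Finset.card_le_card_of_injOn _ (fun a _ => Finset.mem_univ _) hinj
    rw [Finset.card_univ, Fintype.card_fun, Fintype.card_fin, Fintype.card_coe] at this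
    rwa [show T.card = t - 2 by simp [T, h2]; omega] at this
  have hcov : (Finset.univ : Finset (Fin t → Fin k)) ⊆ O ∪ O.image rot ∪ O.image (rot ∘ rot) ∪ D := by
    intro a _
    simp only [Finset.mem_union, Finset.mem_image, Function.comp_apply, D, O, Finset.mem_filter, Finset.mem_univ,
      true_and]
    by_cases hd : a r = a s1 ∧ a r = a s2
    · exact Or.inr hd
    refine Or.inl ?_
    by_cases c0 : a r < a s1 ∧ a r ≤ a s2
    · exact Or.inl (Or.inl c0)
    by_cases c1 : a s1 < a s2 ∧ a s1 ≤ a r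
    · exact Or.inr ⟨rot a, ⟨by rw [rot0, rot1]; exact c1.1, by rw [rot0, rot2]; exact c1.2⟩, rot3 a⟩
    have c2 : a s2 < a r ∧ a s2 ≤ a s1 := by
      simp only [not_and, not_le, not_lt, Fin.lt_def, Fin.le_def, Fin.ext_iff] at hd c0 c1 ⊢
      omega
    exact Or.inl (Or.inr ⟨rot (rot a), ⟨by rw [rot0, rot1, rot1, rot2]; exact c2.1,
      by rw [rot0, rot1, rot2, rot0]; exact c2.2⟩, rot3 a⟩)
  have hc := Finset.card_le_card hcov
  rw [Finset.card_univ, Fintype.card_fun, Fintype.card_fin, Fintype.card_fin] at hc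
  have u1 := Finset.card_union_le (O ∪ O.image rot ∪ O.image (rot ∘ rot)) D
  have u2 := Finset.card_union_le (O ∪ O.image rot) (O.image (rot ∘ rot))
  have u3 := Finset.card_union_le O (O.image rot)
  have i1 : (O.image rot).card ≤ O.card := Finset.card_image_le
  have i2 : (O.image (rot ∘ rot)).card ≤ O.card := Finset.card_image_le
  have ht2 : 2 ≤ t := by
    by_contra ht
    exact h1 (by ext; omega)
  obtain ⟨w, rfl⟩ : ∃ w, t = w + 2 := ⟨t - 2, by omega⟩
  rw [show w + 2 - 1 = w + 1 by omega] at hO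
  rw [show w + 2 - 2 = w by omega] at hD
  have hpow : k ^ (w + 2) = k * k * k ^ w ∧ k ^ (w + 1) = k * k ^ w := by constructor <;> ring
  have hpos : 0 < k ^ w := Nat.pos_of_ne_zero (pow_ne_zero _ (by omega))
  rw [hpow.1] at hc
  rw [hpow.2] at hO
  have : k * k * k ^ w ≤ (3 * k + 1) * k ^ w := by
    rw [add_mul, one_mul, mul_assoc 3]; omega
  have := Nat.le_of_mul_le_mul_right this hpos
  nlinarith

end CfsgLib.ClassicalMax.OWr
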