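/-
A conjugate of a Siegel element of a slot in the wreath group is a Siegel element of a slot.
-/
import Cfsg.Agent.Lib.ClassicalMax.OrthWreath.FixPerm
set_option autoImplicit false
set_option linter.unusedSectionVars false
set_option linter.unusedVariables false
set_option linter.unusedSimpArgs false

namespace CfsgLib.ClassicalMax.OWr

open Matrix Cfsg.Geo
open CfsgLib.ClassicalMax.TWreath

variable {F : Type*} [Field F] {k t : ℕ}

section Lin

variable {n : Matrix (Fin k) (Fin k) F}

lemma fix_zero (hn : IsNilpotent n) {w : Fin k → F} {c : F} (hc : c ≠ 0) (h : n *ᵥ w = c • w) : w = 0 := by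
  obtain ⟨m, hm⟩ := hn
  have e : ∀ j : ℕ, n ^ j *ᵥ w = c ^ j • w := by
    intro j
    induction j with
    | zero => simp
    | succ j ih => rw [pow_succ, ← Matrix.mulVec_mulVec, h, Matrix.mulVec_smul, ih, smul_smul, pow_succ', ]
  have := e m
  rw [hm, Matrix.zero_mulVec] at this
  exact (smul_eq_zero.1 this.symm).resolve_left (pow_ne_zero _ hc)

lemma indep_nilp (hn : IsNilpotent n) {v : Fin k → F} (hv : n *ᵥ (n *ᵥ v) ≠ 0) :
    LinearIndependent F ![v, n *ᵥ v, n *ᵥ (n *ᵥ v)] := by
  rw [Fintype.linearIndependent_iff]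
  intro g hg
  simp only [Fin.sum_univ_three, Matrix.cons_val_zero, Matrix.cons_val_one] at hg
  have h0 : g 0 = 0 := by
    by_contra h0
    have e : ((-(g 0)⁻¹) • ((g 1) • n + (g 2) • (n * n))) *ᵥ v = (1 : F) • v := by
      have e1 : g 1 • (n *ᵥ v) + g 2 • (n *ᵥ (n *ᵥ v)) = -(g 0 • v) := by
        rw [eq_neg_iff_add_eq_zero, ← hg]
        simp only [show (![v, n *ᵥ v, n *ᵥ (n *ᵥ v)] : Fin 3 → Fin k → F) 2 = n *ᵥ (n *ᵥ v) from rfl]
        abel
      rw [Matrix.smul_mulVec, Matrix.add_mulVec, Matrix.smul_mulVec, Matrix.smul_mulVec, ← Matrix.mulVec_mulVec,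
        e1, neg_smul, smul_neg, neg_neg, smul_smul, inv_mul_cancel₀ h0]
    refine hv ?_
    have hnil : IsNilpotent ((-(g 0)⁻¹) • ((g 1) • n + (g 2) • (n * n))) := by
      refine IsNilpotent.smul ?_ _
      have hc : Commute n ((g 2) • n) := (Commute.refl n).smul_right _
      rw [show g 1 • n + g 2 • (n * n) = n * (g 1 • 1 + g 2 • n) by simp [mul_add]]
      exact Commute.isNilpotent_mul_right (((Commute.one_right n).smul_right _).add_right hc) hn
    have hv00 : v = 0 := fix_zero hnil one_ne_zero e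
    rw [hv00, Matrix.mulVec_zero, Matrix.mulVec_zero]
  have h1 : g 1 = 0 := by
    by_contra h1
    rw [h0, zero_smul, zero_add] at hg
    refine hv ?_
    suffices hnv : n *ᵥ v = 0 by rw [hnv, Matrix.mulVec_zero]
    refine fix_zero hn (c := -(g 1) * (g 2)⁻¹) ?_ ?_
    · refine mul_ne_zero (neg_ne_zero.2 h1) (inv_ne_zero fun h2 => ?_)
      simp only [show (![v, n *ᵥ v, n *ᵥ (n *ᵥ v)] : Fin 3 → Fin k → F) 2 = n *ᵥ (n *ᵥ v) from rfl, h2, zero_smul,
        add_zero, smul_eq_zero] at hg
      rcases hg with hg | hg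
      · exact h1 hg
      · exact hv (by rw [hg, Matrix.mulVec_zero])
    · simp only [show (![v, n *ᵥ v, n *ᵥ (n *ᵥ v)] : Fin 3 → Fin k → F) 2 = n *ᵥ (n *ᵥ v) from rfl] at hg
      rcases eq_or_ne (g 2) 0 with h2 | h2
      · rw [h2, zero_smul, add_zero, smul_eq_zero] at hg
        exact absurd (hg.resolve_left h1) fun hg => hv (by rw [hg, Matrix.mulVec_zero])
      · rw [← eq_neg_iff_add_eq_zero] at hg
        rw [mul_comm, mul_smul, neg_smul, hg, neg_neg, smul_smul, inv_mul_cancel₀ h2, one_smul]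
  intro i
  fin_cases i
  · exact h0
  · exact h1
  · simp only [h0, h1, zero_smul, zero_add, show (![v, n *ᵥ v, n *ᵥ (n *ᵥ v)] : Fin 3 → Fin k → F) 2 =
      n *ᵥ (n *ᵥ v) from rfl, smul_eq_zero] at hg
    exact hg.resolve_right hv

/-- Cube zero in dimension three. -/
lemma cube_zero_three (hk : k = 3) (hn : IsNilpotent n) : n * n * n = 0 := by
  by_contra hne
  obtain ⟨v, hv⟩ : ∃ v, n *ᵥ (n *ᵥ (n *ᵥ v)) ≠ 0 := by
    by_contra hcon
    push Not at hcon
    exact hne (Matrix.ext_of_mulVec_single fun p => by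
      rw [← Matrix.mulVec_mulVec, ← Matrix.mulVec_mulVec, hcon, Matrix.zero_mulVec])
  have hli := indep_nilp hn hv
  have hspan := hli.span_eq_top_of_card_eq_finrank' (by simp [hk])
  obtain ⟨a, b, c, habc⟩ := Submodule.mem_span_triple.1 (show v ∈ Submodule.span F ({n *ᵥ v, n *ᵥ (n *ᵥ v),
      n *ᵥ (n *ᵥ (n *ᵥ v))} : Set (Fin k → F)) by
    have : v ∈ Submodule.span F (Set.range ![n *ᵥ v, n *ᵥ (n *ᵥ v), n *ᵥ (n *ᵥ (n *ᵥ v))]) := by
      rw [hspan]; exact Submodule.mem_top
    refine Submodule.span_mono ?_ this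
    rintro _ ⟨j, rfl⟩
    fin_cases j <;> simp)
  have hnil : IsNilpotent (n * (a • 1 + b • n + c • (n * n))) :=
    Commute.isNilpotent_mul_right ((((Commute.one_right n).smul_right _).add_right
      ((Commute.refl n).smul_right _)).add_right (((Commute.refl n).mul_right (Commute.refl n)).smul_right _)) hn
  refine hv ?_
  rw [fix_zero hnil one_ne_zero (w := v) ?_, Matrix.mulVec_zero, Matrix.mulVec_zero, Matrix.mulVec_zero]
  rw [one_smul]
  conv_rhs => rw [← habc]
  simp only [← Matrix.mulVec_mulVec, Matrix.add_mulVec, Matrix.smul_mulVec, Matrix.one_mulVec, Matrix.mulVec_add,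
    Matrix.mulVec_smul]

/-- A nonzero matrix in a slot has no commuting annihilator. -/
lemma slot_cancel {i : Fin t} {π : Matrix (Fin k) (Fin k) F} (hπ : π ≠ 0)
    {c : Matrix (Fin t → Fin k) (Fin t → Fin k) F} (hc : ∀ Y, slot i Y * c = c * slot i Y)
    (h : slot i π * c = 0) : c = 0 := by
  classical
  obtain ⟨a, b, hab⟩ : ∃ a b, π a b ≠ 0 := by
    by_contra hcon
    push Not at hcon
    exact hπ (Matrix.ext hcon)
  have e : ∀ p, slot i (Matrix.single p p (1 : F)) * c = 0 := fun p => by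
    have e1 : Matrix.single p p (1 : F) = (π a b)⁻¹ • (Matrix.single p a 1 * π * Matrix.single b p 1) := by
      rw [Matrix.single_mul_mul_single, Matrix.smul_single, smul_eq_mul]
      simp [hab]
    rw [e1, map_smul, map_mul, map_mul, smul_mul_assoc, mul_assoc, hc, ← mul_assoc, mul_assoc (slot i _) _ c, h,
      mul_zero, zero_mul, smul_zero]
  have hs : (∑ p : Fin k, Matrix.single p p (1 : F)) = 1 := by
    ext x y
    rw [Matrix.sum_apply, Matrix.one_apply]
    split_ifs with hxy
    · subst hxy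
      rw [Finset.sum_eq_single x (fun q _ hq => by simp [Matrix.single, hq]) (by simp)]
      simp
    · exact Finset.sum_eq_zero fun q _ => by
        simp only [Matrix.single, Matrix.of_apply]
        rw [if_neg]
        rintro ⟨rfl, rfl⟩
        exact hxy rfl
  rw [← one_mul c, ← map_one (slot (F := F) i), ← hs, map_sum, Finset.sum_mul]
  exact Finset.sum_eq_zero fun p _ => e p

/-- Independent images bound the rank from below. -/
lemma le_rank_of_images {c : ℕ} (hck : c ≤ k) {i : Fin t} {b : Matrix (Fin t → Fin k) (Fin t → Fin k) F}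
    (hb : IsNilpotent b) (hc : ∀ Y, slot i Y * b = b * slot i Y) {y : Fin c → Fin k → F}
    (hy : LinearIndependent F fun j => n *ᵥ y j) :
    ∃ D φ : Fin c → Fin k → F, (∀ a a', φ a ⬝ᵥ y a' = if a = a' then 1 else 0) ∧
      c * k ^ (t - 1) ≤ Module.finrank F ((LinearMap.range (slot (t := t) i (sumR y φ)).mulVecLin).map
        (slot i (1 + n) * (1 + b) - 1).mulVecLin) := by
  classical
  obtain ⟨φ, hφ⟩ := exists_duals (LinearIndependent.of_comp n.mulVecLin (v := y) hy)
  obtain ⟨ψ, hψ⟩ := exists_duals hy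
  refine ⟨ψ, φ, hφ, ?_⟩
  rw [← rank_sumR i hck hφ]
  have := le_finrank_map (n := n) (D := sumR y ψ) (π := sumR y φ) (j := 1) hb hc ?_ ?_
  · rwa [pow_one] at this
  · rw [pow_one, sumR, sumR, mul_assoc, Finset.mul_sum (a := n)]
    simp only [Matrix.mul_vecMulVec]
    exact sum_mul_sum _ _ _ _ hψ
  · exact sum_mul_sum _ _ _ _ hφ

lemma finrank_map_le_rank (T : Matrix (Fin t → Fin k) (Fin t → Fin k) F) (U : Submodule F ((Fin t → Fin k) → F)) :
    Module.finrank F (U.map T.mulVecLin) ≤ T.rank :=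
  Submodule.finrank_mono LinearMap.map_le_range

end Lin

namespace Sym

variable {S : Sym F k}

lemma noPlane_three [Fintype F] (hk : k = 3) : S.NoPlane := by
  intro u r hu hr hur hu0
  obtain ⟨p, rfl⟩ := exists_pr_of hu hu0
  obtain ⟨a, ha, hQa⟩ := p.exists_aniso
  set y := p.pr r with hy
  have hyW := p.pr_mem r
  have haa : S.bb a a ≠ 0 := by rw [S.bb_self]; exact mul_ne_zero S.two hQa
  have hli : LinearIndependent F ![p.e, p.f, a] := by
    rw [Fintype.linearIndependent_iff]
    intro g hg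
    simp only [Fin.sum_univ_three, Matrix.cons_val_zero, Matrix.cons_val_one] at hg
    have h1 := congrArg (S.bb p.e) hg
    have h2 := congrArg (S.bb p.f) hg
    have h3 := congrArg (S.bb a) hg
    simp [S.bb_add_right, S.bb_smul_right, p.he, p.hf, p.h1, p.h1', ha.1, ha.2, S.bb_comm a p.e, S.bb_comm a p.f,
      S.bb_zero_right, haa] at h1 h2 h3
    intro j
    fin_cases j <;> assumption
  set z := y - (S.bb a y / S.bb a a) • a with hz
  have hz0 : z = 0 := eq_zero_of_orth (S := S) hli hk.symm fun j => by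
    fin_cases j
    · simp [z, S.bb_sub_right, S.bb_smul_right, hyW.1, ha.1, hy]
    · simp [z, S.bb_sub_right, S.bb_smul_right, hyW.2, ha.2, hy]
    · simp [z, S.bb_sub_right, S.bb_smul_right, div_mul_cancel₀ _ haa]
  rw [S.bb_comm p.e r] at hur
  have hr' : r = y + S.bb r p.f • p.e := by
    conv_lhs => rw [p.eq_pr_add r, hur, zero_smul, add_zero]
  refine ⟨S.bb r p.f, ?_⟩
  rw [hr', S.bb_add_left, S.bb_add_right, S.bb_add_right, S.bb_smul_left, S.bb_smul_left, S.bb_smul_right,
    S.bb_smul_right, p.he, S.bb_comm y p.e, hyW.1] at hr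
  simp only [mul_zero, add_zero] at hr
  rw [sub_eq_zero.1 hz0, S.bb_smul_left, S.bb_smul_right, mul_eq_zero, mul_eq_zero] at hr
  have hc : S.bb a y / S.bb a a = 0 := by
    rcases hr with h | h | h
    exacts [h, h, absurd h haa]
  conv_rhs => rw [hr', sub_eq_zero.1 hz0, hc, zero_smul, zero_add]

/-- A nonzero skew map has two independent images. -/
lemma exists_two_images {n : Matrix (Fin k) (Fin k) F} (hn : n ∈ S.so) (hn0 : n ≠ 0) :
    ∃ x1 x2, LinearIndependent F ![n *ᵥ x1, n *ᵥ x2] := by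
  obtain ⟨x1, hx1⟩ : ∃ x, n *ᵥ x ≠ 0 := by
    by_contra hcon
    push Not at hcon
    exact hn0 (Matrix.ext_of_mulVec_single fun p => by rw [hcon, Matrix.zero_mulVec])
  by_contra hcon
  push Not at hcon
  have hl : ∀ x, ∃ c : F, c • (n *ᵥ x1) = n *ᵥ x := fun x => by
    by_contra h
    push Not at h
    exact hcon x1 x ((LinearIndependent.pair_iff' hx1).2 h)
  obtain ⟨v, hv⟩ := S.exists_bb_one hx1
  obtain ⟨c, hc⟩ := hl v
  have h0 := S.bb_skew_self hn v
  rw [← hc, S.bb_smul_left, S.bb_comm, hv, mul_one] at h0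
  rw [h0, zero_smul] at hc
  obtain ⟨w, hw⟩ := S.exists_bb_one (u := n *ᵥ x1) hx1
  -- every vector pairs to zero with the image or is killed
  have h1 := S.bb_skew_self hn (x1 + v)
  rw [Matrix.mulVec_add, ← hc, add_zero, S.bb_add_right, S.bb_skew_self hn, zero_add, S.bb_comm, hv] at h1
  exact one_ne_zero h1

/-- A skew cube zero map with two-dimensional image is the map of a singular vector. -/
lemma exists_N [Fintype F] {Z : Matrix (Fin k) (Fin k) F} (hZ : Z ∈ S.so) (h3 : Z * Z * Z = 0) (hZZ : Z * Z ≠ 0)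
    (hrange : ∀ v x, Z *ᵥ (Z *ᵥ v) ≠ 0 → ∃ a b : F, a • (Z *ᵥ v) + b • (Z *ᵥ (Z *ᵥ v)) = Z *ᵥ x) :
    ∃ (p : S.Pr) (a : Fin k → F), p.InW a ∧ S.Q a ≠ 0 ∧ Z = S.N p.e a := by
  obtain ⟨v, hv⟩ : ∃ v, Z *ᵥ (Z *ᵥ v) ≠ 0 := by
    by_contra hcon
    push Not at hcon
    exact hZZ (Matrix.ext_of_mulVec_single fun p => by
      rw [← Matrix.mulVec_mulVec, hcon, Matrix.zero_mulVec])
  set e := Z *ᵥ (Z *ᵥ v) with he
  have hZe : Z *ᵥ e = 0 := by
    rw [he, Matrix.mulVec_mulVec, Matrix.mulVec_mulVec, h3, Matrix.zero_mulVec]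
  have hee : S.bb e e = 0 := by
    nth_rw 1 [he]
    rw [S.bb_skew hZ, hZe, S.bb_zero_right, neg_zero]
  have heZv : S.bb e (Z *ᵥ v) = 0 := by rw [he]; exact S.bb_skew_self hZ _
  have hvZv : S.bb v (Z *ᵥ v) = 0 := by rw [S.bb_comm]; exact S.bb_skew_self hZ v
  set δ := S.bb v e with hδ
  have hdec : ∀ x, ∃ a b : F, Z *ᵥ (x - (a • v + b • (Z *ᵥ v))) = 0 := fun x => by
    obtain ⟨a, b, hab⟩ := hrange v x hv
    exact ⟨a, b, by rw [Matrix.mulVec_sub, Matrix.mulVec_add, Matrix.mulVec_smul, Matrix.mulVec_smul, hab, sub_self]⟩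
  have hker : ∀ y, Z *ᵥ y = 0 → S.bb y e = 0 ∧ S.bb y (Z *ᵥ v) = 0 := fun y hy => by
    have h1 : ∀ x, S.bb y (Z *ᵥ x) = 0 := fun x => by
      rw [← neg_eq_zero, ← S.bb_skew hZ, hy, S.bb_zero_left]
    exact ⟨h1 _, h1 _⟩
  have hδ0 : δ ≠ 0 := fun h0 => hv (S.eq_zero_of_bb fun x => by
    obtain ⟨a, b, hab⟩ := hdec x
    have := (hker _ hab).1
    rwa [S.bb_sub_left, S.bb_add_left, S.bb_smul_left, S.bb_smul_left, S.bb_comm (Z *ᵥ v) e, heZv, ← hδ, h0,
      mul_zero, mul_zero, add_zero, sub_zero] at this)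
  have he0 : e ≠ 0 := hv
  obtain ⟨p, hp⟩ := exists_pr_of hee he0
  set a0 := δ⁻¹ • (Z *ᵥ v) with ha0
  have hea : S.bb p.e a0 = 0 := by rw [hp, ha0, S.bb_smul_right, heZv, mul_zero]
  have hZvv : S.bb (Z *ᵥ v) (Z *ᵥ v) = -δ := by rw [S.bb_skew hZ]
  have hZN : Z = S.N p.e a0 := by
    refine Matrix.ext_of_mulVec_single fun j => ?_
    set x : Fin k → F := Pi.single j 1
    obtain ⟨a, b, hab⟩ := hdec x
    set y := x - (a • v + b • (Z *ᵥ v)) with hy
    have hx : x = y + (a • v + b • (Z *ᵥ v)) := by rw [hy, sub_add_cancel]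
    obtain ⟨hy1, hy2⟩ := hker y hab
    rw [hx, Matrix.mulVec_add, hab, zero_add, Matrix.mulVec_add, Matrix.mulVec_smul, Matrix.mulVec_smul, ← he,
      N_mulVec, hp, ha0]
    simp only [S.bb_add_left, S.bb_smul_left, S.bb_smul_right, hy1, hy2, hvZv, S.bb_comm (Z *ᵥ v) e, heZv, hZvv,
      ← hδ]
    match_scalars <;> field_simp <;> ring
  refine ⟨p, p.pr a0, p.pr_mem _, fun h0 => ?_, ?_⟩
  · have hQ : S.bb a0 a0 ≠ 0 := by
      rw [ha0, S.bb_smul_left, S.bb_smul_right, hZvv]
      simp [hδ0]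
    refine hQ ?_
    have hpr : S.bb (p.pr a0) (p.pr a0) = 0 := by rw [S.bb_self, h0, mul_zero]
    have e' := p.eq_pr_add a0
    rw [S.bb_comm a0 p.e, hea, zero_smul, add_zero] at e'
    rw [e']
    simp only [S.bb_add_left, S.bb_add_right, S.bb_smul_left, S.bb_smul_right, hpr, p.he,
      S.bb_comm (p.pr a0) p.e, (p.pr_mem a0).1, mul_zero, add_zero]
  · conv_lhs => rw [hZN, p.eq_pr_add a0, S.bb_comm a0 p.e, hea, zero_smul, add_zero, S.N_add, S.N_smul, S.N_self,
      smul_zero, add_zero]

lemma rank_z_sub_one (i : Fin t) (e w : Fin k → F) :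
    (slot i (S.z e w - 1)).rank ≤ 2 * k ^ (t - 1) := by
  have hc : 2 ≤ k := le_trans (by norm_num) S.three_le
  have he : S.z e w - 1 = sumR ![w, e] ![S.G *ᵥ e, -(S.G *ᵥ w) - S.Q w • (S.G *ᵥ e)] := by
    rw [sumR, Fin.sum_univ_two]
    simp only [Matrix.cons_val_zero, Matrix.cons_val_one, z, N, P, op]
    rw [Matrix.vecMulVec_sub, Matrix.vecMulVec_neg, Matrix.vecMulVec_smul]
    abel
  rw [he]
  exact rank_sumR_le i hc _ _

lemma rank_P (i : Fin t) (e : Fin k → F) : (slot i (S.P e)).rank ≤ k ^ (t - 1) := by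
  have hc : 1 ≤ k := le_trans (by norm_num) S.three_le
  rw [show S.P e = sumR ![e] ![S.G *ᵥ e] by simp [sumR, P, op]]
  simpa using rank_sumR_le i hc ![e] ![S.G *ᵥ e]

end Sym

/-- The factor without the slot. -/
def rest (i : Fin t) (n : Fin t → Matrix (Fin k) (Fin k) F) : Matrix (Fin t → Fin k) (Fin t → Fin k) F :=
  pmat (Function.update (fun l => 1 + n l) i 1) - 1

lemma slot_mul_rest (i : Fin t) (n : Fin t → Matrix (Fin k) (Fin k) F) :
    slot i (1 + n i) * (1 + rest i n) = pmat fun l => 1 + n l := by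
  rw [rest, add_sub_cancel, slot_mul_pmat, Function.update_idem, Function.update_self, mul_one]
  exact congrArg pmat (Function.update_eq_self i (fun l => 1 + n l))

lemma rest_comm (i : Fin t) (n : Fin t → Matrix (Fin k) (Fin k) F) (Y : Matrix (Fin k) (Fin k) F) :
    slot i Y * rest i n = rest i n * slot i Y := by
  rw [rest, mul_sub, sub_mul, mul_one, one_mul, slot_mul_pmat, pmat_mul_slot, Function.update_self, mul_one, one_mul]

lemma pmat_pow (A : Fin t → Matrix (Fin k) (Fin k) F) (m : ℕ) : pmat A ^ m = pmat fun l => A l ^ m := by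
  induction m with
  | zero => simp only [pow_zero]; exact pmat_one.symm
  | succ m ih => rw [pow_succ, ih, pmat_mul]; simp only [← pow_succ]

lemma scalar_of_pmat {A : Fin t → Matrix (Fin k) (Fin k) F} (hk : 0 < k) {c : F} (hc : c ≠ 0)
    (h : pmat A = c • (1 : Matrix (Fin t → Fin k) (Fin t → Fin k) F)) (l : Fin t) : ∃ d : F, A l = d • 1 := by
  classical
  have hne : ∀ m, ∃ p q, A m p q ≠ 0 := fun m => by
    by_contra hcon
    push Not at hcon
    have h0 : pmat A = 0 := Sym.pmat_eq_zero' m (Matrix.ext hcon)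
    rw [h] at h0
    have := congrFun (congrFun h0 (fun _ => ⟨0, hk⟩)) (fun _ => ⟨0, hk⟩)
    simp [hc] at this
  choose p q hpq using hne
  have h1 := congrArg (comp l p q) h
  rw [comp_pmat, map_smul, ← pmat_one, comp_pmat, Pi.one_apply, smul_smul] at h1
  have hP : (∏ m ∈ Finset.univ.erase l, A m (p m) (q m)) ≠ 0 := Finset.prod_ne_zero_iff.2 fun m _ => hpq m
  exact ⟨_, by rw [← inv_smul_smul₀ hP (A l), h1, smul_smul]⟩
where
  Sym.pmat_eq_zero' (m : Fin t) (hm : A m = 0) : pmat A = 0 :=
    Matrix.ext fun a b => Finset.prod_eq_zero (Finset.mem_univ m) (by rw [hm]; rfl)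

variable [Fintype F] (p : ℕ) [Fact p.Prime] [CharP F p]

lemma charP_mat (m : Type*) [Fintype m] [DecidableEq m] [Nonempty m] : CharP (Matrix m m F) p :=
  charP_of_injective_algebraMap (algebraMap F (Matrix m m F)).injective p

lemma rest_nilp (hk : 0 < k) (i : Fin t) {n : Fin t → Matrix (Fin k) (Fin k) F} (hn : ∀ l, n l ^ p = 0) :
    IsNilpotent (rest i n) := by
  haveI : Nonempty (Fin k) := ⟨⟨0, hk⟩⟩
  haveI := charP_mat (F := F) p (Fin k)
  haveI := charP_mat (F := F) p (Fin t → Fin k)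
  refine ⟨p, ?_⟩
  have h1 : (1 + rest i n) ^ p = 1 + rest i n ^ p := by
    rw [add_pow_char_of_commute p (Commute.one_left _), one_pow]
  have h2 : (1 + rest i n) ^ p = 1 := by
    rw [rest, add_sub_cancel, pmat_pow, ← pmat_one]
    congr 1
    funext l
    rcases eq_or_ne l i with rfl | hl
    · simp
    · rw [Function.update_of_ne hl, add_pow_char_of_commute p (Commute.one_left _), one_pow, hn, add_zero]
      rfl
  rw [h2] at h1
  simpa using h1.symm

/-- Isometric products of order `p` are products of unipotent isometries. -/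
lemma exists_unip (S : Sym F k) {g : GL (Fin t → Fin k) F} (hg : g ∈ S.Iso t) {A : Fin t → GL (Fin k) F}
    (hA : g.val = pmat fun l => (A l).val) (hgp : g ^ p = 1) :
    ∃ n : Fin t → Matrix (Fin k) (Fin k) F, (g.val = pmat fun l => 1 + n l) ∧ (∀ l, n l ^ p = 0) ∧
      ∀ l, S.adj (1 + n l) * (1 + n l) = 1 := by
  classical
  have hk : 0 < k := lt_of_lt_of_le (by norm_num) S.three_le
  haveI : Nonempty (Fin k) := ⟨⟨0, hk⟩⟩
  haveI := charP_mat (F := F) p (Fin k)
  have hp0 : p ≠ 0 := (Fact.out : p.Prime).ne_zero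
  have h1 : pmat (fun l => (A l).val ^ p) = (1 : F) • (1 : Matrix (Fin t → Fin k) (Fin t → Fin k) F) := by
    rw [← pmat_pow, ← hA, ← Units.val_pow_eq_pow_val, hgp, Units.val_one, one_smul]
  choose c hc using scalar_of_pmat hk one_ne_zero h1
  have hroot : Function.Surjective (frobenius F p) :=
    (Finite.injective_iff_surjective).1 (frobenius_inj F p)
  choose d hd using fun l => hroot (c l)
  simp only [frobenius_def] at hd
  have hone : ∀ x : F, (x • (1 : Matrix (Fin t → Fin k) (Fin t → Fin k) F)) = 1 → x = 1 := fun x hx => by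
    have := congrFun (congrFun hx (fun _ => ⟨0, hk⟩)) (fun _ => ⟨0, hk⟩)
    simpa using this
  have hprod : ∏ l, c l = 1 := by
    refine hone _ ?_
    rw [← pmat_one, ← pmat_smul]
    simp only [Pi.one_apply, ← hc]
    rw [h1, one_smul, pmat_one]
  have hd1 : ∏ l, d l = 1 := frobenius_inj F p (by
    simp only [frobenius_def, ← Finset.prod_pow, hd, hprod, one_pow])
  have hd0 : ∀ l, d l ≠ 0 := fun l => Finset.prod_ne_zero_iff.1 (by rw [hd1]; exact one_ne_zero) l (Finset.mem_univ l)
  set n := fun l => (d l)⁻¹ • (A l).val - 1 with hn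
  have hn1 : ∀ l, 1 + n l = (d l)⁻¹ • (A l).val := fun l => by rw [hn]; exact add_sub_cancel _ _
  have hnp : ∀ l, n l ^ p = 0 := fun l => by
    have e : (1 + n l) ^ p = 1 := by
      rw [hn1, smul_pow, hc, inv_pow, ← hd, smul_smul, inv_mul_cancel₀ (pow_ne_zero _ (hd0 l)), one_smul]
    rw [add_pow_char_of_commute p (Commute.one_left _), one_pow] at e
    simpa using e
  have hval : g.val = pmat fun l => 1 + n l := by
    simp only [hn1]
    rw [pmat_smul, Finset.prod_inv_distrib, hd1, inv_one, one_smul, hA]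
  refine ⟨n, hval, hnp, fun l => ?_⟩
  have h2 : pmat (fun l => S.adj (1 + n l) * (1 + n l)) = (1 : F) • (1 : Matrix (Fin t → Fin k) (Fin t → Fin k) F) := by
    rw [← pmat_mul, ← S.adjB_pmat, ← hval, one_smul]
    exact hg
  obtain ⟨e, he⟩ := scalar_of_pmat hk one_ne_zero h2 l
  have hu : (1 + n l) ^ p = 1 := by
    rw [add_pow_char_of_commute p (Commute.one_left _), one_pow, hnp, add_zero]
  have hadj : ∀ m : ℕ, S.adj (1 + n l) ^ m = S.adj ((1 + n l) ^ m) := fun m => by
    induction m with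
    | zero => simp [S.adj_one]
    | succ m ih => rw [pow_succ, pow_succ', S.adj_mul, ih]
  have hA1 : IsUnit (1 + n l) := (isUnit_pow_iff hp0).1 (by rw [hu]; exact isUnit_one)
  have hrev : (1 + n l) * S.adj (1 + n l) = e • 1 := by
    refine hA1.mul_right_cancel ?_
    rw [mul_assoc, he, mul_smul_comm, mul_one, smul_mul_assoc, one_mul]
  have hcm : Commute (S.adj (1 + n l)) (1 + n l) := he.trans hrev.symm
  have he1 : e = 1 := by
    refine frobenius_inj F p ?_
    have := congrArg (· ^ p) he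
    simp only [hcm.mul_pow, hadj, hu, S.adj_one, mul_one, smul_pow, one_pow] at this
    simp only [frobenius_def, one_pow]
    have h' := congrFun (congrFun this ⟨0, hk⟩) ⟨0, hk⟩
    simpa using h'.symm
  rw [he, he1, one_smul]

namespace Sym

variable {S : Sym F k} {n : Fin t → Matrix (Fin k) (Fin k) F}

/-- Low rank leaves a single slot. -/
theorem single_slot (hk : 4 ≤ k) (hplane : k = 4 → S.NoPlane) (hn : ∀ l, n l ^ p = 0)
    (hadj : ∀ l, S.adj (1 + n l) * (1 + n l) = 1)
    (hr : (pmat (fun l => 1 + n l) - 1).rank ≤ 2 * k ^ (t - 1)) (i : Fin t) (hi : n i ≠ 0) :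
    pmat (fun l => 1 + n l) - 1 = slot i (n i) := by
  classical
  set m := n i with hm
  set b := rest i n with hb
  have hbn := rest_nilp p (by omega) i hn
  have hbc := rest_comm i n
  have hT : pmat (fun l => 1 + n l) - 1 = slot i (1 + m) * (1 + b) - 1 := by rw [slot_mul_rest]
  set T := slot i (1 + m) * (1 + b) - 1 with hTdef
  rw [hT] at hr ⊢
  have hpos : 0 < k ^ (t - 1) := Nat.pos_of_ne_zero (pow_ne_zero _ (by omega))
  have hmn : IsNilpotent m := ⟨p, hn i⟩
  have no3 : ∀ y : Fin 3 → Fin k → F, ¬ LinearIndependent F fun j => m *ᵥ y j := fun y hy => by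
    obtain ⟨_, _, -, h⟩ := le_rank_of_images (by omega) hbn hbc hy
    have := h.trans ((finrank_map_le_rank _ _).trans hr)
    have : 3 ≤ 2 := Nat.le_of_mul_le_mul_right this hpos
    omega
  have hcube : m * m * m = 0 := by
    by_contra hne
    obtain ⟨v, hv⟩ : ∃ v, m *ᵥ (m *ᵥ (m *ᵥ v)) ≠ 0 := by
      by_contra hcon
      push Not at hcon
      exact hne (Matrix.ext_of_mulVec_single fun j => by
        rw [← Matrix.mulVec_mulVec, ← Matrix.mulVec_mulVec, hcon, Matrix.zero_mulVec])
    refine no3 ![v, m *ᵥ v, m *ᵥ (m *ᵥ v)] ?_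
    convert indep_nilp hmn hv using 1
    funext j
    fin_cases j <;> rfl
  have hcube' : ∀ Y, m * (m * (m * Y)) = 0 := fun Y => by rw [← mul_assoc, ← mul_assoc, hcube, zero_mul]
  -- two vectors with independent images and a small space around them
  obtain ⟨x1, x2, hx, U, hU, hU1, hU2, hU3, hU4⟩ : ∃ (x1 x2 : Fin k → F),
      LinearIndependent F ![m *ᵥ x1, m *ᵥ x2] ∧ ∃ U : Submodule F (Fin k → F), Module.finrank F U < k ∧
        x1 ∈ U ∧ x2 ∈ U ∧ m *ᵥ x1 ∈ U ∧ m *ᵥ x2 ∈ U := by
    by_cases hmm : m * m = 0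
    · have hsk : m ∈ S.so := by
        rw [S.mem_so]
        have h1 := hadj i
        have hinv : (1 + m) * (1 - m) = 1 := by
          rw [add_mul, mul_sub, mul_sub, hmm, one_mul, mul_one, one_mul, sub_zero, sub_add_cancel]
        have : S.adj (1 + m) = 1 - m := by
          calc S.adj (1 + m) = S.adj (1 + m) * ((1 + m) * (1 - m)) := by rw [hinv, mul_one]
            _ = 1 - m := by rw [← mul_assoc, h1, one_mul]
        rw [S.adj_add, S.adj_one, sub_eq_add_neg] at this
        exact add_left_cancel this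
      obtain ⟨x1, x2, hx⟩ := exists_two_images hsk hi
      have hz : ∀ x y, S.bb (m *ᵥ x) (m *ᵥ y) = 0 := fun x y => by
        rw [S.bb_skew hsk, Matrix.mulVec_mulVec, hmm, Matrix.zero_mulVec, S.bb_zero_right, neg_zero]
      have hk5 : k ≠ 4 := fun h4 => by
        have hx' := hx
        have h10 : m *ᵥ x1 ≠ 0 := hx.ne_zero 0
        obtain ⟨c, hc⟩ := hplane h4 _ _ (hz x1 x1) (hz x2 x2) (hz x1 x2) h10
        exact (LinearIndependent.pair_iff' h10).1 hx' c hc
      refine ⟨x1, x2, hx, Submodule.span F (↑({x1, x2, m *ᵥ x1, m *ᵥ x2} : Finset (Fin k → F)) : Set _), ?_,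
        Submodule.subset_span (by simp), Submodule.subset_span (by simp), Submodule.subset_span (by simp),
        Submodule.subset_span (by simp)⟩
      exact lt_of_le_of_lt ((finrank_span_finset_le_card _).trans Finset.card_le_four) (by omega)
    · obtain ⟨v, hv⟩ : ∃ v, m *ᵥ (m *ᵥ v) ≠ 0 := by
        by_contra hcon
        push Not at hcon
        exact hmm (Matrix.ext_of_mulVec_single fun j => by
          rw [← Matrix.mulVec_mulVec, hcon, Matrix.zero_mulVec])
      refine ⟨v, m *ᵥ v, ?_, Submodule.span F (↑({v, m *ᵥ v, m *ᵥ (m *ᵥ v)} : Finset (Fin k → F)) : Set _), ?_,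
        Submodule.subset_span (by simp), Submodule.subset_span (by simp), Submodule.subset_span (by simp),
        Submodule.subset_span (by simp)⟩
      · have := (indep_nilp hmn hv).comp (fun j : Fin 2 => (j.succ : Fin 3)) (Fin.succ_injective _)
        convert this using 1
        funext j
        fin_cases j <;> rfl
      · exact lt_of_le_of_lt ((finrank_span_finset_le_card _).trans Finset.card_le_three) (by omega)
  -- a vector of the kernel outside the space
  have hrange : ∀ y, ∃ a c : F, a • (m *ᵥ x1) + c • (m *ᵥ x2) = m *ᵥ y := fun y => by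
    by_contra hcon
    refine no3 ![y, x1, x2] ?_
    have : (fun j => m *ᵥ ![y, x1, x2] j) = Fin.cons (m *ᵥ y) ![m *ᵥ x1, m *ᵥ x2] := by
      funext j; fin_cases j <;> rfl
    rw [this, linearIndependent_finCons]
    refine ⟨hx, fun hmem => hcon ?_⟩
    rw [Matrix.range_cons, Matrix.range_cons, Matrix.range_empty, Set.union_empty, Set.singleton_union] at hmem
    exact Submodule.mem_span_pair.1 hmem
  obtain ⟨y, hy⟩ : ∃ y, y ∉ U := by
    by_contra h
    push Not at h
    have : U = ⊤ := Submodule.eq_top_iff'.2 h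
    rw [this, finrank_top, Module.finrank_fin_fun] at hU
    omega
  obtain ⟨a, c, hac⟩ := hrange y
  set v0 := y - (a • x1 + c • x2) with hv0
  have hmv0 : m *ᵥ v0 = 0 := by
    rw [hv0, Matrix.mulVec_sub, Matrix.mulVec_add, Matrix.mulVec_smul, Matrix.mulVec_smul, hac, sub_self]
  have hv0U : v0 ∉ U := fun h => hy (by
    have := U.add_mem h (U.add_mem (U.smul_mem a hU1) (U.smul_mem c hU2))
    rwa [hv0, sub_add_cancel] at this)
  obtain ⟨f, hf, hfU⟩ := Submodule.exists_dual_map_eq_bot_of_notMem hv0U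
    (inferInstance : Module.Projective F ((Fin k → F) ⧸ U))
  set φ : Fin k → F := fun j => (f v0)⁻¹ * f (Pi.single j 1) with hφdef
  have hφ : ∀ x, φ ⬝ᵥ x = (f v0)⁻¹ * f x := fun x => by
    conv_rhs => rw [pi_eq_sum_univ' x, map_sum, Finset.mul_sum]
    exact Finset.sum_congr rfl fun j _ => by rw [map_smul, smul_eq_mul, hφdef]; ring
  have hφU : ∀ x ∈ U, φ ⬝ᵥ x = 0 := fun x hx => by
    rw [hφ, (Submodule.mem_bot F).1 (hfU ▸ Submodule.mem_map_of_mem hx : f x ∈ (⊥ : Submodule F F)), mul_zero]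
  have hφ1 : φ ⬝ᵥ v0 = 1 := by rw [hφ, inv_mul_cancel₀ hf]
  set π' := Matrix.vecMulVec v0 φ with hπ'
  have hπ'0 : π' ≠ 0 := fun h0 => by
    have := congrArg (fun M => M *ᵥ v0) h0
    rw [hπ', Matrix.vecMulVec_mulVec, hφ1, Matrix.zero_mulVec, op_smul_eq_smul, one_smul] at this
    exact hv0U (this ▸ U.zero_mem)
  have hπm : π' * m = 0 := Matrix.ext_of_mulVec_single fun j => by
    obtain ⟨a', c', h'⟩ := hrange (Pi.single j 1)
    rw [← Matrix.mulVec_mulVec, ← h', hπ', Matrix.vecMulVec_mulVec, dotProduct_add, dotProduct_smul,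
      dotProduct_smul, hφU _ hU3, hφU _ hU4, Matrix.zero_mulVec]
    simp
  have hmπ : m * π' = 0 := by rw [hπ', Matrix.mul_vecMulVec, hmv0, Matrix.zero_vecMulVec]
  have hππ : π' * π' = π' := by
    rw [hπ', Matrix.vecMulVec_mul_vecMulVec, hφ1, one_smul]
  suffices hb0 : b = 0 by rw [hTdef, hb0, add_zero, mul_one, map_add, map_one, add_sub_cancel_left]
  by_contra hb0
  have hne : slot i π' * b ≠ 0 := fun h0 => hb0 (slot_cancel hπ'0 hbc h0)
  obtain ⟨y0, hy0⟩ : ∃ y0, (slot i π' * b) *ᵥ y0 ≠ 0 := by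
    by_contra hcon
    push Not at hcon
    exact hne (Matrix.ext_of_mulVec_single fun j => by rw [hcon, Matrix.zero_mulVec])
  have hxs : LinearIndependent F fun j => m *ᵥ ![x1, x2] j := by
    convert hx using 1
    funext j; fin_cases j <;> rfl
  obtain ⟨D, φd, hφd, hle⟩ := le_rank_of_images (by omega) hbn hbc hxs
  set π := sumR ![x1, x2] φd
  have hπ'π : π' * π = 0 := by
    rw [hπ']
    simp only [π, sumR, Finset.mul_sum, Matrix.vecMulVec_mul_vecMulVec]
    refine Finset.sum_eq_zero fun j _ => ?_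
    have : φ ⬝ᵥ ![x1, x2] j = 0 := by fin_cases j <;> [exact hφU _ hU1; exact hφU _ hU2]
    rw [this, zero_smul, Matrix.vecMulVec_zero]
  have hTl : slot i π' * T = slot i π' * b := by
    rw [hTdef, map_add, map_one, mul_sub, ← mul_assoc, mul_add (slot i π'), ← map_mul, hπm, map_zero, add_zero,
      mul_one, mul_add, mul_one, add_sub_cancel_left]
  have hTr : T * slot i π' = slot i π' * b := by
    rw [hTdef, sub_mul, one_mul, mul_assoc, show (1 + b) * slot i π' = slot i π' * (1 + b) by
      rw [add_mul, mul_add, one_mul, mul_one, hbc], ← mul_assoc, ← map_mul, add_mul, one_mul, hmπ, add_zero,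
      mul_add, mul_one, add_sub_cancel_left]
  set V := (LinearMap.range (slot (t := t) i π).mulVecLin).map T.mulVecLin
  set w := T *ᵥ (slot i π' *ᵥ y0) with hw
  have hwe : w = (slot i π' * b) *ᵥ y0 := by rw [hw, Matrix.mulVec_mulVec, hTr]
  have hwV : w ∉ V := by
    rintro ⟨_, ⟨z, rfl⟩, hz⟩
    refine hy0 ?_
    have h1 : slot i π' *ᵥ w = w := by
      rw [hwe, Matrix.mulVec_mulVec, ← mul_assoc, ← map_mul, hππ]
    rw [← hwe, ← h1, ← hz]
    show slot i π' *ᵥ (T *ᵥ (slot i π *ᵥ z)) = 0
    rw [Matrix.mulVec_mulVec, Matrix.mulVec_mulVec, hTl, mul_assoc, ← hbc, ← mul_assoc, ← map_mul,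
      hπ'π, map_zero, zero_mul, Matrix.zero_mulVec]
  have hlt : V < V ⊔ Submodule.span F {w} := lt_of_le_of_ne le_sup_left fun e =>
    hwV (e ▸ Submodule.mem_sup_right (Submodule.mem_span_singleton_self w))
  have hle' : V ⊔ Submodule.span F {w} ≤ LinearMap.range T.mulVecLin :=
    sup_le LinearMap.map_le_range (Submodule.span_le.2 (Set.singleton_subset_iff.2 ⟨_, rfl⟩))
  have := (Submodule.finrank_lt_finrank_of_lt hlt).trans_le ((Submodule.finrank_mono hle').trans hr)
  omega

/-- Cube zero leaves a single slot in dimension three. -/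
theorem single_three (hk : k = 3) (h3 : (3 : F) ≠ 0) (hn : ∀ l, n l ^ p = 0)
    (hadj : ∀ l, S.adj (1 + n l) * (1 + n l) = 1) (i : Fin t) (hi : n i ≠ 0)
    (hT : (pmat (fun l => 1 + n l) - 1) * (pmat (fun l => 1 + n l) - 1) * (pmat (fun l => 1 + n l) - 1) = 0) :
    pmat (fun l => 1 + n l) - 1 = slot i (n i) := by
  classical
  set m := n i with hm
  set b := rest i n with hb
  have hbn := rest_nilp p (by omega) i hn
  have hbc := rest_comm i n
  have hcube := cube_zero_three hk (⟨p, hn i⟩ : IsNilpotent m)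
  have hTe : pmat (fun l => 1 + n l) - 1 = slot i m + b + slot i m * b := by
    rw [← slot_mul_rest i n, map_add, map_one, add_mul, one_mul, mul_add, mul_one]
    abel
  rw [hTe] at hT ⊢
  suffices hb0 : b = 0 by rw [hb0, mul_zero, add_zero, add_zero]
  have hmm : m * m ≠ 0 := fun hmm => by
    have hsk : m ∈ S.so := by
      rw [S.mem_so]
      have h1 := hadj i
      have hinv : (1 + m) * (1 - m) = 1 := by
        rw [add_mul, mul_sub, mul_sub, hmm, one_mul, mul_one, one_mul, sub_zero, sub_add_cancel]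
      have : S.adj (1 + m) = 1 - m := by
        calc S.adj (1 + m) = S.adj (1 + m) * ((1 + m) * (1 - m)) := by rw [hinv, mul_one]
          _ = 1 - m := by rw [← mul_assoc, h1, one_mul]
      rw [S.adj_add, S.adj_one, sub_eq_add_neg] at this
      exact add_left_cancel this
    obtain ⟨x1, x2, hx⟩ := exists_two_images hsk hi
    have h10 : m *ᵥ x1 ≠ 0 := hx.ne_zero 0
    have hz : ∀ x y, S.bb (m *ᵥ x) (m *ᵥ y) = 0 := fun x y => by
      rw [S.bb_skew hsk, Matrix.mulVec_mulVec, hmm, Matrix.zero_mulVec, S.bb_zero_right, neg_zero]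
    obtain ⟨c, hc⟩ := noPlane_three hk _ _ (hz x1 x1) (hz x2 x2) (hz x1 x2) h10
    exact (LinearIndependent.pair_iff' h10).1 hx c hc
  by_contra hb0
  have hex : ∃ d, b ^ (d + 1) = 0 := by
    obtain ⟨N, hN⟩ := hbn
    exact ⟨N, by rw [pow_succ, hN, zero_mul]⟩
  obtain ⟨d, hd⟩ : ∃ d, Nat.find hex = d + 1 := Nat.exists_eq_succ_of_ne_zero fun h0 => hb0 (by
    simpa [h0] using Nat.find_spec hex)
  have hne : b ^ (d + 1) ≠ 0 := Nat.find_min hex (by omega)
  have hbb : b ^ (d + 2) = 0 := by simpa [hd] using Nat.find_spec hex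
  set c := b ^ d with hc
  have hbbc : b * (b * c) = 0 := by rw [hc, ← pow_succ', ← pow_succ', hbb]
  set M := slot i m with hMdef
  have hMM : ∀ Y, M * (M * (M * Y)) = 0 := fun Y => by
    rw [← mul_assoc, ← mul_assoc, hMdef, ← map_mul, ← map_mul, hcube, map_zero, zero_mul]
  have hMb : ∀ Y, b * (M * Y) = M * (b * Y) := fun Y => by rw [← mul_assoc, ← hbc, mul_assoc]
  have h' := congrArg (· * c) hT
  simp only [add_mul, mul_add, mul_assoc, hMb, hbbc, hMM, mul_zero, zero_mul, add_zero, zero_add] at h'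
  have h3' : M * (M * (b * c)) = 0 := by
    have e : (3 : F) • (M * (M * (b * c))) = 0 := by
      rw [← h', show (3 : F) = 1 + 1 + 1 by norm_num, add_smul, add_smul, one_smul]
    exact (smul_eq_zero.1 e).resolve_left h3
  refine hne ?_
  rw [pow_succ', ← hc]
  refine slot_cancel (i := i) hmm (fun Y => ?_) ?_
  · rw [← mul_assoc, hbc, mul_assoc, hc, (Commute.pow_right (hbc Y) d).eq, mul_assoc]
  · rw [map_mul, mul_assoc, ← hMdef, h3']

/-- A whole line leaves a single slot in dimension three. -/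
theorem single_line (hk : k = 3) (hq : 5 ≤ Fintype.card F) {n : F → Fin t → Matrix (Fin k) (Fin k) F}
    (hn : ∀ s l, n s l ^ p = 0) (hadj : ∀ s l, S.adj (1 + n s l) * (1 + n s l) = 1)
    (hcomm : ∀ s s', Commute (pmat fun l => 1 + n s l) (pmat fun l => 1 + n s' l))
    {X Y : Matrix (Fin t → Fin k) (Fin t → Fin k) F}
    (hpoly : ∀ s : F, pmat (fun l => 1 + n s l) = 1 + s • X + s ^ 2 • Y) (i : Fin t) (hi : n 1 i ≠ 0) :
    pmat (fun l => 1 + n 1 l) - 1 = slot i (n 1 i) := by
  classical
  haveI : Nonempty (Fin k) := ⟨⟨0, by omega⟩⟩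
  haveI := charP_mat (F := F) p (Fin k)
  have hp0 : p ≠ 0 := (Fact.out : p.Prime).ne_zero
  have hone : ∀ s l, (1 + n s l) ^ p = 1 := fun s l => by
    rw [add_pow_char_of_commute p (Commute.one_left _), one_pow, hn, add_zero]
  have hsq : ∀ Z : Matrix (Fin k) (Fin k) F, Z ∈ S.so → Z * Z = 0 → Z = 0 := fun Z hZ hZZ => by
    by_contra hZ0
    obtain ⟨x1, x2, hx⟩ := exists_two_images hZ hZ0
    have h10 : Z *ᵥ x1 ≠ 0 := hx.ne_zero 0
    have hz : ∀ x y, S.bb (Z *ᵥ x) (Z *ᵥ y) = 0 := fun x y => by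
      rw [S.bb_skew hZ, Matrix.mulVec_mulVec, hZZ, Matrix.zero_mulVec, S.bb_zero_right, neg_zero]
    obtain ⟨c, hc⟩ := noPlane_three hk _ _ (hz x1 x1) (hz x2 x2) (hz x1 x2) h10
    exact (LinearIndependent.pair_iff' h10).1 hx c hc
  -- common fixed vectors
  have hfix : ∀ l, ∃ y : Fin k → F, y ≠ 0 ∧ ∀ s, n s l *ᵥ y = 0 := by
    intro l
    by_cases hall : ∀ s, n s l = 0
    · exact ⟨Pi.single ⟨0, by omega⟩ 1, by simp, fun s => by rw [hall, Matrix.zero_mulVec]⟩
    push Not at hall
    obtain ⟨s0, hs0⟩ := hall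
    set m := n s0 l with hm
    have hmn : IsNilpotent m := ⟨p, hn s0 l⟩
    have hcube := cube_zero_three hk hmn
    have hmm : m * m ≠ 0 := fun hmm => hs0 (hsq m (by
      rw [S.mem_so]
      have h1 := hadj s0 l
      have hinv : (1 + m) * (1 - m) = 1 := by
        rw [add_mul, mul_sub, mul_sub, hmm, one_mul, mul_one, one_mul, sub_zero, sub_add_cancel]
      have : S.adj (1 + m) = 1 - m := by
        calc S.adj (1 + m) = S.adj (1 + m) * ((1 + m) * (1 - m)) := by rw [hinv, mul_one]
          _ = 1 - m := by rw [← mul_assoc, h1, one_mul]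
      rw [S.adj_add, S.adj_one, sub_eq_add_neg] at this
      exact add_left_cancel this) hmm)
    obtain ⟨v, hv⟩ : ∃ v, m *ᵥ (m *ᵥ v) ≠ 0 := by
      by_contra hcon
      push Not at hcon
      exact hmm (Matrix.ext_of_mulVec_single fun j => by rw [← Matrix.mulVec_mulVec, hcon, Matrix.zero_mulVec])
    set y := m *ᵥ (m *ᵥ v) with hy
    have hmy : m *ᵥ y = 0 := by rw [hy, Matrix.mulVec_mulVec, Matrix.mulVec_mulVec, hcube, Matrix.zero_mulVec]
    have hker : ∀ x, m *ᵥ x = 0 → ∃ c : F, c • y = x := fun x hx => by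
      have hspan := (indep_nilp hmn hv).span_eq_top_of_card_eq_finrank' (by simp [hk])
      have hmem : x ∈ Submodule.span F (Set.range ![v, m *ᵥ v, y]) := by rw [hspan]; exact Submodule.mem_top
      obtain ⟨g, hg⟩ := (Submodule.mem_span_range_iff_exists_fun F).1 hmem
      simp only [Fin.sum_univ_three, Matrix.cons_val_zero, Matrix.cons_val_one] at hg
      rw [show (![v, m *ᵥ v, y] : Fin 3 → Fin k → F) 2 = y from rfl] at hg
      have h0 := congrArg (fun w => m *ᵥ w) hg
      simp only [Matrix.mulVec_add, Matrix.mulVec_smul, hx, ← hy, hmy, smul_zero, add_zero] at h0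
      have hli := indep_nilp hmn hv
      rw [Fintype.linearIndependent_iff] at hli
      have := hli ![0, g 0, g 1] (by
        rw [Fin.sum_univ_three]
        simpa [← hy] using h0)
      have g0 := this 1
      have g1 := this 2
      simp at g0 g1
      rw [g0, g1, zero_smul, zero_smul, zero_add, zero_add] at hg
      exact ⟨g 2, hg⟩
    refine ⟨y, hv, fun s => ?_⟩
    have hA : IsUnit (1 + n s l) := (isUnit_pow_iff hp0).1 (by rw [hone]; exact isUnit_one)
    -- commutation up to a scalar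
    set P0 := pmat fun l => 1 + n s0 l with hP0
    set Ps := pmat fun l => 1 + n s l with hPs
    have hp1 : ∀ s, (pmat fun l => 1 + n s l) ^ p = 1 := fun s => by
      rw [pmat_pow]
      simp only [hone]
      exact pmat_one
    have hsucc : p = p - 1 + 1 := by omega
    obtain ⟨c, hc⟩ := scalar_of_pmat (by omega) one_ne_zero
      (A := fun l => (1 + n s0 l) ^ (p - 1) * ((1 + n s l) ^ (p - 1) * ((1 + n s0 l) * (1 + n s l)))) (by
        rw [one_smul, ← pmat_mul, ← pmat_mul, ← pmat_mul, ← pmat_pow, ← pmat_pow, ← hP0, ← hPs,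
          (hcomm s0 s).eq, ← mul_assoc (Ps ^ (p - 1)), ← pow_succ, ← hsucc, hPs, hp1, one_mul, ← pow_succ,
          ← hsucc, hP0, hp1]) l
    have hc' : (1 + m) * (1 + n s l) = c • ((1 + n s l) * (1 + m)) := by
      have e0 : (1 + m) * (1 + m) ^ (p - 1) = 1 := by rw [← pow_succ', ← hsucc, hm, hone]
      have e1 : (1 + n s l) * (1 + n s l) ^ (p - 1) = 1 := by rw [← pow_succ', ← hsucc, hone]
      calc (1 + m) * (1 + n s l) = (1 + n s l) * ((1 + m) * ((1 + m) ^ (p - 1) * ((1 + n s l) ^ (p - 1) *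
            ((1 + m) * (1 + n s l))))) := by
            rw [← mul_assoc (1 + m) ((1 + m) ^ (p - 1)), e0, one_mul, ← mul_assoc (1 + n s l), e1, one_mul]
        _ = _ := by rw [hc, mul_smul_comm, mul_smul_comm, mul_one]
    set z := (1 + n s l) *ᵥ y with hz
    have hz0 : z ≠ 0 := fun h0 => hv (by
      obtain ⟨u, hu⟩ := hA
      have := congrArg (fun w => u⁻¹.val *ᵥ w) h0
      rwa [hz, ← hu, Matrix.mulVec_mulVec, Units.inv_mul, Matrix.one_mulVec, Matrix.mulVec_zero] at this)
    have hmz : m *ᵥ z = (c - 1) • z := by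
      have := congrArg (fun Z => Z *ᵥ y) hc'
      simp only [Matrix.smul_mulVec, ← Matrix.mulVec_mulVec] at this
      rw [Matrix.add_mulVec 1 m y, Matrix.one_mulVec, hmy, add_zero, ← hz, Matrix.add_mulVec, Matrix.one_mulVec]
        at this
      rw [sub_smul, one_smul, ← this, add_sub_cancel_left]
    have hc1 : c - 1 = 0 := by
      by_contra hne
      exact hz0 (fix_zero hmn hne hmz)
    rw [hc1, zero_smul] at hmz
    obtain ⟨μ, hμ⟩ := hker z hmz
    have hny : n s l *ᵥ y = (μ - 1) • y := by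
      rw [sub_smul, one_smul, hμ, hz, Matrix.add_mulVec, Matrix.one_mulVec, add_sub_cancel_left]
    have : μ - 1 = 0 := by
      by_contra hne
      exact hv (fix_zero ⟨p, hn s l⟩ hne hny)
    rw [hny, this, zero_smul]
  choose y hy0 hyf using hfix
  choose ψ hψ using fun l => exists_dual (hy0 l)
  have hA1 : ∀ s l, ψ l ⬝ᵥ ((1 + n s l) *ᵥ y l) = 1 := fun s l => by
    rw [Matrix.add_mulVec, Matrix.one_mulVec, hyf, add_zero, hψ]
  let e : Fin k → Fin k → F := fun j => Pi.single j 1
  have hent : ∀ (Z : Matrix (Fin k) (Fin k) F) u v, e u ⬝ᵥ (Z *ᵥ e v) = Z u v := fun Z u v => by simp [e]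
  let xi (l : Fin t) (a b : Fin k) (Z : Matrix (Fin t → Fin k) (Fin t → Fin k) F) : F :=
    pvec (Function.update ψ l (e a)) ⬝ᵥ (Z *ᵥ pvec (Function.update y l (e b)))
  have hxi : ∀ s l a b, xi l a b (pmat fun l => 1 + n s l) = (1 + n s l) a b := fun s l a b => by
    simp only [xi]
    rw [pmat_mulVec_pvec, pvec_dot, ← Finset.mul_prod_erase _ _ (Finset.mem_univ l), Function.update_self,
      Function.update_self, hent, Finset.prod_eq_one, mul_one]
    intro j hj
    rw [Function.update_of_ne (Finset.ne_of_mem_erase hj), Function.update_of_ne (Finset.ne_of_mem_erase hj), hA1]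
  have hxi1 : ∀ l a b, xi l a b 1 = (1 : Matrix (Fin k) (Fin k) F) a b := fun l a b => by
    simp only [xi]
    rw [Matrix.one_mulVec, pvec_dot, ← Finset.mul_prod_erase _ _ (Finset.mem_univ l), Function.update_self,
      Function.update_self, Finset.prod_eq_one, mul_one]
    · simp [e, Matrix.one_apply, Pi.single_apply, eq_comm]
    · intro j hj
      rw [Function.update_of_ne (Finset.ne_of_mem_erase hj), Function.update_of_ne (Finset.ne_of_mem_erase hj), hψ]
  let Xl : Fin t → Matrix (Fin k) (Fin k) F := fun l => Matrix.of fun a b => xi l a b X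
  let Rl : Fin t → Matrix (Fin k) (Fin k) F := fun l => Matrix.of fun a b => xi l a b Y
  have hlin : ∀ s l, n s l = s • Xl l + s ^ 2 • Rl l := fun s l => by
    ext a b
    have h := hxi s l a b
    rw [hpoly] at h
    simp only [xi, Matrix.add_mulVec, Matrix.smul_mulVec, dotProduct_add, dotProduct_smul, smul_eq_mul] at h
    rw [show pvec (Function.update ψ l (e a)) ⬝ᵥ ((1 : Matrix (Fin t → Fin k) (Fin t → Fin k) F) *ᵥ
      pvec (Function.update y l (e b))) = _ from hxi1 l a b] at h
    simp only [Matrix.add_apply, Matrix.smul_apply, smul_eq_mul, Xl, Rl, Matrix.of_apply, xi] at h ⊢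
    linear_combination -h
  have hpair : ∀ l l' : Fin t, l ≠ l' → Rl l = 0 ∨ Rl l' = 0 := by
    intro l l' hll
    by_contra hcon
    rw [not_or] at hcon
    obtain ⟨⟨a, b, hab⟩, ⟨a', b', hab'⟩⟩ : (∃ a b, Rl l a b ≠ 0) ∧ ∃ a b, Rl l' a b ≠ 0 := by
      constructor <;> by_contra h <;> push Not at h
      exacts [hcon.1 (Matrix.ext h), hcon.2 (Matrix.ext h)]
    let f : Matrix (Fin t → Fin k) (Fin t → Fin k) F → F := fun Z =>
      pvec (Function.update (Function.update ψ l (e a)) l' (e a')) ⬝ᵥ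
        (Z *ᵥ pvec (Function.update (Function.update y l (e b)) l' (e b')))
    have hf : ∀ s, f (pmat fun l => 1 + n s l) = (1 + n s l) a b * (1 + n s l') a' b' := fun s => by
      simp only [f]
      rw [pmat_mulVec_pvec, pvec_dot₂ hll, Function.update_of_ne hll, Function.update_self, Function.update_self,
        hent, hent, Finset.prod_eq_one, mul_one]
      intro j hj
      obtain ⟨h1, h2⟩ := Finset.mem_erase.1 hj
      rw [Function.update_of_ne h1, Function.update_of_ne (Finset.ne_of_mem_erase h2), hA1]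
    set o := (1 : Matrix (Fin k) (Fin k) F) a b
    set o' := (1 : Matrix (Fin k) (Fin k) F) a' b'
    have hq4 := (quartic_zero (Z := Finset.univ) (by rwa [Finset.card_univ]) (c0 := o * o' - f 1)
      (c1 := o * Xl l' a' b' + Xl l a b * o' - f X)
      (c2 := o * Rl l' a' b' + Xl l a b * Xl l' a' b' + Rl l a b * o' - f Y)
      (c3 := Xl l a b * Rl l' a' b' + Rl l a b * Xl l' a' b') (c4 := Rl l a b * Rl l' a' b') fun s _ => by
        have h := hf s
        rw [hpoly, hlin, hlin] at h
        simp only [f, Matrix.add_mulVec, Matrix.smul_mulVec, dotProduct_add, dotProduct_smul, smul_eq_mul,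
          Matrix.add_apply, Matrix.smul_apply] at h ⊢
        simp only [o, o']
        linear_combination -h).2.2.2.2
    exact mul_ne_zero hab hab' hq4
  have hR0 : ∀ l, Rl l = 0 → n 1 l = 0 := fun l h0 => by
    have hs : ∀ s, n s l = s • Xl l := fun s => by rw [hlin, h0, smul_zero, add_zero]
    have h1 := hadj 1 l
    have h2 := hadj (-1) l
    rw [hs, one_smul, S.adj_add, S.adj_one] at h1
    rw [hs, neg_one_smul, S.adj_add, S.adj_one, S.adj_neg] at h2
    have e1 : (S.adj (Xl l) + Xl l) + S.adj (Xl l) * Xl l = 0 := by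
      rw [← sub_eq_zero.2 h1]; noncomm_ring
    have e2 : -(S.adj (Xl l) + Xl l) + S.adj (Xl l) * Xl l = 0 := by
      rw [← sub_eq_zero.2 h2]; noncomm_ring
    have e3 : (2 : F) • (S.adj (Xl l) * Xl l) = 0 := by
      have := congrArg₂ (· + ·) e1 e2
      simp only [add_zero] at this
      rw [two_smul, ← this]
      abel
    have e4 := (smul_eq_zero.1 e3).resolve_left S.two
    rw [e4, add_zero, add_eq_zero_iff_eq_neg] at e1
    rw [e1, neg_mul, neg_eq_zero] at e4
    rw [hs, hsq _ (S.mem_so.2 e1) e4, smul_zero]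
  have hRi : Rl i ≠ 0 := fun h0 => hi (hR0 i h0)
  have hothers : ∀ l, l ≠ i → n 1 l = 0 := fun l hl => hR0 l ((hpair i l hl.symm).resolve_left hRi)
  rw [show (fun l => 1 + n 1 l) = Function.update (1 : Fin t → Matrix (Fin k) (Fin k) F) i (1 + n 1 i) from funext fun l => by
    rcases eq_or_ne l i with rfl | hl
    · simp
    · simp [Function.update_of_ne hl, hothers l hl], ← slot_eq, map_add, map_one, add_sub_cancel_left]

variable (S) in
/-- The element of a slot. -/
def zGL (i : Fin t) (q : S.Pr) (x : Fin k → F) (hx : q.InW x) : GL (Fin t → Fin k) F :=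
  S.slotGL i (S.z q.e x) (S.z_iso q.he hx.1)

lemma zGL_mul (i : Fin t) (q : S.Pr) {x y : Fin k → F} (hx : q.InW x) (hy : q.InW y) :
    S.zGL i q x hx * S.zGL i q y hy = S.zGL i q (x + y) (hx.add hy) := by
  refine Units.ext ?_
  show slot i _ * slot i _ = slot i _
  rw [← map_mul, S.z_mul q.he hx.1 hy.1]

lemma zGL_val (i : Fin t) (q : S.Pr) (x : Fin k → F) (hx : q.InW x) (s : F) :
    (S.zGL i q (s • x) (hx.smul s)).val = 1 + s • slot i (S.N q.e x) +
      (2⁻¹ * s ^ 2 : F) • (slot i (S.N q.e x) * slot i (S.N q.e x)) := by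
  show slot i (S.z q.e (s • x)) = _
  rw [z, map_sub, map_add, map_one, ← map_mul, S.N_mul_N q.he hx.1 hx.1, S.N_smul, map_smul, S.Q_smul, S.bb_self,
    map_smul, map_smul, smul_smul, sub_eq_add_neg, ← neg_smul]
  congr 2
  have := S.two
  field_simp

/-- A conjugate in the wreath group is a Siegel map of a slot. -/
theorem fix_slot (hplane : k = 4 → S.NoPlane) {g : GL (Fin t → Fin k) F} (hg : g ∈ S.Iso t) (i : Fin t)
    (q : S.Pr) {x : Fin k → F} (hx : q.InW x) (hQ : S.Q x ≠ 0)
    (hs : g * S.zGL i q x hx * g⁻¹ ∈ tensorWreathStandard k t F)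
    (h3 : (3 : F) = 0 → k = 3 → 9 ≤ Fintype.card F ∧
      ∀ s : F, g * S.zGL i q (s • x) (hx.smul s) * g⁻¹ ∈ tensorWreathStandard k t F) :
    ∃ (j : Fin t) (q' : S.Pr) (a : Fin k → F), q'.InW a ∧ S.Q a ≠ 0 ∧
      g.val * slot i (S.N q.e x) * (g⁻¹).val = slot j (S.N q'.e a) := by
  classical
  obtain ⟨p, hp⟩ := CharP.exists F
  haveI := hp
  have hpp : p.Prime := (CharP.char_is_prime_or_zero F p).resolve_right (CharP.char_ne_zero_of_finite F p)
  haveI : Fact p.Prime := ⟨hpp⟩
  have hp2 : p ≠ 2 := fun e => S.two (by subst e; exact_mod_cast CharP.cast_eq_zero F 2)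
  have hk3 := S.three_le
  haveI : Nonempty (Fin k) := ⟨⟨0, by omega⟩⟩
  haveI := charP_mat (F := F) p (Fin t → Fin k)
  set N0 := slot i (S.N q.e x) with hN0
  set U : F → GL (Fin t → Fin k) F := fun s => g * S.zGL i q (s • x) (hx.smul s) * g⁻¹ with hU
  set X := g.val * N0 * (g⁻¹).val with hX
  have hUU : ∀ s s', U s * U s' = U (s + s') := fun s s' => by
    simp only [hU, add_smul]
    rw [← zGL_mul i q (hx.smul s) (hx.smul s')]
    group
  have hN3 : N0 * N0 * N0 = 0 := by
    rw [hN0, ← map_mul, ← map_mul, S.N_mul_N q.he hx.1 hx.1, smul_mul_assoc, S.P_mul_N q.he hx.1, smul_zero,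
      map_zero]
  have hXX : X * X = g.val * (N0 * N0) * (g⁻¹).val := by
    simp only [hX, mul_assoc]
    rw [← mul_assoc (g⁻¹).val g.val, Units.inv_mul, one_mul]
  have hX3 : X * X * X = 0 := by
    rw [hXX, hX]
    simp only [mul_assoc]
    rw [← mul_assoc (g⁻¹).val g.val, Units.inv_mul, one_mul, ← mul_assoc N0 (N0 : Matrix _ _ F),
      ← mul_assoc (N0 * N0), hN3, zero_mul, mul_zero]
  have hUval : ∀ s, (U s).val = 1 + s • X + (2⁻¹ * s ^ 2 : F) • (X * X) := fun s => by
    rw [hU, Units.val_mul, Units.val_mul, zGL_val i q x hx s, hXX, hX]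
    simp only [mul_add, add_mul, mul_one, Units.mul_inv, mul_smul_comm, smul_mul_assoc, hN0]
  have hU1 : U 1 = g * S.zGL i q x hx * g⁻¹ := by simp only [hU, one_smul]
  have hex : (U 1).val = ex F X := by rw [hUval, ex, one_smul, one_pow, mul_one]
  obtain ⟨hlog1, hlog2, hlog3⟩ := log_ex S.two hX3
  have hXskew : S.adjB X = -X := by
    rw [hX, S.adjB_conj hg, hN0, S.adjB_slot, S.adj_N, map_neg, mul_neg, neg_mul]
  have hXX0 : X * X ≠ 0 := fun h0 => by
    rw [hXX, hN0, ← map_mul, S.N_mul_N q.he hx.1 hx.1, map_smul] at h0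
    have h1 : slot i (S.P q.e) = 0 := by
      have h2 := congrArg (fun Z => (g⁻¹).val * Z * g.val) h0
      simp only [mul_zero, zero_mul, ← mul_assoc, Units.inv_mul, one_mul] at h2
      rw [mul_assoc, Units.inv_mul, mul_one, smul_eq_zero, neg_eq_zero, S.bb_self] at h2
      exact h2.resolve_left (mul_ne_zero S.two hQ)
    have := congrArg (fun T => T *ᵥ q.f) (slot_injective i (h1.trans (map_zero _).symm))
    simp [P_mulVec, q.h1', q.e_ne] at this
  have hX0 : X ≠ 0 := fun h0 => hXX0 (by rw [h0, mul_zero])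
  have hUp : U 1 ^ p = 1 := by
    refine Units.ext ?_
    rw [Units.val_pow_eq_pow_val, Units.val_one, hex, ← add_sub_cancel (1 : Matrix (Fin t → Fin k) _ F) (ex F X),
      add_pow_char_of_commute p (Commute.one_left _), one_pow,
      show p = 3 + (p - 3) by have := hpp.two_le; omega, pow_add, pow_three, ← mul_assoc, hlog3, zero_mul, add_zero]
  have hrT : ((U 1).val - 1).rank ≤ 2 * k ^ (t - 1) := by
    have e : (U 1).val - 1 = g.val * slot i (S.z q.e x - 1) * (g⁻¹).val := by
      rw [hU1, Units.val_mul, Units.val_mul, map_sub, map_one, mul_sub, sub_mul, mul_one, Units.mul_inv]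
      rfl
    rw [e]
    exact (Matrix.rank_mul_le_left _ _).trans ((Matrix.rank_mul_le_right _ _).trans (rank_z_sub_one i _ _))
  obtain ⟨σ, A, hσA⟩ := mem_std_iff.1 hs
  rw [← hU1] at hσA
  have hσp := perm_pow_eq_one (by omega) (hσA ▸ hUp)
  have h3p : p ≠ 3 → (3 : F) ≠ 0 := fun hp3 h0 => hp3 ((Nat.prime_dvd_prime_iff_eq hpp Nat.prime_three).1
    ((CharP.cast_eq_zero_iff F p 3).1 (by exact_mod_cast h0)))
  have hchar3 : p = 3 → (3 : F) = 0 := fun e => by subst e; exact_mod_cast CharP.cast_eq_zero F 3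
  have hline : p = 3 → k = 3 → 9 ≤ Fintype.card F ∧ ∀ s, U s ∈ tensorWreathStandard k t F := fun hp3 hk => by
    exact h3 (hchar3 hp3) hk
  -- no permutation
  have hσ : σ = 1 := by
    by_cases hp3 : p = 3
    · by_cases hk : k = 3
      · obtain ⟨hq, hall⟩ := hline hp3 hk
        exact perm_of_line (by omega) hq hUU hall hσA hUval
      · refine perm_of_rank (by omega) (hp3 ▸ hσp) (hp3 ▸ hσA ▸ hUp) ?_
        rw [← hσA]
        have e : (1 : Matrix (Fin t → Fin k) (Fin t → Fin k) F) + (U 1).val + (U 1).val * (U 1).val = X * X := by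
          rw [hex, ← hlog1]
          have h30 : (3 : F) • ex F X = 0 := by rw [hchar3 hp3, zero_smul]
          conv_rhs => rw [← add_zero ((ex F X - 1) * (ex F X - 1)), ← h30]
          rw [show (3 : F) = 1 + 1 + 1 by norm_num, add_smul, add_smul, one_smul]
          simp only [sub_mul, mul_sub, one_mul, mul_one]
          abel
        rw [e, hXX, hN0, ← map_mul, S.N_mul_N q.he hx.1 hx.1, map_smul, mul_smul_comm, smul_mul_assoc,
          ← smul_one_mul]
        exact (Matrix.rank_mul_le_right _ _).trans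
          ((Matrix.rank_mul_le_left _ _).trans ((Matrix.rank_mul_le_right _ _).trans (rank_P i _)))
    · refine perm_of_cube (k := k) (by omega) hpp ?_ hσp (by rw [← hσA, hex]; exact hlog3)
      have := hpp.two_le
      by_contra hlt
      interval_cases p <;> simp_all (config := {decide := true})
  subst hσ
  rw [map_one, mul_one] at hσA
  have hiso : ∀ s, U s ∈ S.Iso t := fun s =>
    mul_mem (mul_mem hg (S.slotGL_mem_Iso _ _ _)) (inv_mem hg)
  obtain ⟨n, hn1, hn2, hn3⟩ := exists_unip p S (hiso 1) (A := A) (by rw [hσA, coe_pmatGL]) hUp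
  obtain ⟨j, hj⟩ : ∃ j, n j ≠ 0 := by
    by_contra hcon
    push Not at hcon
    refine hX0 ?_
    rw [← hlog2, ← hex, hn1]
    simp only [hcon, add_zero]
    rw [show (fun _ : Fin t => (1 : Matrix (Fin k) (Fin k) F)) = 1 from rfl, pmat_one, sub_self, mul_zero,
      smul_zero, sub_zero]
  have hsingle : (U 1).val - 1 = slot j (n j) := by
    rw [hn1]
    by_cases hk : k = 3
    · by_cases hp3 : p = 3
      · obtain ⟨hq, hall⟩ := hline hp3 hk
        have hk2 : 2 ≤ k := by omega
        have hfam : ∀ s, ∃ m : Fin t → Matrix (Fin k) (Fin k) F, ((U s).val = pmat fun l => 1 + m l) ∧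
            (∀ l, m l ^ p = 0) ∧ ∀ l, S.adj (1 + m l) * (1 + m l) = 1 := fun s => by
          obtain ⟨τ, B, hB⟩ := mem_std_iff.1 (hall s)
          have hUp' : U s ^ p = 1 := by
            have e : ∀ j : ℕ, U s ^ j = U (j * s) := fun j => by
              induction j with
              | zero =>
                rw [pow_zero, Nat.cast_zero, zero_mul]
                have := hUU 0 0
                rw [add_zero, mul_eq_left] at this
                exact this.symm
              | succ j ih => rw [pow_succ, ih, hUU, Nat.cast_succ, add_mul, one_mul]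
            rw [e, CharP.cast_eq_zero, zero_mul]
            have := hUU 0 0
            rwa [add_zero, mul_eq_left] at this
          have hτ : τ = 1 := by
            rcases eq_or_ne s 0 with rfl | hs0
            · have h00 := hUU 0 0
              rw [add_zero, mul_eq_left] at h00
              have := perm_pow_eq_one hk2 (n := 1) (A := B) (σ := τ) (by rw [pow_one, ← hB, h00])
              simpa using this
            · refine perm_of_line hk2 hq (U := fun r => U (r * s)) (fun r r' => by rw [hUU, add_mul])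
                (fun r => hall _) (by rw [one_mul]; exact hB) (X := s • X) fun r => ?_
              rw [hUval, smul_mul_smul_comm, smul_smul, smul_smul]
              ring_nf
          rw [hτ, map_one, mul_one] at hB
          exact exists_unip p S (hiso s) (A := B) (by rw [hB, coe_pmatGL]) hUp'
        choose m hm1 hm2 hm3 using hfam
        have hm : n = n := rfl
        set m' : F → Fin t → Matrix (Fin k) (Fin k) F := Function.update m 1 n with hm'
        have hm1' : ∀ s, (U s).val = pmat fun l => 1 + m' s l := fun s => by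
          rcases eq_or_ne s 1 with rfl | hs1
          · simp only [hm', Function.update_self]; exact hn1
          · simp only [hm', Function.update_of_ne hs1]; exact hm1 s
        have := single_line p hk (by omega) (n := m')
          (fun s l => by
            rcases eq_or_ne s 1 with rfl | hs1
            · simp only [hm', Function.update_self]; exact hn2 l
            · simp only [hm', Function.update_of_ne hs1]; exact hm2 s l)
          (fun s l => by
            rcases eq_or_ne s 1 with rfl | hs1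
            · simp only [hm', Function.update_self]; exact hn3 l
            · simp only [hm', Function.update_of_ne hs1]; exact hm3 s l)
          (fun s s' => by
            rw [← hm1', ← hm1', Commute, SemiconjBy, ← Units.val_mul, ← Units.val_mul, hUU, hUU, add_comm])
          (X := X) (Y := (2⁻¹ : F) • (X * X))
          (fun s => by rw [← hm1', hUval, smul_smul, mul_comm]) j (by simpa [hm'] using hj)
        simpa [hm'] using this
      · refine single_three p hk (h3p hp3) hn2 hn3 j hj ?_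
        rw [← hn1, hex]; exact hlog3
    · exact single_slot p (by omega) hplane hn2 hn3 (by rw [← hn1]; exact hrT) j hj
  set Z := n j - (2⁻¹ : F) • (n j * n j) with hZdef
  have hXZ : X = slot j Z := by
    rw [← hlog2, ← hex, hsingle, hZdef, map_sub, map_smul, map_mul]
  have hZso : Z ∈ S.so := slot_injective j (by rw [← S.adjB_slot, ← hXZ, hXskew, hXZ, map_neg])
  have hZ3 : Z * Z * Z = 0 := slot_injective j (by rw [map_mul, map_mul, ← hXZ, hX3, map_zero])
  have hZZ : Z * Z ≠ 0 := fun h0 => hXX0 (by rw [hXZ, ← map_mul, h0, map_zero])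
  have hrange : ∀ v y, Z *ᵥ (Z *ᵥ v) ≠ 0 → ∃ a b : F, a • (Z *ᵥ v) + b • (Z *ᵥ (Z *ᵥ v)) = Z *ᵥ y := by
    intro v y hv
    by_contra hcon
    have hnil : IsNilpotent Z := ⟨3, by rw [pow_three, ← mul_assoc, hZ3]⟩
    have hpair : LinearIndependent F ![Z *ᵥ v, Z *ᵥ (Z *ᵥ v)] := by
      have := (indep_nilp hnil hv).comp (fun j : Fin 2 => (j.succ : Fin 3)) (Fin.succ_injective _)
      convert this using 1
      funext j; fin_cases j <;> rfl
    have hli : LinearIndependent F fun j => Z *ᵥ ![y, v, Z *ᵥ v] j := by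
      have : (fun j => Z *ᵥ ![y, v, Z *ᵥ v] j) = Fin.cons (Z *ᵥ y) ![Z *ᵥ v, Z *ᵥ (Z *ᵥ v)] := by
        funext j; fin_cases j <;> rfl
      rw [this, linearIndependent_finCons]
      refine ⟨hpair, fun hmem => hcon ?_⟩
      rw [Matrix.range_cons, Matrix.range_cons, Matrix.range_empty, Set.union_empty, Set.singleton_union] at hmem
      exact Submodule.mem_span_pair.1 hmem
    obtain ⟨_, _, -, h⟩ := le_rank_of_images (t := t) (i := j) (b := 0) hk3 IsNilpotent.zero
      (fun Y => by simp) hli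
    rw [add_zero, mul_one, map_add, map_one, add_sub_cancel_left] at h
    have hrX : (slot (t := t) j Z).rank ≤ 2 * k ^ (t - 1) := by
      have he : S.N q.e x = sumR ![x, -q.e] ![S.G *ᵥ q.e, S.G *ᵥ x] := by
        simp [sumR, N, op, Matrix.neg_vecMulVec, sub_eq_add_neg]
      rw [← hXZ, hX, hN0, he]
      exact (Matrix.rank_mul_le_left _ _).trans
        ((Matrix.rank_mul_le_right _ _).trans (rank_sumR_le i (by omega) _ _))
    have := Nat.le_of_mul_le_mul_right (h.trans ((finrank_map_le_rank _ _).trans hrX))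
      (Nat.pos_of_ne_zero (pow_ne_zero _ (by omega)))
    omega
  obtain ⟨q', a, ha, hQa, hZN⟩ := exists_N hZso hZ3 hZZ hrange
  exact ⟨j, q', a, ha, hQa, by rw [← hZN, ← hXZ]⟩

end Sym

end CfsgLib.ClassicalMax.OWr
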