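/-
Without roots, the elements of `M` in the radical of a slot are elements of the slot.
-/
import Cfsg.Agent.Lib.ClassicalMax.OrthWreath.Level
set_option autoImplicit false
set_option linter.unusedSectionVars false
set_option linter.unusedVariables false
set_option linter.unusedSimpArgs false

namespace CfsgLib.ClassicalMax.OWr

open Matrix Cfsg.Geo
open CfsgLib.ClassicalMax.TWreath

variable {F : Type*} [Field F] {k t : ℕ}

namespace Sym

variable {S : Sym F k}

lemma adjB_eq_smul {X : Matrix (Fin t → Fin k) (Fin t → Fin k) F}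
    {V : Fin t → Submodule F (Matrix (Fin k) (Fin k) F)} (ε : Fin t → F) (h : ∀ l, InS l (V l) X)
    (hV : ∀ l, ∀ Y ∈ V l, S.adj Y = ε l • Y) : S.adjB X = (∏ l, ε l) • X := by
  have hX := mem_span_pmat h
  clear h
  induction hX using Submodule.span_induction with
  | mem x hx =>
    obtain ⟨B, hB, rfl⟩ := hx
    rw [S.adjB_pmat, ← pmat_smul]
    congr 1
    exact funext fun l => hV l _ (hB l)
  | zero => simp
  | add x y _ _ h1 h2 => rw [map_add, h1, h2, smul_add]
  | smul c x _ h1 => rw [map_smul, h1, smul_comm]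

/-- An odd number of skew slots. -/
lemma odd_card {D : Finset (Fin t)} {V : Fin t → Submodule F (Matrix (Fin k) (Fin k) F)}
    {X : Matrix (Fin t → Fin k) (Fin t → Fin k) F} (h : ∀ l, InS l (V l) X)
    (h1 : ∀ l ∈ D, V l ≤ S.so) (h2 : ∀ l ∉ D, ∀ Y ∈ V l, S.adj Y = Y) (hX : S.adjB X = -X) (hX0 : X ≠ 0) :
    Odd D.card := by
  by_contra hodd
  rw [Nat.not_odd_iff_even] at hodd
  have e := adjB_eq_smul (S := S) (fun l => if l ∈ D then (-1 : F) else 1) h fun l Y hY => by
    by_cases hl : l ∈ D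
    · simp only [if_pos hl, neg_one_smul]; exact h1 l hl hY
    · simp only [if_neg hl, one_smul]; exact h2 l hl Y hY
  rw [Finset.prod_ite_mem, Finset.univ_inter, Finset.prod_const, hodd.neg_one_pow, one_smul, hX] at e
  refine hX0 ((smul_eq_zero.1 (?_ : (2 : F) • X = 0)).resolve_left S.two)
  rw [two_smul]
  nth_rw 2 [← neg_neg X]
  rw [← sub_eq_add_neg, sub_eq_zero]
  exact e.symm

variable {M : Subgroup (GL (Fin t → Fin k) F)} (H : S.Over M) [Fintype F]
include H

omit H in
lemma adjB_L (i : Fin t) (e w : Fin k → F) (X : Matrix (Fin t → Fin k) (Fin t → Fin k) F) :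
    S.adjB (L i (S.Ad e w) X) = L i (S.Ad e w) (S.adjB X) := by
  rw [Ad, ← slot_sandwich, ← slot_sandwich, S.adjB_mul, S.adjB_mul, S.adjB_slot, S.adjB_slot, S.adj_z, S.adj_z,
    neg_neg, ← mul_assoc]

omit H in
/-- Slots reduced to scalars or radicals. -/
lemma slots_reduce {Z : AddSubgroup (Matrix (Fin t → Fin k) (Fin t → Fin k) F)} {U : Finset (Fin t)}
    (hinv : ∀ m ∈ U, S.Inv Z m) (hso : ∀ m ∈ U, ∀ Y ∈ Z, InS m S.so1 Y) (q : Fin t → S.Pr)
    {X : Matrix (Fin t → Fin k) (Fin t → Fin k) F} (hX : X ∈ Z) (hX0 : X ≠ 0) (s : Finset (Fin t)) :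
    s ⊆ U → ∃ (X' : Matrix (Fin t → Fin k) (Fin t → Fin k) F) (q' : Fin t → S.Pr),
      X' ∈ Z ∧ X' ≠ 0 ∧ (∀ l ∉ s, q' l = q l) ∧
      (∀ l ∈ s, ¬ InS l (Submodule.span F {(1 : Matrix (Fin k) (Fin k) F)}) X' → InS l (q' l).Nr X') ∧
      (∀ l ∉ s, ∀ V, InS l V X → InS l V X') := by
  classical
  induction s using Finset.induction with
  | empty =>
    exact fun _ => ⟨X, q, hX, hX0, fun l _ => rfl, fun l hl => absurd hl (Finset.notMem_empty l),
      fun l _ V h => h⟩
  | insert m s hm ih =>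
    intro hsub
    obtain ⟨X', q', h1, h2, h3, h4, h6⟩ := ih fun x hx => hsub (Finset.mem_insert_of_mem hx)
    have hmU := hsub (Finset.mem_insert_self m s)
    rcases (hinv m hmU).step (hso m hmU) h1 with hsc | ⟨φ, p, hp1, hp2, hp3⟩
    · refine ⟨X', q', h1, h2, fun l hl => h3 l fun h => hl (Finset.mem_insert_of_mem h), fun l hl hns => ?_,
        fun l hl V hV => h6 l (fun h => hl (Finset.mem_insert_of_mem h)) V hV⟩
      · rcases Finset.mem_insert.1 hl with rfl | hl
        · exact absurd hsc hns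
        · exact h4 l hl hns
    · refine ⟨_, Function.update q' m p, hp1, hp2, fun l hl => ?_, fun l hl hns => ?_,
        fun l hl V hV => InS.other (h6 l (fun h => hl (Finset.mem_insert_of_mem h)) V hV)
          (fun e => hl (Finset.mem_insert.2 (Or.inl e.symm))) φ⟩
      · rw [Function.update_of_ne (fun e => hl (Finset.mem_insert.2 (Or.inl e))),
          h3 l fun h => hl (Finset.mem_insert_of_mem h)]
      · rcases eq_or_ne l m with rfl | hlm
        · rw [Function.update_self]; exact hp3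
        · rw [Function.update_of_ne hlm]
          have hls : l ∈ s := (Finset.mem_insert.1 hl).resolve_left hlm
          exact InS.other (h4 l hls fun h => hns (InS.other h hlm.symm φ)) hlm.symm φ

omit H [Fintype F] in
lemma not_scalar_of_Nr {m : Fin t} {p : S.Pr} {X : Matrix (Fin t → Fin k) (Fin t → Fin k) F}
    (hp : InS m p.Nr X) (hsc : InS m (Submodule.span F {(1 : Matrix (Fin k) (Fin k) F)}) X) : X = 0 := by
  refine eq_zero_of_comp m fun r r' => ?_
  obtain ⟨w, hw, hwe⟩ := hp r r'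
  obtain ⟨c, hc⟩ := Submodule.mem_span_singleton.1 (hsc r r')
  have h0 : c = 0 := by
    have e1 := congrArg (fun T => S.bb (T *ᵥ p.e) p.f) (hc.trans hwe)
    simpa [Matrix.smul_mulVec, S.bb_smul_left, S.bb_zero_left, p.h1, N_mulVec, p.he, hw.1] using e1
  rw [← hc, h0, zero_smul]

/-- Sandwiches in the slots are killed without roots. -/
theorem lv_eq_zero (hadm : S.Adm) (hno : S.NoRoot M) :
    ∀ (q : Fin t → S.Pr) (A : Finset (Fin t)) (hA : A.Nonempty), ∀ X ∈ lv M q hA, X = 0 := by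
  classical
  intro q A
  induction hn : t - A.card using Nat.strong_induction_on generalizing q A with
  | _ d ih =>
  intro hA X hX
  have IH : ∀ (q' : Fin t → S.Pr) (A' : Finset (Fin t)) (hA' : A'.Nonempty), A.card < A'.card →
      ∀ Y ∈ lv M q' hA', Y = 0 := fun q' A' hA' hlt => by
    have hle : A'.card ≤ t := by simpa using A'.card_le_univ
    exact ih (t - A'.card) (by omega) q' A' rfl hA'
  have hso : ∀ m ∈ Aᶜ, ∀ Y ∈ lv M q hA, InS m S.so1 Y := by
    intro m hm Y hY
    rw [Finset.mem_compl] at hm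
    refine fun r r' => mem_so1_of_singular hadm.1 fun e he => ?_
    rcases eq_or_ne e 0 with rfl | he0
    · rw [S.bb_zero_right]
    obtain ⟨p, rfl⟩ := exists_pr_of he he0
    obtain ⟨c, hc, hcm⟩ := (lv_inv H hm).Pi_mem hadm.1 hY p
    have hmem : c • L m (S.Pi p.e) Y ∈ lv M (Function.update q m p) (A := insert m A) (Finset.insert_nonempty m A) := by
      refine ⟨fun l hl => ?_, hcm.2⟩
      rcases eq_or_ne l m with rfl | hlm
      · rw [Function.update_self]
        refine InS.smul (fun r r' => ?_) _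
        rw [comp_L, S.Pi_apply]
        exact Submodule.smul_mem _ _ (Submodule.mem_span_singleton_self _)
      · rw [Function.update_of_ne hlm]
        exact hcm.1 l ((Finset.mem_insert.1 hl).resolve_left hlm)
    have h0 := IH _ _ _ (by rw [Finset.card_insert_of_notMem hm]; omega) _ hmem
    rw [smul_eq_zero, or_iff_right hc] at h0
    have := comp_ker h0 r r'
    rw [S.Pi_apply, smul_eq_zero] at this
    refine this.resolve_right fun hP => p.e_ne ?_
    have := congrArg (fun T => T *ᵥ p.f) hP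
    simpa [P_mulVec, p.h1'] using this
  by_contra hX0
  obtain ⟨X', q', h1, h2, h3, h4, -⟩ := slots_reduce (U := Aᶜ) (fun m hm => lv_inv H (Finset.mem_compl.1 hm))
    hso q hX hX0 Aᶜ subset_rfl
  have hqA : ∀ l ∈ A, q' l = q l := fun l hl => h3 l (by simp [hl])
  have hX' : X' ∈ lv M q' hA := lv_congr H hqA h1
  set D := Aᶜ.filter fun l => ¬ InS l (Submodule.span F {(1 : Matrix (Fin k) (Fin k) F)}) X'
  have hDA : Disjoint A D := Finset.disjoint_left.2 fun l hl hlD => by
    simp [D, hl] at hlD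
  let B0 : Fin t → Matrix (Fin k) (Fin k) F := fun l => if l ∈ A then S.P (q' l).e else 1
  have hsh : Shape D q' B0 X' := by
    refine ⟨fun l hl => ?_, fun l hl => ?_⟩
    · obtain ⟨hl1, hl2⟩ := Finset.mem_filter.1 hl
      exact h4 l hl1 hl2
    · by_cases hlA : l ∈ A
      · simp only [B0, if_pos hlA]; exact hX'.1 l hlA
      · simp only [B0, if_neg hlA]
        by_contra hns
        exact hl (Finset.mem_filter.2 ⟨by simpa using hlA, hns⟩)
  have hodd : Odd D.card := by
    refine odd_card (V := fun l => if l ∈ D then (q' l).Nr else Submodule.span F {B0 l}) (fun l => ?_)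
      (fun l hl => by simp only [if_pos hl]; exact (q' l).Nr_le) (fun l hl Y hY => ?_)
      (H.skew_of_sq (lv_sq H hX') hX'.2) h2
    · by_cases hl : l ∈ D
      · simp only [if_pos hl]; exact hsh.1 l hl
      · simp only [if_neg hl]; exact hsh.2 l hl
    · simp only [if_neg hl] at hY
      obtain ⟨c, rfl⟩ := Submodule.mem_span_singleton.1 hY
      rw [S.adj_smul]
      by_cases hlA : l ∈ A
      · simp only [B0, if_pos hlA, S.adj_P]
      · simp only [B0, if_neg hlA, S.adj_one]
  have hnA : ∀ l ∈ D, l ∉ A := fun l hl hlA => Finset.disjoint_left.1 hDA hlA hl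
  obtain ⟨a, ha, hB⟩ := pure (Z := lv M q' hA) (fun hk => ⟨hadm.2 hk, hodd⟩) (Finset.card_pos.1 hodd.pos)
    (fun l hl => (lv_inv H (hnA l hl)).clO (fun Y hY => hso l (Finset.mem_compl.2 (hnA l hl)) Y
      (lv_congr H (fun m hm => (hqA m hm).symm) hY)) (q' l))
    (fun _ n hn l hl hnl a b _ _ hab hQ Y hY => lv_pair H (hnA n hn) (hnA l hl) hnl hab hQ hY) hX' h2 hsh
  have hBstd : (fun l => if l ∈ D then S.N (q' l).e (a l) else B0 l) = stdB q' A D a := funext fun l => by
    by_cases hl : l ∈ A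
    · simp [stdB, B0, hl, Finset.disjoint_left.1 hDA hl]
    · simp [stdB, B0, hl]
  rw [hBstd] at hB
  have hex : MV M (ex F ((1 : F) • pmat (stdB q' A D a))) := by
    rw [one_smul, ex_sq_zero (lv_sq H hB)]
    exact hB.2
  by_cases h2D : 2 ≤ D.card
  · exact no_two H hadm.1 IH hDA h2D ha one_ne_zero hex
  obtain ⟨m, hm⟩ := Finset.card_eq_one.1 (by have := hodd.pos; omega : D.card = 1)
  have hmD : m ∈ D := hm ▸ Finset.mem_singleton_self m
  rw [hm] at hex hB
  by_cases hall : ∀ l, l ≠ m → l ∈ A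
  · have hz := hno q' m (S.N (q' m).e (a m)) (S.N_mem_so _ _) (by
      have e : Function.update (fun l => S.P (q' l).e) m (S.N (q' m).e (a m)) = stdB q' A {m} a :=
        funext fun l => by
          rcases eq_or_ne l m with rfl | hlm
          · simp [stdB, hnA l hmD]
          · simp [stdB, Function.update_of_ne hlm, hall l hlm]
      rw [e]
      exact hB.2)
    exact Pr.N_ne_zero (ha m hmD).1 (fun e => (ha m hmD).2 (by rw [e, S.Q_zero])) hz
  push Not at hall
  obtain ⟨r, hrm, hrA⟩ := hall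
  obtain ⟨i, hi⟩ := hA
  exact no_one H hadm.1 IH hi (hnA m hmD) hrA hrm.symm (ha m hmD) one_ne_zero hex

omit H in
/-- The radical shape of a singular vector. -/
lemma shp_of_InS {i : Fin t} {p : S.Pr} {X : Matrix (Fin t → Fin k) (Fin t → Fin k) F} (h : InS i p.Nr X) :
    Shp (slot i (S.P p.e)) X := by
  have e : L i (LinearMap.mulLeft F (S.P p.e) ∘ₗ LinearMap.mulLeft F (S.P p.f) +
      LinearMap.mulRight F (S.P p.e) ∘ₗ LinearMap.mulRight F (S.P p.f)) X = X := by
    rw [L_eq_smul h (c := 1), one_smul]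
    rintro _ ⟨w, hw, rfl⟩
    simp only [LinearMap.add_apply, LinearMap.comp_apply, LinearMap.mulLeft_apply, LinearMap.mulRight_apply,
      one_smul, P, N, mul_sub, sub_mul, mul_neg, neg_mul, S.op_mul, mul_smul_comm, smul_mul_assoc, smul_zero, S.bb_comm w p.e,
      S.bb_comm w p.f, hw.1, hw.2, p.he, p.h1, p.h1', zero_smul, sub_zero, zero_sub, smul_neg]
    abel
  refine ⟨⟨slot i (S.P p.f) * X, X * slot i (S.P p.f), ?_⟩, ?_, ?_⟩
  · conv_lhs => rw [← e]
    rw [L_add, LinearMap.add_apply, ← L_comp, ← L_comp, ← slot_mul_eq_L, ← slot_mul_eq_L, ← mul_slot_eq_L,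
      ← mul_slot_eq_L]
  · rw [slot_mul_eq_L, L_eq_zero h]
    rintro _ ⟨w, hw, rfl⟩
    rw [LinearMap.mulLeft_apply, S.P_mul_N p.he hw.1]
  · rw [mul_slot_eq_L, L_eq_zero h]
    rintro _ ⟨w, hw, rfl⟩
    rw [LinearMap.mulRight_apply, S.N_mul_P p.he hw.1]

omit H in
/-- A skew or scalar slot of radical shape. -/
lemma InS_Nr_of_shp {i : Fin t} {p : S.Pr} {X : Matrix (Fin t → Fin k) (Fin t → Fin k) F}
    (h : Shp (slot i (S.P p.e)) X) (hso : InS i S.so1 X) : InS i p.Nr X := by
  intro r r'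
  obtain ⟨Y, hY, s, hs, hsum⟩ := Submodule.mem_sup.1 (hso r r')
  obtain ⟨c, rfl⟩ := Submodule.mem_span_singleton.1 hs
  obtain ⟨⟨a, b, hab⟩, h1, h2⟩ := h
  have e1 : S.P p.e * (Y + c • 1) = 0 := by
    have := congrArg (comp i r r') h1
    rwa [slot_mul_eq_L, comp_L, map_zero, LinearMap.mulLeft_apply, ← hsum] at this
  have e2 : (Y + c • 1) * S.P p.e = 0 := by
    have := congrArg (comp i r r') h2
    rwa [mul_slot_eq_L, comp_L, map_zero, LinearMap.mulRight_apply, ← hsum] at this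
  have e3 : Y + c • 1 = S.P p.e * comp i r r' a + comp i r r' b * S.P p.e := by
    rw [hsum, hab, map_add, slot_mul_eq_L, mul_slot_eq_L, comp_L, comp_L]
    rfl
  have hYe : Y *ᵥ p.e = (-c) • p.e := by
    have := congrArg (fun T => T *ᵥ p.f) e2
    simp only [← Matrix.mulVec_mulVec, P_mulVec, p.h1', one_smul, Matrix.add_mulVec, Matrix.smul_mulVec,
      Matrix.one_mulVec, Matrix.zero_mulVec] at this
    rw [neg_smul, eq_neg_iff_add_eq_zero]
    exact this
  have hc : c = 0 := by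
    have := congrArg (fun T => S.bb (T *ᵥ p.f) p.f) e1
    simp only [← Matrix.mulVec_mulVec, P_mulVec, Matrix.add_mulVec, Matrix.smul_mulVec, Matrix.one_mulVec,
      Matrix.zero_mulVec, S.bb_zero_left, S.bb_smul_left, S.bb_add_left, S.bb_skew hY p.f p.e, hYe,
      S.bb_smul_right, p.h1, p.h1', mul_one] at this
    exact (mul_eq_zero.1 (by linear_combination this : (2 : F) * c = 0)).resolve_left S.two
  rw [hc, zero_smul, add_zero] at e3 hsum
  rw [← hsum]
  refine p.mem_Nr hY (by rw [hYe, hc, neg_zero, zero_smul]) fun v hv => ?_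
  have hmem : Y *ᵥ v ∈ Submodule.span F {p.e} := by
    rw [e3, Matrix.add_mulVec, ← Matrix.mulVec_mulVec, ← Matrix.mulVec_mulVec, P_mulVec, P_mulVec,
      S.bb_comm v p.e, hv.1, zero_smul, Matrix.mulVec_zero, add_zero]
    exact Submodule.smul_mem _ _ (Submodule.mem_span_singleton_self _)
  obtain ⟨x, hx⟩ := Submodule.mem_span_singleton.1 hmem
  rw [← hx, S.bb_smul_left, p.h1, mul_one]

/-- The radical of a slot in `M`. -/
def rad (hadm : S.Adm) (hno : S.NoRoot M) (i : Fin t) (p : S.Pr) :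
    AddSubgroup (Matrix (Fin t → Fin k) (Fin t → Fin k) F) where
  carrier := {n | Shp (slot i (S.P p.e)) n ∧ S.adjB n = -n ∧ MV M (ex F n)}
  zero_mem' := ⟨⟨⟨0, 0, by simp⟩, mul_zero _, zero_mul _⟩, by simp, by rw [ex_zero]; exact MV.one⟩
  add_mem' := by
    rintro a b ⟨ha, sa, ma⟩ ⟨hb, sb, mb⟩
    have hr : slot (F := F) i (S.P p.e) * slot i (S.P p.e) = 0 := by rw [← map_mul, S.P_mul_P p.he, map_zero]
    refine ⟨ha.add hb, by rw [map_add, sa, sb, neg_add], ?_⟩
    have htrip : ∀ x y z, x ∈ ({a, b} : Set _) → y ∈ ({a, b} : Set _) → z ∈ ({a, b} : Set _) → x * y * z = 0 := by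
      have hS : ∀ {x}, x ∈ ({a, b} : Set _) → Shp (slot i (S.P p.e)) x := by
        rintro x (rfl | rfl)
        exacts [ha, hb]
      exact fun x y z hx hy hz => (hS hx).triple hr (hS hy) (hS hz)
    have hE := ((ma.mul mb).mul (H.mv_neg (r := 0) (ha.triple hr ha ha) ma)).mul
      (H.mv_neg (r := 0) (hb.triple hr hb hb) mb)
    rw [ex_comm S.two htrip] at hE
    obtain ⟨x, hx⟩ := ha.mul hr hb
    obtain ⟨y, hy⟩ := hb.mul hr ha
    have h0 : a * b - b * a = 0 := by
      refine lv_eq_zero H hadm hno (fun _ => p) {i} (Finset.singleton_nonempty i) _ ⟨fun l hl => ?_, hE⟩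
      obtain rfl := Finset.mem_singleton.1 hl
      rw [hx, hy, ← sub_mul, ← mul_sub, slot_sandwich]
      intro r r'
      rw [comp_L, ← Sym.Pi, S.Pi_apply]
      exact Submodule.smul_mem _ _ (Submodule.mem_span_singleton_self _)
    rw [← ex_mul_of_comm hr S.two ha hb (sub_eq_zero.1 h0)]
    exact ma.mul mb
  neg_mem' := by
    rintro a ⟨ha, sa, ma⟩
    exact ⟨ha.neg, by rw [map_neg, sa],
      H.mv_neg (r := 0) (ha.triple (by rw [← map_mul, S.P_mul_P p.he, map_zero]) ha ha) ma⟩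

variable (hadm : S.Adm) (hno : S.NoRoot M)
include hadm hno

lemma rad_inv {i : Fin t} {p : S.Pr} {m : Fin t} (hm : m ≠ i) : S.Inv (rad H hadm hno i p) m := by
  intro e w he hw X hX
  refine ⟨?_, by rw [adjB_L, hX.2.1, map_neg], H.cj_ex m he hw hX.2.2⟩
  rw [Ad, ← slot_sandwich]
  exact hX.1.conj (slot_comm hm.symm _ _) (slot_comm hm.symm _ _)

lemma rad_so {i : Fin t} {p : S.Pr} {m : Fin t} (hm : m ≠ i)
    {X : Matrix (Fin t → Fin k) (Fin t → Fin k) F} (hX : X ∈ rad H hadm hno i p) : InS m S.so1 X := by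
  refine fun r r' => mem_so1_of_singular hadm.1 fun e he => ?_
  rcases eq_or_ne e 0 with rfl | he0
  · rw [S.bb_zero_right]
  obtain ⟨g, rfl⟩ := exists_pr_of he he0
  obtain ⟨c, hc, hcm⟩ := (rad_inv H hadm hno hm).Pi_mem hadm.1 hX g
  have hs : InS m (Submodule.span F {S.P g.e}) (c • L m (S.Pi g.e) X) := InS.smul (fun r r' => by
    rw [comp_L, S.Pi_apply]
    exact Submodule.smul_mem _ _ (Submodule.mem_span_singleton_self _)) _
  have hm' := hcm.2.2
  rw [ex_sq_zero (mul_eq_zero_of_P g hs hs)] at hm'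
  have h0 := lv_eq_zero H hadm hno (fun _ => g) {m} (Finset.singleton_nonempty m) _
    ⟨fun l hl => by obtain rfl := Finset.mem_singleton.1 hl; exact hs, hm'⟩
  rw [smul_eq_zero, or_iff_right hc] at h0
  have := comp_ker h0 r r'
  rw [S.Pi_apply, smul_eq_zero] at this
  refine this.resolve_right fun hP => g.e_ne ?_
  have := congrArg (fun T => T *ᵥ g.f) hP
  simpa [P_mulVec, g.h1'] using this

/-- The radical consists of slot elements. -/
theorem rad_slot {i : Fin t} {p : S.Pr} {n : Matrix (Fin t → Fin k) (Fin t → Fin k) F}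
    (hn : n ∈ rad H hadm hno i p) : ∃ w, p.InW w ∧ n = slot i (S.N p.e w) := by
  classical
  by_cases hsc : ∀ l, l ≠ i → InS l (Submodule.span F {(1 : Matrix (Fin k) (Fin k) F)}) n
  · obtain ⟨Y, rfl⟩ := slot_of_scalar hsc
    have hsk : S.adj Y = -Y := slot_injective i (by rw [← S.adjB_slot, hn.2.1, map_neg])
    have hY : InS i p.Nr (slot i Y) := InS_Nr_of_shp hn.1 fun r r' => by
      rw [slot_eq, comp_pmat, Function.update_self]
      exact Submodule.smul_mem _ _ (Submodule.mem_sup_left hsk)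
    have h1 := hY (fun _ => ⟨0, by have := S.three_le; omega⟩) (fun _ => ⟨0, by have := S.three_le; omega⟩)
    rw [slot_eq, comp_pmat, Function.update_self, Finset.prod_eq_one (fun l hl => by
      rw [Function.update_of_ne (Finset.ne_of_mem_erase hl), Pi.one_apply, Matrix.one_apply_eq]), one_smul] at h1
    obtain ⟨w, hw, rfl⟩ := h1
    exact ⟨w, hw, rfl⟩
  exfalso
  push Not at hsc
  obtain ⟨m, hmi, hm⟩ := hsc
  rcases (rad_inv H hadm hno hmi).step (fun Y hY => rad_so H hadm hno hmi hY) hn with h | ⟨φ, pm, h1, h2, h3⟩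
  · exact hm h
  set U := ({i, m} : Finset (Fin t))ᶜ
  have hU : ∀ l ∈ U, l ≠ i := fun l hl e => by simp [U, e] at hl
  obtain ⟨X, q, g1, g2, g3, g4, g5⟩ := slots_reduce (U := U) (fun l hl => rad_inv H hadm hno (hU l hl))
    (fun l hl Y hY => rad_so H hadm hno (hU l hl) hY) (Function.update (fun _ => p) m pm) h1 h2 U subset_rfl
  have hmU : m ∉ U := by simp [U]
  have hiU : i ∉ U := by simp [U]
  have hqm : q m = pm := by rw [g3 m hmU, Function.update_self]
  have hqi : q i = p := by rw [g3 i hiU, Function.update_of_ne hmi.symm]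
  have hXm : InS m (q m).Nr X := by rw [hqm]; exact g5 m hmU _ h3
  have hXm' : X ∈ rad H hadm hno m (q m) := ⟨shp_of_InS hXm, g1.2.1, g1.2.2⟩
  have hXi : InS i (q i).Nr X := by
    rw [hqi]; exact InS_Nr_of_shp g1.1 (rad_so H hadm hno hmi.symm hXm')
  set D := insert i (insert m (U.filter fun l => ¬ InS l (Submodule.span F {(1 : Matrix (Fin k) (Fin k) F)}) X))
  have hsh : Shape D q (fun _ => 1) X := by
    refine ⟨fun l hl => ?_, fun l hl => ?_⟩
    · rcases Finset.mem_insert.1 hl with rfl | hl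
      · exact hXi
      rcases Finset.mem_insert.1 hl with rfl | hl
      · exact hXm
      obtain ⟨e1, e2⟩ := Finset.mem_filter.1 hl
      exact g4 l e1 e2
    · by_contra hns
      refine hl (Finset.mem_insert_of_mem (Finset.mem_insert_of_mem (Finset.mem_filter.2 ⟨?_, hns⟩)))
      simp only [D, Finset.mem_insert, not_or] at hl
      simp [U, hl.1, hl.2.1]
  have hodd : Odd D.card := by
    refine odd_card (V := fun l => if l ∈ D then (q l).Nr else Submodule.span F {1}) (fun l => ?_)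
      (fun l hl => by simp only [if_pos hl]; exact (q l).Nr_le) (fun l hl Y hY => ?_) g1.2.1 g2
    · by_cases hl : l ∈ D
      · simp only [if_pos hl]; exact hsh.1 l hl
      · simp only [if_neg hl]; exact hsh.2 l hl
    · simp only [if_neg hl] at hY
      obtain ⟨c, rfl⟩ := Submodule.mem_span_singleton.1 hY
      rw [S.adj_smul, S.adj_one]
  have hiD : i ∈ D := Finset.mem_insert_self i _
  have hmD : m ∈ D := Finset.mem_insert_of_mem (Finset.mem_insert_self m _)
  -- the elements in radicals in all slots of `D`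
  let Z : AddSubgroup (Matrix (Fin t → Fin k) (Fin t → Fin k) F) :=
    { carrier := {Y | Y ∈ rad H hadm hno i (q i) ∧ ∀ l ∈ D, InS l (q l).Nr Y}
      zero_mem' := ⟨AddSubgroup.zero_mem _, fun l _ => InS.zero⟩
      add_mem' := fun hx hy => ⟨AddSubgroup.add_mem _ hx.1 hy.1, fun l hl => (hx.2 l hl).add (hy.2 l hl)⟩
      neg_mem' := fun {x} hx => ⟨AddSubgroup.neg_mem _ hx.1, fun l hl => by simpa using (hx.2 l hl).smul (-1)⟩ }
  have hto : ∀ {Y}, Y ∈ Z → ∀ l ∈ D, Y ∈ rad H hadm hno l (q l) := fun {Y} hY l hl =>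
    ⟨shp_of_InS (hY.2 l hl), hY.1.2.1, hY.1.2.2⟩
  have hcl : ∀ l ∈ D, ClO Z l (q l) := by
    intro l hl c d hc hd Y hY hYl
    obtain ⟨m', hm', hne⟩ : ∃ m' ∈ D, l ≠ m' := by
      by_cases h : l = i
      · exact ⟨m, hmD, h ▸ hmi.symm⟩
      · exact ⟨i, hiD, h⟩
    have := (rad_inv H hadm hno hne).clO (fun W hW => rad_so H hadm hno hne hW) (q l) c d hc hd Y (hto hY m' hm') hYl
    have hall : ∀ j ∈ D, InS j (q j).Nr (L l (br (S.N (q l).e d) ∘ₗ br (S.N (q l).f c)) Y) := fun j hj => by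
      rcases eq_or_ne j l with rfl | hjl
      · exact InS.map hYl (opO_mem (q j) hc hd)
      · exact InS.other (hY.2 j hj) hjl.symm _
    exact ⟨⟨shp_of_InS (hall i hiD), this.2.1, this.2.2⟩, hall⟩
  have hpair : k = 4 → ∀ n' ∈ D, ∀ l ∈ D, n' ≠ l → ∀ a b, (q n').InW a → (q l).InW b → S.Q a = S.Q b →
      S.Q a ≠ 0 → ∀ Y ∈ Z, S.rr n' l a b Y ∈ Z := by
    intro _ n' hn' l hl hne a b ha hb hab hQ Y hY
    have hQb : S.Q b ≠ 0 := hab ▸ hQ
    have hmap : ∀ (j : Fin t) (x : Fin k → F), (q j).InW x →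
        ∀ W ∈ (q j).Nr, cjm (S.rf x) (S.rf x) W ∈ (q j).Nr := by
      rintro j x hx _ ⟨w, hw, rfl⟩
      refine ⟨S.rf x *ᵥ w, ?_, ?_⟩
      · rw [S.rf_mulVec, sub_eq_add_neg, ← neg_smul]; exact hw.add (hx.smul _)
      · rw [cjm_apply, S.conj_N (S.adj_rf _), S.rf_mulVec _ (q j).e, hx.1, mul_zero, zero_smul, sub_zero]
    have hall : ∀ j ∈ D, InS j (q j).Nr (S.rr n' l a b Y) := fun j hj => by
      rw [rr, LinearMap.comp_apply]
      rcases eq_or_ne j n' with rfl | hjn
      · exact InS.map (InS.other (hY.2 j hj) hne.symm _) (hmap j a ha)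
      rcases eq_or_ne j l with rfl | hjl
      · exact InS.other (InS.map (hY.2 j hj) (hmap j b hb)) hjn.symm _
      · exact InS.other (InS.other (hY.2 j hj) hjl.symm _) hjn.symm _
    have hu : slot n' (S.rf a) * slot l (S.rf b) * (slot l (S.rf b) * slot n' (S.rf a)) =
        (1 : Matrix (Fin t → Fin k) (Fin t → Fin k) F) := by
      rw [mul_assoc, ← mul_assoc (slot l (S.rf b)), ← map_mul, S.rf_sq hQb, map_one, one_mul, ← map_mul,
        S.rf_sq hQ, map_one]
    have hrr : S.rr n' l a b Y = slot n' (S.rf a) * slot l (S.rf b) * Y * (slot l (S.rf b) * slot n' (S.rf a)) := by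
      rw [rr, LinearMap.comp_apply, ← slot_sandwich, ← slot_sandwich]
      simp only [mul_assoc]
    refine ⟨⟨shp_of_InS (hall i hiD), ?_, ?_⟩, hall⟩
    · rw [hrr, S.adjB_mul, S.adjB_mul, S.adjB_mul, S.adjB_mul, S.adjB_slot, S.adjB_slot, S.adj_rf, S.adj_rf,
        hY.1.2.1]
      simp only [mul_neg, neg_mul, mul_assoc]
    · rw [hrr, ← ex_cj hu (mul_eq_one_comm.1 hu)]
      exact ((H.rf_pair hne hab hQ).mul hY.1.2.2).mul (H.rf_pair hne.symm hab.symm hQb)
  obtain ⟨a, ha, hB⟩ := pure (Z := Z) (B0 := fun _ => 1) (fun hk => ⟨hadm.2 hk, hodd⟩) ⟨i, hiD⟩ hcl hpair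
    ⟨⟨shp_of_InS hXi, g1.2.1, g1.2.2⟩, hsh.1⟩ g2 hsh
  refine no_two H (A := ∅) (D := D) (q := q) (a := a) (c := 1) hadm.1
    (fun q' A' hA' _ => lv_eq_zero H hadm hno q' A' hA') (Finset.disjoint_empty_left D)
    (Finset.one_lt_card.2 ⟨i, hiD, m, hmD, hmi.symm⟩) ha one_ne_zero ?_
  have e : (fun l => if l ∈ D then S.N (q l).e (a l) else (1 : Matrix (Fin k) (Fin k) F)) = stdB q ∅ D a :=
    funext fun l => by simp [stdB]
  rw [e] at hB
  rw [one_smul]
  exact hB.1.2.2

end Sym

end CfsgLib.ClassicalMax.OWr
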