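/-
Elements centralising the radical of a slot, and cosets fixed by the Siegel elements of all slots.
-/
import Cfsg.Agent.Lib.ClassicalMax.OrthWreath.Rad
import Cfsg.Agent.Lib.ClassicalMax.OrthWreath.Fix
import Cfsg.Agent.Lib.ClassicalMax.TWreath.Trace
set_option autoImplicit false
set_option linter.unusedSectionVars false
set_option linter.unusedVariables false
set_option linter.unusedSimpArgs false

namespace CfsgLib.ClassicalMax.OWr

open Matrix Cfsg.Geo
open CfsgLib.ClassicalMax.TWreath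

variable {F : Type*} [Field F] {k t : ℕ}

lemma mem_span_at {i : Fin t} {V : Submodule F (Matrix (Fin k) (Fin k) F)}
    {X : Matrix (Fin t → Fin k) (Fin t → Fin k) F} (h : InS i V X) :
    X ∈ Submodule.span F (pmat '' {A : Fin t → Matrix (Fin k) (Fin k) F | A i ∈ V}) := by
  classical
  refine Submodule.span_mono ?_ (mem_span_pmat (V := fun l => if l = i then V else ⊤) fun l => ?_)
  · rintro _ ⟨A, hA, rfl⟩
    have := hA i
    simp only [if_true] at this
    exact ⟨A, this, rfl⟩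
  · by_cases hl : l = i
    · subst hl; simp only [if_true]; exact h
    · simp only [if_neg hl]; exact fun a b => Submodule.mem_top

lemma InS.mul {i : Fin t} {V W U : Submodule F (Matrix (Fin k) (Fin k) F)}
    {X Y : Matrix (Fin t → Fin k) (Fin t → Fin k) F} (hX : InS i V X) (hY : InS i W Y)
    (h : ∀ A ∈ V, ∀ B ∈ W, A * B ∈ U) : InS i U (X * Y) := by
  refine Submodule.span_induction (p := fun X _ => InS i U (X * Y)) ?_ ?_ (fun A B _ _ hA hB => ?_)
    (fun c A _ hA => ?_) (mem_span_at hX)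
  · rintro _ ⟨A, hA, rfl⟩
    refine Submodule.span_induction (p := fun Y _ => InS i U (TWreath.pmat A * Y)) ?_ ?_ (fun B C _ _ hB hC => ?_)
      (fun c B _ hB => ?_) (mem_span_at hY)
    · rintro _ ⟨B, hB, rfl⟩
      rw [TWreath.pmat_mul]
      exact InS.pmat (h _ hA _ hB)
    · rw [mul_zero]; exact InS.zero
    · rw [mul_add]; exact hB.add hC
    · rw [mul_smul_comm]; exact hB.smul c
  · rw [zero_mul]; exact InS.zero
  · rw [add_mul]; exact hA.add hB
  · rw [smul_mul_assoc]; exact hA.smul c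

lemma ptr_comm {i : Fin t} {V : Submodule F (Matrix (Fin k) (Fin k) F)}
    {X Y : Matrix (Fin t → Fin k) (Fin t → Fin k) F} (hX : InS i V X) (hY : InS i V Y)
    (h : ∀ A ∈ V, ∀ B ∈ V, A * B = B * A) : ptr i (X * Y) = ptr i (Y * X) := by
  refine Submodule.span_induction (p := fun X _ => ptr i (X * Y) = ptr i (Y * X)) ?_ ?_
    (fun A B _ _ hA hB => ?_) (fun c A _ hA => ?_) (mem_span_at hX)
  · rintro _ ⟨A, hA, rfl⟩
    refine Submodule.span_induction (p := fun Y _ => ptr i (pmat A * Y) = ptr i (Y * pmat A)) ?_ ?_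
      (fun B C _ _ hB hC => ?_) (fun c B _ hB => ?_) (mem_span_at hY)
    · rintro _ ⟨B, hB, rfl⟩
      rw [pmat_mul, pmat_mul, ptr_pmat, ptr_pmat, h _ hA _ hB]
      congr 1
      exact Finset.prod_congr rfl fun l _ => Matrix.trace_mul_comm _ _
    · simp
    · rw [mul_add, add_mul, map_add, map_add, hB, hC]
    · rw [mul_smul_comm, smul_mul_assoc, map_smul, map_smul, hB]
  · simp
  · rw [add_mul, mul_add, map_add, map_add, hA, hB]
  · rw [smul_mul_assoc, mul_smul_comm, map_smul, map_smul, hA]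

lemma shp_units {A : Type*} [Ring A] [Algebra F A] {r n u v : A} (h : Shp r n) (hvu : v * u = 1) :
    Shp (u * r * v) (u * n * v) := by
  obtain ⟨⟨a, b, hab⟩, h1, h2⟩ := h
  have hv : ∀ y, v * (u * y) = y := fun y => by rw [← mul_assoc, hvu, one_mul]
  refine ⟨⟨u * a * v, u * b * v, ?_⟩, ?_, ?_⟩
  · rw [hab]; simp only [mul_add, add_mul, mul_assoc, hv]
  · simp only [mul_assoc, hv]
    rw [← mul_assoc r n, h1, zero_mul, mul_zero]
  · simp only [mul_assoc, hv]
    rw [← mul_assoc n r, h2, zero_mul, mul_zero]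

lemma shp_smul_left {A : Type*} [Ring A] [Algebra F A] {r n : A} {c : F} (hc : c ≠ 0) (h : Shp (c • r) n) :
    Shp r n := by
  obtain ⟨⟨a, b, hab⟩, h1, h2⟩ := h
  refine ⟨⟨c • a, c • b, by rw [hab, smul_mul_assoc, mul_smul_comm, mul_smul_comm, smul_mul_assoc]⟩, ?_, ?_⟩
  · rw [smul_mul_assoc, smul_eq_zero] at h1; exact h1.resolve_left hc
  · rw [mul_smul_comm, smul_eq_zero] at h2; exact h2.resolve_left hc

namespace Sym

variable {S : Sym F k}

/-! ### The centraliser of the radical -/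

/-- The centraliser of the radical. -/
def Pr.Cen (p : S.Pr) : Submodule F (Matrix (Fin k) (Fin k) F) where
  carrier := {Y | ∀ w, p.InW w → Y * S.N p.e w = S.N p.e w * Y}
  zero_mem' := fun w _ => by rw [zero_mul, mul_zero]
  add_mem' := fun {a b} ha hb w hw => by rw [add_mul, mul_add, ha w hw, hb w hw]
  smul_mem' := fun c a ha w hw => by rw [smul_mul_assoc, mul_smul_comm, ha w hw]

/-- The nilpotent part of the centraliser. -/
def Pr.Rd (p : S.Pr) : Submodule F (Matrix (Fin k) (Fin k) F) := p.Nr ⊔ Submodule.span F {S.P p.e}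

variable [Fintype F]

lemma Pr.mem_Cen_iff (p : S.Pr) {Y : Matrix (Fin k) (Fin k) F} (hY : Y ∈ p.Cen) :
    Y = S.bb (Y *ᵥ p.f) p.e • (1 : Matrix (Fin k) (Fin k) F) + S.bb (Y *ᵥ p.f) p.f • S.P p.e +
      S.N p.e (p.pr (Y *ᵥ p.f)) := by
  set μ := S.bb (Y *ᵥ p.f) p.e with hμ
  set r := S.bb (Y *ᵥ p.f) p.f with hr
  set y := p.pr (Y *ᵥ p.f) with hy
  have hyW : p.InW y := p.pr_mem _
  have hw : ∀ w, p.InW w → Y *ᵥ w = μ • w - S.bb y w • p.e := by
    intro w hw
    have h := congrArg (fun Z => Z *ᵥ p.f) (hY w hw)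
    simp only [← Matrix.mulVec_mulVec, N_mulVec, p.h1', hw.2, one_smul, zero_smul, sub_zero] at h
    rw [h]
    congr 2
    rw [hy, Pr.pr]
    simp [S.bb_sub_left, S.bb_smul_left, hw.1, hw.2]
  have he : Y *ᵥ p.e = μ • p.e := by
    obtain ⟨w, hwW, hQ⟩ := p.exists_aniso
    have h := congrArg (fun Z => Z *ᵥ w) (hY w hwW)
    simp only [← Matrix.mulVec_mulVec, N_mulVec, S.bb_comm w p.e, hwW.1, zero_smul, zero_sub, Matrix.mulVec_neg,
      Matrix.mulVec_smul] at h
    rw [hw w hwW] at h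
    simp only [S.bb_sub_left, S.bb_smul_left, S.bb_comm w p.e, hwW.1, p.he, mul_zero, sub_zero, zero_smul,
      zero_sub, hwW.1, S.bb_comm p.e w, neg_inj] at h
    have h0 : S.bb w w ≠ 0 := by rw [S.bb_self]; exact mul_ne_zero S.two hQ
    rw [mul_comm, mul_smul] at h
    exact smul_right_injective _ h0 h
  refine Matrix.ext_of_mulVec_single fun j => ?_
  set x : Fin k → F := Pi.single j 1
  have hYf : Y *ᵥ p.f = y + r • p.e + μ • p.f := by rw [hy, hr, hμ]; exact p.eq_pr_add _
  conv_lhs => rw [p.eq_pr_add x, Matrix.mulVec_add, Matrix.mulVec_add, Matrix.mulVec_smul, Matrix.mulVec_smul,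
    hw _ (p.pr_mem x), he, hYf]
  rw [Matrix.add_mulVec, Matrix.add_mulVec, Matrix.smul_mulVec, Matrix.smul_mulVec, Matrix.one_mulVec, P_mulVec,
    N_mulVec]
  have e2 : S.bb y (p.pr x) = S.bb x y := by
    rw [Pr.pr, S.bb_sub_right, S.bb_sub_right, S.bb_smul_right, S.bb_smul_right, S.bb_comm y p.e, hyW.1,
      S.bb_comm y p.f, hyW.2, S.bb_comm y x]
    ring
  rw [e2]
  conv_rhs => arg 1; arg 1; rw [p.eq_pr_add x]
  module

lemma Pr.N_mem_Cen (p : S.Pr) {y : Fin k → F} (hy : p.InW y) : S.N p.e y ∈ p.Cen :=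
  fun w hw => S.N_mul_comm p.he hy.1 hw.1

lemma Pr.P_mem_Cen (p : S.Pr) : S.P p.e ∈ p.Cen := fun w hw => by
  rw [S.P_mul_N p.he hw.1, S.N_mul_P p.he hw.1]

lemma Pr.one_mem_Cen (p : S.Pr) : (1 : Matrix (Fin k) (Fin k) F) ∈ p.Cen := fun w hw => by
  rw [one_mul, mul_one]

lemma Pr.Rd_le (p : S.Pr) : p.Rd ≤ p.Cen := by
  refine sup_le ?_ ((Submodule.span_singleton_le_iff_mem _ _).2 p.P_mem_Cen)
  rintro _ ⟨w, hw, rfl⟩
  exact p.N_mem_Cen hw

lemma Pr.Cen_comm (p : S.Pr) {A B : Matrix (Fin k) (Fin k) F} (hA : A ∈ p.Cen) (hB : B ∈ p.Cen) :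
    A * B = B * A := by
  rw [p.mem_Cen_iff hB]
  simp only [mul_add, add_mul, mul_smul_comm, smul_mul_assoc, mul_one, one_mul, hA _ (p.pr_mem _)]
  congr 2
  rw [p.mem_Cen_iff hA]
  simp only [mul_add, add_mul, mul_smul_comm, smul_mul_assoc, mul_one, one_mul,
    S.P_mul_N p.he (p.pr_mem _).1, S.N_mul_P p.he (p.pr_mem _).1]

lemma Pr.Cen_mul_Rd (p : S.Pr) {A B : Matrix (Fin k) (Fin k) F} (hA : A ∈ p.Cen) (hB : B ∈ p.Rd) :
    A * B ∈ p.Rd := by
  have hP : S.P p.e ∈ p.Rd := Submodule.mem_sup_right (Submodule.mem_span_singleton_self _)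
  have hN : ∀ {y}, p.InW y → S.N p.e y ∈ p.Rd := fun hy => Submodule.mem_sup_left ⟨_, hy, rfl⟩
  obtain ⟨Y, ⟨w, hw, rfl⟩, Z, hZ, rfl⟩ := Submodule.mem_sup.1 hB
  obtain ⟨c, rfl⟩ := Submodule.mem_span_singleton.1 hZ
  rw [p.mem_Cen_iff hA]
  simp only [add_mul, mul_add, smul_mul_assoc, mul_smul_comm, one_mul, S.P_mul_P p.he,
    S.P_mul_N p.he hw.1, S.N_mul_P p.he (p.pr_mem _).1, S.N_mul_N p.he (p.pr_mem _).1 hw.1, smul_zero, add_zero]
  exact Submodule.add_mem _ (Submodule.add_mem _ (Submodule.smul_mem _ _ (hN hw))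
    (Submodule.smul_mem _ _ hP)) (Submodule.smul_mem _ _ (Submodule.smul_mem _ _ hP))

omit [Fintype F] in
lemma InS_Cen_of_comm {i : Fin t} {p : S.Pr} {X : Matrix (Fin t → Fin k) (Fin t → Fin k) F}
    (h : ∀ w, p.InW w → slot i (S.N p.e w) * X = X * slot i (S.N p.e w)) : InS i p.Cen X := by
  intro a b w hw
  have := congrArg (comp i a b) (h w hw)
  rw [slot_mul_eq_L, mul_slot_eq_L, comp_L, comp_L] at this
  exact this.symm

/-- The contribution of a fixed coset. -/
theorem proj_fixed {i : Fin t} {p : S.Pr} {w : Fin k → F} (hw : p.InW w) {g : GL (Fin t → Fin k) F}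
    (hg : ∀ y, p.InW y → slot i (S.N p.e y) * g.val = g.val * slot i (S.N p.e y))
    {B : Fin t → Matrix (Fin k) (Fin k) F} (hB : B i = 1) :
    g.val * proj ((g⁻¹).val * (slot i (S.N p.e w) * pmat B) * g.val) * (g⁻¹).val =
      proj (slot i (S.N p.e w) * pmat B) := by
  classical
  set N0 := S.N p.e w
  have hgi : ∀ y, p.InW y → slot i (S.N p.e y) * (g⁻¹).val = (g⁻¹).val * slot i (S.N p.e y) := fun y hy => by
    calc slot i (S.N p.e y) * (g⁻¹).val = (g⁻¹).val * (g.val * slot i (S.N p.e y)) * (g⁻¹).val := by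
          rw [← mul_assoc (g⁻¹).val, Units.inv_mul, one_mul]
      _ = _ := by rw [← hg y hy, mul_assoc, mul_assoc, Units.mul_inv, mul_one]
  have h1 := InS_Cen_of_comm hg
  have h2 := InS_Cen_of_comm hgi
  have hBc : InS i p.Cen (pmat B) := InS.pmat (by rw [hB]; exact p.one_mem_Cen)
  have htr : ∀ Y ∈ p.Cen, (N0 * Y).trace = 0 := by
    intro Y hY
    have htP : (S.P p.e).trace = 0 := by
      rw [P, op, Matrix.trace_vecMulVec, dotProduct_comm]; exact p.he
    have htN : N0.trace = 0 := by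
      show (S.op w p.e - S.op p.e w).trace = 0
      rw [Matrix.trace_sub, op, op, Matrix.trace_vecMulVec, Matrix.trace_vecMulVec, sub_eq_zero,
        dotProduct_comm, dotProduct_comm p.e]
      exact S.bb_comm _ _
    rw [p.mem_Cen_iff hY]
    simp only [mul_add, mul_smul_comm, mul_one, N0, S.N_mul_P p.he hw.1, S.N_mul_N p.he hw.1 (p.pr_mem _).1,
      Matrix.trace_add, Matrix.trace_smul, Matrix.trace_zero, htP, show (S.N p.e w).trace = 0 from htN, smul_zero,
      add_zero, smul_eq_mul, mul_zero]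
  have hproj : ∀ X, InS i p.Cen X → proj (slot i N0 * X) = slot i (N0 * ptr i X) := by
    intro X hX
    refine Submodule.span_induction (p := fun X _ => proj (slot i N0 * X) = slot i (N0 * ptr i X)) ?_ ?_
      (fun A C _ _ hA hC => ?_) (fun c A _ hA => ?_) (mem_span_at hX)
    · rintro _ ⟨A, hA, rfl⟩
      rw [slot_mul_pmat, proj_pmat, Finset.sum_eq_single i (fun j _ hj => ?_) (by simp), Function.update_self,
        ptr_pmat, mul_smul_comm, map_smul]
      · congr 1
        exact Finset.prod_congr rfl fun l hl => by rw [Function.update_of_ne (Finset.ne_of_mem_erase hl)]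
      · rw [Finset.prod_eq_zero (Finset.mem_erase.2 ⟨hj.symm, Finset.mem_univ i⟩)
          (by rw [Function.update_self]; exact htr _ hA), zero_smul]
    · simp
    · rw [mul_add, map_add, hA, hC, map_add, mul_add, map_add]
    · rw [mul_smul_comm, map_smul, hA, map_smul, mul_smul_comm, map_smul]
  have hmul : ∀ A ∈ p.Cen, ∀ B ∈ p.Cen, A * B ∈ p.Cen := fun A hA B hB w hw => by
    rw [mul_assoc, hB w hw, ← mul_assoc, hA w hw, mul_assoc]
  have e : (g⁻¹).val * (slot i N0 * pmat B) * g.val = slot i N0 * ((g⁻¹).val * pmat B * g.val) := by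
    simp only [← mul_assoc]
    rw [← hgi w hw]
  have etr : ptr i ((g⁻¹).val * pmat B * g.val) = ptr i (pmat B) := by
    rw [mul_assoc, ptr_comm h2 (hBc.mul h1 hmul) (fun A hA B hB => p.Cen_comm hA hB), mul_assoc, Units.mul_inv,
      mul_one]
  rw [e, hproj _ ((h2.mul hBc hmul).mul h1 hmul), hproj _ hBc, etr, ptr_pmat, hB, mul_smul_comm, mul_one, map_smul, mul_smul_comm, ← hg w hw, smul_mul_assoc, mul_assoc,
    Units.mul_inv, mul_one]

/-! ### Intertwining a radical -/

variable {M : Subgroup (GL (Fin t → Fin k) F)} (H : S.Over M)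
include H

lemma Over.ex_mem (i : Fin t) (p : S.Pr) {w : Fin k → F} (hw : p.InW w) :
    MV M (ex F (slot i (S.N p.e w))) := by
  have h := H.z_mem i p.he hw.1
  have e := zGL_val i p w hw 1
  simp only [one_smul, one_pow, mul_one] at e
  rw [ex, ← e]
  exact h

variable (hadm : S.Adm) (hno : S.NoRoot M)
include hadm hno

/-- A conjugate of one Siegel map determines the images of the whole radical. -/
theorem exists_intertwiner {g : GL (Fin t → Fin k) F} (hg : g ∈ M) {i j : Fin t} {p q : S.Pr} {x a : Fin k → F}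
    (hx : p.InW x) (hQ : S.Q x ≠ 0) (ha : q.InW a) (hQa : S.Q a ≠ 0)
    (h : g.val * slot i (S.N p.e x) * (g⁻¹).val = slot j (S.N q.e a)) :
    ∃ (A : GL (Fin k) F) (ν : F), ν ≠ 0 ∧ S.adj A.val * A.val = ν • 1 ∧ A.val *ᵥ p.e = ν • q.e ∧
      ∀ w, p.InW w →
        g.val * slot i (S.N p.e w) * (g⁻¹).val = slot j (A.val * S.N p.e w * (A⁻¹ : GL (Fin k) F).val) := by
  classical
  set C : Matrix (Fin t → Fin k) (Fin t → Fin k) F → Matrix (Fin t → Fin k) (Fin t → Fin k) F :=
    fun X => g.val * X * (g⁻¹).val with hC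
  have hCmul : ∀ X Y, C X * C Y = C (X * Y) := fun X Y => by
    simp only [hC, mul_assoc]
    rw [← mul_assoc (g⁻¹).val g.val, Units.inv_mul, one_mul]
  have hCsmul : ∀ (c : F) X, C (c • X) = c • C X := fun c X => by
    simp only [hC, mul_smul_comm, smul_mul_assoc]
  have hne : ∀ (r : S.Pr), S.P r.e ≠ 0 := fun r h0 => r.e_ne (by
    have := congrArg (fun T => T *ᵥ r.f) h0
    simpa [P_mulVec, r.h1'] using this)
  have hsq : (-S.bb x x) • C (slot i (S.P p.e)) = (-S.bb a a) • slot j (S.P q.e) := by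
    rw [← hCsmul, ← map_smul, ← map_smul, ← S.N_mul_N p.he hx.1 hx.1, ← S.N_mul_N q.he ha.1 ha.1, map_mul, map_mul,
      ← hCmul, show C (slot i (S.N p.e x)) = slot j (S.N q.e a) from h]
  set ν := S.bb a a / S.bb x x with hν
  have hxx : S.bb x x ≠ 0 := by rw [S.bb_self]; exact mul_ne_zero S.two hQ
  have hν0 : ν ≠ 0 := div_ne_zero (by rw [S.bb_self]; exact mul_ne_zero S.two hQa) hxx
  have hP : C (slot i (S.P p.e)) = ν • slot j (S.P q.e) := by
    have := congrArg (fun Z => (-S.bb x x)⁻¹ • Z) hsq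
    simp only [smul_smul, inv_mul_cancel₀ (neg_ne_zero.2 hxx), one_smul] at this
    rw [this, hν]
    congr 1
    field_simp
  have hrad : ∀ w, p.InW w → ∃ y, q.InW y ∧ C (slot i (S.N p.e w)) = slot j (S.N q.e y) := by
    intro w hw
    refine rad_slot H hadm hno (n := C (slot i (S.N p.e w))) ⟨?_, ?_, ?_⟩
    · have h0 : Shp (slot i (S.P p.e)) (slot (F := F) i (S.N p.e w)) :=
        shp_of_InS (InS.pmat (by rw [Function.update_self]; exact ⟨w, hw, rfl⟩))
      have := shp_units (F := F) h0 (u := g.val) (v := (g⁻¹).val) (Units.inv_mul g)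
      rw [show g.val * slot i (S.P p.e) * (g⁻¹).val = ν • slot j (S.P q.e) from hP] at this
      exact shp_smul_left hν0 this
    · rw [hC, S.adjB_conj (H.le hg), S.adjB_slot, S.adj_N, map_neg, mul_neg, neg_mul]
    · rw [hC, ← ex_cj (Units.mul_inv g) (Units.inv_mul g)]
      exact ((show MV M g.val from ⟨g, hg, rfl⟩).mul (Over.ex_mem H i p hw)).mul ⟨_, M.inv_mem hg, rfl⟩
  choose ψ hψ hψ' using fun v : Fin k → F => hrad (p.pr v) (p.pr_mem v)
  have hinj : ∀ {y y'}, q.InW y → q.InW y' → slot (t := t) j (S.N q.e y) = slot j (S.N q.e y') → y = y' :=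
    fun hy hy' e => Pr.N_inj hy hy' (slot_injective j e)
  have hpr_add : ∀ u v, p.pr (u + v) = p.pr u + p.pr v := fun u v => by
    simp only [Pr.pr, S.bb_add_left, add_smul]; abel
  have hpr_smul : ∀ (c : F) v, p.pr (c • v) = c • p.pr v := fun c v => by
    simp only [Pr.pr, S.bb_smul_left, mul_smul, smul_sub]
  let Al : (Fin k → F) →ₗ[F] (Fin k → F) :=
    { toFun := fun v => ψ v + (ν * S.bb v p.f) • q.e + S.bb v p.e • q.f
      map_add' := fun u v => by
        have : ψ (u + v) = ψ u + ψ v := hinj (hψ _) ((hψ _).add (hψ _)) (by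
          rw [← hψ', hpr_add, S.N_add, S.N_add, map_add, map_add, ← hψ', ← hψ', hC]
          simp only [mul_add, add_mul])
        simp only [this, S.bb_add_left, mul_add, add_smul]; abel
      map_smul' := fun c v => by
        have : ψ (c • v) = c • ψ v := hinj (hψ _) ((hψ _).smul c) (by
          rw [← hψ', hpr_smul, S.N_smul, S.N_smul, map_smul, map_smul, hCsmul, hψ'])
        simp only [this, RingHom.id_apply, S.bb_smul_left, smul_add, smul_smul]
        congr 2 <;> ring_nf }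
  set A := LinearMap.toMatrix' Al with hA
  have hAv : ∀ v, A *ᵥ v = ψ v + (ν * S.bb v p.f) • q.e + S.bb v p.e • q.f := fun v => by
    rw [hA, LinearMap.toMatrix'_mulVec]; rfl
  have hψν : ∀ u v, S.bb (ψ u) (ψ v) = ν * S.bb (p.pr u) (p.pr v) := by
    intro u v
    have h1 := hCmul (slot i (S.N p.e (p.pr u))) (slot i (S.N p.e (p.pr v)))
    rw [hψ', hψ', ← map_mul, ← map_mul, S.N_mul_N q.he (hψ u).1 (hψ v).1,
      S.N_mul_N p.he (p.pr_mem u).1 (p.pr_mem v).1, map_smul, map_smul, hCsmul, hP, smul_smul, ← sub_eq_zero,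
      ← sub_smul, smul_eq_zero] at h1
    have hne' : slot (t := t) j (S.P q.e) ≠ 0 := fun e => hne q (slot_injective j (by rw [e, map_zero]))
    linear_combination -(h1.resolve_right hne')
  have hadj : S.adj A * A = ν • 1 := by
    refine Matrix.ext_of_mulVec_single fun l => ?_
    rw [← sub_eq_zero, ← Matrix.sub_mulVec]
    refine S.eq_zero_of_bb fun u => ?_
    rw [Matrix.sub_mulVec, S.bb_sub_right, ← Matrix.mulVec_mulVec, ← S.bb_adj, Matrix.smul_mulVec,
      Matrix.one_mulVec, S.bb_smul_right, hAv, hAv]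
    set v : Fin k → F := Pi.single l 1
    conv_lhs => arg 2; rw [p.eq_pr_add u, p.eq_pr_add v]
    simp only [S.bb_add_left, S.bb_add_right, S.bb_smul_left, S.bb_smul_right, hψν, q.he, q.hf, q.h1, q.h1',
      (hψ u).1, (hψ u).2, (hψ v).1, (hψ v).2, S.bb_comm (ψ u) q.e, S.bb_comm (ψ u) q.f, p.he, p.hf, p.h1, p.h1',
      (p.pr_mem u).1, (p.pr_mem u).2, (p.pr_mem v).1, (p.pr_mem v).2, S.bb_comm (p.pr u) p.e,
      S.bb_comm (p.pr u) p.f]
    ring
  have hinv : (ν⁻¹ • S.adj A) * A = 1 := by rw [smul_mul_assoc, hadj, inv_smul_smul₀ hν0]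
  refine ⟨⟨A, ν⁻¹ • S.adj A, mul_eq_one_comm.1 hinv, hinv⟩, ν, hν0, hadj, ?_, fun w hw => ?_⟩
  · show A *ᵥ p.e = _
    have h0 : ψ p.e = 0 := hinj (hψ _) ⟨S.bb_zero_right _, S.bb_zero_right _⟩ (by
      have : p.pr p.e = 0 := by simp [Pr.pr, p.he, p.h1]
      rw [← hψ', this, S.N_zero, S.N_zero, map_zero, map_zero, hC]
      simp)
    rw [hAv, h0, p.he, p.h1, mul_one, zero_smul, zero_add, add_zero]
  · have hprw : p.pr w = w := by simp [Pr.pr, S.bb_comm w p.e, S.bb_comm w p.f, hw.1, hw.2]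
    have he : A *ᵥ p.e = ν • q.e := by
      have h0 : ψ p.e = 0 := hinj (hψ _) ⟨S.bb_zero_right _, S.bb_zero_right _⟩ (by
        have : p.pr p.e = 0 := by simp [Pr.pr, p.he, p.h1]
        rw [← hψ', this, S.N_zero, S.N_zero, map_zero, map_zero, hC]
        simp)
      rw [hAv, h0, p.he, p.h1, mul_one, zero_smul, zero_add, add_zero]
    have hwA : A *ᵥ w = ψ w := by
      rw [hAv, S.bb_comm w p.e, S.bb_comm w p.f, hw.1, hw.2, mul_zero, zero_smul, zero_smul, add_zero, add_zero]
    show _ = slot j (A * S.N p.e w * (ν⁻¹ • S.adj A))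
    rw [mul_smul_comm, S.conj_N (S.adj_adj A), he, hwA,
      show S.N (ν • q.e) (ψ w) = ν • S.N q.e (ψ w) by rw [S.N_swap, S.N_smul, S.N_swap q.e, smul_neg, neg_neg],
      inv_smul_smul₀ hν0, ← hψ', hprw]

omit H hadm hno

/-! ### Diagonal elements -/

/-- Stable under conjugation by similitudes of the wreath group. -/
def Gen (S : Sym F k) (M : Subgroup (GL (Fin t → Fin k) F)) (x : GL (Fin t → Fin k) F) : Prop :=
  x ∈ M ∧ ∀ k0 ∈ tensorWreathStandard k t F, (∀ y ∈ S.Iso t, k0 * y * k0⁻¹ ∈ S.Iso t) → k0 * x * k0⁻¹ ∈ M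

include H

omit [Fintype F] in
lemma gen_sq {y : GL (Fin t → Fin k) F} (hy : y ∈ tensorWreathStandard k t F) (hy' : y ∈ S.Iso t) :
    Gen S M (y * y) := by
  refine ⟨H.sq y hy hy', fun k0 hk hn => ?_⟩
  have := H.sq _ (mul_mem (mul_mem hk hy) (inv_mem hk)) (hn y hy')
  rwa [show k0 * y * k0⁻¹ * (k0 * y * k0⁻¹) = k0 * (y * y) * k0⁻¹ by group] at this

omit [Fintype F] in
lemma gen_comm {x y : GL (Fin t → Fin k) F} (hx : x ∈ tensorWreathStandard k t F) (hx' : x ∈ S.Iso t)
    (hy : y ∈ tensorWreathStandard k t F) (hy' : y ∈ S.Iso t) : Gen S M (x * y * x⁻¹ * y⁻¹) := by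
  refine ⟨H.comm x hx hx' y hy hy', fun k0 hk hn => ?_⟩
  have := H.comm _ (mul_mem (mul_mem hk hx) (inv_mem hk)) (hn x hx') _
    (mul_mem (mul_mem hk hy) (inv_mem hk)) (hn y hy')
  rwa [show k0 * x * k0⁻¹ * (k0 * y * k0⁻¹) * (k0 * x * k0⁻¹)⁻¹ * (k0 * y * k0⁻¹)⁻¹ =
    k0 * (x * y * x⁻¹ * y⁻¹) * k0⁻¹ by group] at this

omit H

/-- A torus element of a pair. -/
def Pr.tor (p : S.Pr) (μ : F) : Matrix (Fin k) (Fin k) F :=
  1 + (μ - 1) • S.op p.e p.f + (μ⁻¹ - 1) • S.op p.f p.e

omit [Fintype F] in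
lemma Pr.tor_mul (p : S.Pr) {μ ρ : F} (hμ : μ ≠ 0) (hρ : ρ ≠ 0) : p.tor μ * p.tor ρ = p.tor (μ * ρ) := by
  simp only [Pr.tor, mul_add, add_mul, one_mul, mul_one, smul_mul_assoc, mul_smul_comm, S.op_mul, p.he, p.hf,
    p.h1, p.h1', zero_smul, one_smul, smul_zero, add_zero]
  match_scalars <;> field_simp <;> ring

omit [Fintype F] in
lemma Pr.adj_tor (p : S.Pr) {μ : F} : S.adj (p.tor μ) = p.tor μ⁻¹ := by
  simp only [Pr.tor, S.adj_add, S.adj_one, S.adj_smul, S.adj_op, inv_inv]
  abel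

omit [Fintype F] in
lemma Pr.tor_iso (p : S.Pr) {μ : F} (hμ : μ ≠ 0) : S.adj (p.tor μ) * p.tor μ = 1 := by
  rw [p.adj_tor, p.tor_mul (inv_ne_zero hμ) hμ, inv_mul_cancel₀ hμ]
  simp [Pr.tor]

/-- A field of odd order below five has three elements. -/
lemma card_three (S : Sym F k) (hq : ¬ 5 ≤ Fintype.card F) : Fintype.card F = 3 := by
  obtain ⟨c, hc⟩ := CharP.exists F
  haveI := hc
  obtain ⟨n, hp, hn⟩ := FiniteField.card F c
  have hc2 : c ≠ 2 := fun e => S.two (by subst e; exact_mod_cast CharP.cast_eq_zero F 2)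
  have h2c := hp.two_le
  have hn1 : (n : ℕ) = 1 := by
    by_contra hne
    have : c ^ 2 ≤ c ^ (n : ℕ) := Nat.pow_le_pow_right (by omega) (by have := n.pos; omega)
    have h3c : 3 ≤ c := by omega
    have : 9 ≤ c ^ 2 := by nlinarith
    omega
  rw [hn, hn1, pow_one]
  rw [hn, hn1, pow_one] at hq
  by_contra hne
  have hc4 : c = 4 := by omega
  subst hc4
  norm_num at hp

/-- An orthogonal vector of the same norm over the field of three elements. -/
lemma exists_same (hadm : S.Adm) (p : S.Pr) (hq : ¬ 5 ≤ Fintype.card F) {a : Fin k → F} (ha : p.InW a)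
    (hQ : S.Q a ≠ 0) : ∃ b, p.InW b ∧ S.bb a b = 0 ∧ S.Q b = S.Q a := by
  have h3 := S.card_three hq
  have hk4 : 4 ≤ k := hadm.1.resolve_left hq
  have hval : ∀ x : F, x ≠ 0 → x = 1 ∨ x = -1 := fun x hx => by
    have h2 := FiniteField.pow_card_sub_one_eq_one x hx
    rw [h3] at h2
    exact mul_self_eq_one_iff.1 (by rw [← h2]; ring)
  have hneg : ∀ x : F, x ≠ 0 → x ≠ S.Q a → x = -S.Q a := fun x hx hne => by
    rcases hval x hx with rfl | rfl <;> rcases hval _ hQ with h | h <;> simp_all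
  obtain ⟨b, hb, hab, hQb⟩ := p.exists_orth hk4 ha hQ
  by_cases he : S.Q b = S.Q a
  · exact ⟨b, hb, hab, he⟩
  have hbe := hneg _ hQb he
  by_cases hk : k = 4
  · exfalso
    have hw : S.bb (a + b) (a + b) = 0 := by
      rw [S.bb_self, S.Q_add, hab, hbe]; ring
    obtain ⟨c, hc⟩ := hadm.2 hk p.e (a + b) p.he hw (by rw [S.bb_add_right, ha.1, hb.1, add_zero]) p.e_ne
    have := congrArg (S.bb a) hc
    rw [S.bb_smul_right, S.bb_comm a p.e, ha.1, mul_zero, S.bb_add_right, hab, add_zero, S.bb_self] at this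
    exact mul_ne_zero S.two hQ this.symm
  obtain ⟨c, hc, hac, hbc, hQc⟩ := p.exists_orth3 (by omega) ha hb hab hQ hQb
  by_cases hec : S.Q c = S.Q a
  · exact ⟨c, hc, hac, hec⟩
  refine ⟨b + c, hb.add hc, by rw [S.bb_add_right, hab, hac, add_zero], ?_⟩
  rw [S.Q_add, hbc, hbe, hneg _ hQc hec]
  have h30 : (3 : F) = 0 := by
    have := FiniteField.cast_card_eq_zero F
    rw [h3] at this
    exact_mod_cast this
  linear_combination (-S.Q a) * h30

include H hadm

/-- An element negating or scaling a given vector of the radical. -/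
theorem exists_diag (p : S.Pr) {a : Fin k → F} (ha : p.InW a) (hQ : S.Q a ≠ 0) :
    ∃ (T : Matrix (Fin k) (Fin k) F) (ε d : F) (hT : S.adj T * T = 1),
      (∀ l : Fin t, Gen S M (S.slotGL l T hT)) ∧ T *ᵥ p.e = ε • p.e ∧
      (∀ y, p.InW y → p.InW (T *ᵥ y) ∧ ε * S.bb (T *ᵥ y) a = d * S.bb y a) ∧
      (ε • (T *ᵥ a) = d • a) ∧ d ≠ 1 ∧ (Fintype.card F ≤ 5 → ε * ε = 1 ∧ d = -1) := by
  classical
  by_cases hq : 5 ≤ Fintype.card F
  · obtain ⟨μ, hμ, hμ2⟩ := exists_scalar (F := F) hq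
    have hε : μ * μ ≠ 0 := mul_ne_zero hμ hμ
    have hW : ∀ y, p.InW y → p.tor (μ * μ) *ᵥ y = y := fun y hy => by
      simp [Pr.tor, Matrix.add_mulVec, Matrix.smul_mulVec, op_mulVec, S.bb_comm y p.e, S.bb_comm y p.f, hy.1, hy.2]
    refine ⟨p.tor (μ * μ), μ * μ, μ * μ, p.tor_iso hε, fun l => ?_, ?_, fun y hy => ?_, by rw [hW a ha], hμ2,
      fun h5 => ?_⟩
    · have e : S.slotGL l (p.tor (μ * μ)) (p.tor_iso hε) =
          S.slotGL l (p.tor μ) (p.tor_iso hμ) * S.slotGL l (p.tor μ) (p.tor_iso hμ) := Units.ext (by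
        show slot l _ = slot l _ * slot l _
        rw [← map_mul, p.tor_mul hμ hμ])
      rw [e]
      exact gen_sq H (S.slotGL_mem_std _ _ _) (S.slotGL_mem_Iso _ _ _)
    · simp only [Pr.tor, Matrix.add_mulVec, Matrix.smul_mulVec, Matrix.one_mulVec, op_mulVec, p.he, p.h1,
        zero_smul, smul_zero, one_smul, add_zero]
      rw [sub_smul, one_smul, add_sub_cancel]
    · rw [hW y hy]; exact ⟨hy, rfl⟩
    · have h4 : μ ^ (Fintype.card F - 1) = 1 := FiniteField.pow_card_sub_one_eq_one μ hμ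
      rw [show Fintype.card F - 1 = 4 by omega] at h4
      refine ⟨by linear_combination h4, ?_⟩
      have : (μ * μ - 1) * (μ * μ + 1) = 0 := by linear_combination h4
      exact eq_neg_of_add_eq_zero_left ((mul_eq_zero.1 this).resolve_left (sub_ne_zero.2 hμ2))
  · obtain ⟨b, hb, hab, hQb⟩ := exists_same hadm p (by omega) ha hQ
    have hQb0 : S.Q b ≠ 0 := hQb ▸ hQ
    obtain ⟨A, hA, hAr⟩ := S.exists_conj_rf hQb.symm hQ
    have hT : S.adj (S.rf a * S.rf b) * (S.rf a * S.rf b) = 1 := by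
      rw [S.adj_mul, S.adj_rf, S.adj_rf, mul_assoc, ← mul_assoc (S.rf a), S.rf_sq hQ, one_mul, S.rf_sq hQb0]
    refine ⟨S.rf a * S.rf b, 1, -1, hT, fun l => ?_, ?_, fun y hy => ?_, ?_, fun h => ?_, fun _ => ⟨one_mul 1, rfl⟩⟩
    · have e : S.slotGL l (S.rf a * S.rf b) hT = S.slotGL l (S.rf a) (S.rf_iso hQ) * S.slotGL l A hA *
          (S.slotGL l (S.rf a) (S.rf_iso hQ))⁻¹ * (S.slotGL l A hA)⁻¹ := Units.ext (by
        show slot l _ = slot l _ * slot l _ * slot l _ * slot l _
        rw [← map_mul, ← map_mul, ← map_mul, S.adj_rf, mul_assoc (S.rf a) A, mul_assoc (S.rf a), hAr])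
      rw [e]
      exact gen_comm H (S.slotGL_mem_std _ _ _) (S.slotGL_mem_Iso _ _ _) (S.slotGL_mem_std _ _ _)
        (S.slotGL_mem_Iso _ _ _)
    · rw [← Matrix.mulVec_mulVec, S.rf_mulVec b, hb.1, mul_zero, zero_smul, sub_zero, S.rf_mulVec, ha.1, mul_zero,
        zero_smul, sub_zero, one_smul]
    · rw [← Matrix.mulVec_mulVec, S.rf_mulVec, S.rf_mulVec, sub_eq_add_neg, sub_eq_add_neg, ← neg_smul, ← neg_smul]
      refine ⟨(hy.add (hb.smul _)).add (ha.smul _), ?_⟩
      simp only [one_mul, S.bb_add_left, S.bb_smul_left, S.bb_comm b a, hab, mul_zero, add_zero, S.bb_self]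
      field_simp
      ring
    · rw [← Matrix.mulVec_mulVec, S.rf_mulVec b, hab, mul_zero, zero_smul, sub_zero, S.rf_mulVec, one_smul,
        S.bb_self]
      match_scalars
      field_simp
      ring
    · exact S.two (by linear_combination -h)

/-! ### Cosets fixed in all slots -/

include hno

/-- A member carrying a Siegel map of every slot to slots lies in the wreath group. -/
theorem mem_std_of_fix_all (ht : 0 < t) {g : GL (Fin t → Fin k) F} (hg : g ∈ M) (p : S.Pr)
    (h : ∀ l : Fin t, ∃ (j : Fin t) (q : S.Pr) (x a : Fin k → F), p.InW x ∧ S.Q x ≠ 0 ∧ q.InW a ∧ S.Q a ≠ 0 ∧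
      g.val * slot l (S.N p.e x) * (g⁻¹).val = slot j (S.N q.e a)) :
    g ∈ tensorWreathStandard k t F := by
  classical
  choose π q x a hx hQ ha hQa h using h
  choose A ν hν hAA hAe hA using fun l => exists_intertwiner H hadm hno hg (hx l) (hQ l) (ha l) (hQa l) (h l)
  have hne : ∀ (r : S.Pr), S.P r.e ≠ 0 := fun r h0 => r.e_ne (by
    have := congrArg (fun T => T *ᵥ r.f) h0
    simpa [P_mulVec, r.h1'] using this)
  set C : Matrix (Fin t → Fin k) (Fin t → Fin k) F → Matrix (Fin t → Fin k) (Fin t → Fin k) F :=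
    fun X => g.val * X * (g⁻¹).val with hC
  have hCmul : ∀ X Y, C X * C Y = C (X * Y) := fun X Y => by
    simp only [hC, mul_assoc]
    rw [← mul_assoc (g⁻¹).val g.val, Units.inv_mul, one_mul]
  have hCinj : ∀ X, C X = 0 → X = 0 := fun X h0 => by
    have := congrArg (fun Z => (g⁻¹).val * Z * g.val) h0
    simp only [hC, mul_zero, zero_mul, ← mul_assoc, Units.inv_mul, one_mul] at this
    rwa [mul_assoc, Units.inv_mul, mul_one] at this
  -- different slots go to different slots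
  have hπ : Function.Injective π := by
    intro l l' e
    by_contra hll
    set c := -S.bb (x l) (x l)
    have hP : ∀ m, ∃ r : F, C (slot m (S.P p.e)) = r • slot (π m) (S.P (q m).e) := fun m => by
      refine ⟨(-S.bb (x m) (x m))⁻¹ * (-S.bb (a m) (a m)), ?_⟩
      have h1 := hCmul (slot m (S.N p.e (x m))) (slot m (S.N p.e (x m)))
      rw [show C (slot m (S.N p.e (x m))) = slot (π m) (S.N (q m).e (a m)) from h m, ← map_mul, ← map_mul,
        S.N_mul_N (q m).he (ha m).1 (ha m).1, S.N_mul_N p.he (hx m).1 (hx m).1, map_smul, map_smul] at h1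
      have hxx : -S.bb (x m) (x m) ≠ 0 := by
        rw [S.bb_self]; exact neg_ne_zero.2 (mul_ne_zero S.two (hQ m))
      simp only [hC, mul_smul_comm, smul_mul_assoc] at h1 ⊢
      rw [mul_smul, h1, inv_smul_smul₀ hxx]
    obtain ⟨r, hr⟩ := hP l
    obtain ⟨r', hr'⟩ := hP l'
    have hc := hCmul (slot l (S.P p.e)) (slot l' (S.P p.e))
    rw [slot_comm hll, ← hCmul, hr, hr', e, smul_mul_smul_comm, smul_mul_smul_comm, mul_comm r' r] at hc
    have hne0 : (r * r') • (slot (π l') (S.P (q l).e) * slot (π l') (S.P (q l').e)) ≠ 0 := fun h0 => by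
      have h1 := hCmul (slot l (S.P p.e)) (slot l' (S.P p.e))
      rw [hr, hr', e, smul_mul_smul_comm, h0] at h1
      have h2 := hCinj _ h1.symm
      rw [slot_eq, slot_eq, pmat_mul] at h2
      refine pmat_ne_zero (fun m => ?_) h2
      haveI : Nonempty (Fin k) := ⟨⟨0, by have := S.three_le; omega⟩⟩
      show Function.update (1 : Fin t → Matrix (Fin k) (Fin k) F) l (S.P p.e) m *
        Function.update (1 : Fin t → Matrix (Fin k) (Fin k) F) l' (S.P p.e) m ≠ 0
      rcases eq_or_ne m l with rfl | hm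
      · rw [Function.update_self, Function.update_of_ne hll, Pi.one_apply, mul_one]; exact hne p
      rcases eq_or_ne m l' with rfl | hm'
      · rw [Function.update_self, Function.update_of_ne hm, Pi.one_apply, one_mul]; exact hne p
      · rw [Function.update_of_ne hm, Function.update_of_ne hm', Pi.one_apply, one_mul]; exact one_ne_zero
    rw [smul_ne_zero_iff] at hne0
    have h3 := slot_injective (π l') (by simpa [map_mul] using (smul_right_injective _ hne0.1) hc :
      slot (π l') (S.P (q l).e * S.P (q l').e) = slot (π l') (S.P (q l').e * S.P (q l).e))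
    set e1 := (q l).e
    set e2 := (q l').e
    have hb : S.bb e2 e1 ≠ 0 := fun h0 => hne0.2 (by
      rw [← map_mul, P, P, S.op_mul, h0, zero_smul, map_zero])
    rw [P, P, S.op_mul, S.op_mul, S.bb_comm e1 e2] at h3
    have h4 := congrArg (fun T => T *ᵥ e1) (smul_right_injective _ hb h3)
    simp only [op_mulVec, show S.bb e1 e1 = 0 from (q l).he, zero_smul, S.bb_comm e1 e2] at h4
    exact (q l).e_ne ((smul_eq_zero.1 h4).resolve_left hb)
  set σ := Equiv.ofBijective π (Finite.injective_iff_bijective.1 hπ) with hσ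
  set k0 := pmatGL (fun m => A (σ.symm m)) * permGL σ with hk0
  have hk0std : k0 ∈ tensorWreathStandard k t F := mem_std_iff.2 ⟨σ, _, rfl⟩
  have hk0conj : ∀ l w, p.InW w → g.val * slot l (S.N p.e w) * (g⁻¹).val =
      k0.val * slot l (S.N p.e w) * (k0⁻¹).val := fun l w hw => by
    rw [hA l w hw, hk0, conj_std_slot, σ.symm_apply_apply]
    rfl
  -- the similitude of the wreath element
  set c := ∏ l, ν (σ.symm l) with hc
  have hc0 : c ≠ 0 := Finset.prod_ne_zero_iff.2 fun l _ => hν _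
  have hk0sim : S.adjB k0.val * k0.val = c • 1 := by
    have hperm : S.adjB (permMat σ) * permMat σ = (1 : Matrix (Fin t → Fin k) (Fin t → Fin k) F) :=
      S.permGL_mem_Iso σ
    rw [hk0, Units.val_mul, coe_permGL, coe_pmatGL, S.adjB_mul, mul_assoc, ← mul_assoc (S.adjB (pmat _)),
      S.adjB_pmat, pmat_mul]
    simp only [hAA]
    rw [pmat_smul (fun l => ν (σ.symm l)) (fun _ => (1 : Matrix (Fin k) (Fin k) F)),
      show (fun _ : Fin t => (1 : Matrix (Fin k) (Fin k) F)) = 1 from rfl, pmat_one, smul_mul_assoc, one_mul,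
      mul_smul_comm, hperm]
  have hk0inv : S.adjB (k0⁻¹).val = c⁻¹ • k0.val := by
    have h1 : S.adjB (k0⁻¹).val * (c • (k0⁻¹).val) = 1 * (1 : Matrix (Fin t → Fin k) (Fin t → Fin k) F) := by
      rw [one_mul, ← S.adjB_one, ← Units.mul_inv k0, S.adjB_mul, show S.adjB k0.val = c • (k0⁻¹).val by
        calc S.adjB k0.val = S.adjB k0.val * (k0.val * (k0⁻¹).val) := by rw [Units.mul_inv, mul_one]
          _ = _ := by rw [← mul_assoc, hk0sim, smul_mul_assoc, one_mul]]
    rw [one_mul, mul_smul_comm] at h1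
    calc S.adjB (k0⁻¹).val = S.adjB (k0⁻¹).val * ((k0⁻¹).val * k0.val) := by rw [Units.inv_mul, mul_one]
      _ = c⁻¹ • ((c • (S.adjB (k0⁻¹).val * (k0⁻¹).val)) * k0.val) := by
        rw [smul_mul_assoc, inv_smul_smul₀ hc0, mul_assoc]
      _ = _ := by rw [h1, one_mul]
  have hk0n : ∀ y ∈ S.Iso t, k0 * y * k0⁻¹ ∈ S.Iso t := by
    intro y hy
    rw [S.mem_Iso, Units.val_mul, Units.val_mul, S.adjB_mul, S.adjB_mul, hk0inv, smul_mul_assoc, smul_mul_assoc,
      show k0.val * (S.adjB y.val * S.adjB k0.val) * (k0.val * y.val * (k0⁻¹).val) =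
        k0.val * (S.adjB y.val * (S.adjB k0.val * k0.val) * y.val) * (k0⁻¹).val by simp only [mul_assoc],
      hk0sim, mul_smul_comm, mul_one, smul_mul_assoc, S.mem_Iso.1 hy, mul_smul_comm, mul_one, smul_mul_assoc,
      Units.mul_inv, inv_smul_smul₀ hc0]
  set g0 := k0⁻¹ * g with hg0
  have hcomm : ∀ l w, p.InW w → slot l (S.N p.e w) * g0.val = g0.val * slot l (S.N p.e w) := fun l w hw => by
    have h1 := congrArg (fun Z => (k0⁻¹).val * Z * g.val) (hk0conj l w hw)
    simp only [← mul_assoc, Units.inv_mul, one_mul] at h1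
    simp only [mul_assoc, Units.inv_mul, mul_one] at h1
    rw [hg0, Units.val_mul, ← h1, mul_assoc]
  have hcomm' : ∀ l w, p.InW w → slot l (S.N p.e w) * (g0⁻¹).val = (g0⁻¹).val * slot l (S.N p.e w) :=
    fun l w hw => by
    calc slot l (S.N p.e w) * (g0⁻¹).val = (g0⁻¹).val * (g0.val * slot l (S.N p.e w)) * (g0⁻¹).val := by
          rw [← mul_assoc (g0⁻¹).val, Units.inv_mul, one_mul]
      _ = _ := by rw [← hcomm l w hw, mul_assoc, mul_assoc, Units.mul_inv, mul_one]
  have hInS : ∀ l, InS l p.Cen g0.val := fun l => InS_Cen_of_comm (hcomm l)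
  have hInS' : ∀ l, InS l p.Cen (g0⁻¹).val := fun l => InS_Cen_of_comm (hcomm' l)
  have hg0sim : S.adjB g0.val * g0.val = c⁻¹ • 1 := by
    rw [hg0, Units.val_mul, S.adjB_mul, hk0inv, mul_smul_comm, smul_mul_assoc, mul_assoc, ← mul_assoc k0.val,
      Units.mul_inv, one_mul, S.mem_Iso.1 (H.le hg)]
  -- the diagonal elements kill the radical parts
  have key : ∀ l : Fin t, ∀ b, p.InW b → S.Q b ≠ 0 → ∃ κ : F, ∀ r r',
      S.bb (comp l r r' g0.val *ᵥ p.f) b = κ * S.bb (comp l r r' g0.val *ᵥ p.f) p.e := by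
    intro l b hb hQb
    obtain ⟨T, ε, d, hT, hgen, hTe, hTW, -, hd1, -⟩ := exists_diag (t := t) H hadm p hb hQb
    have hT' : T * S.adj T = 1 := mul_eq_one_comm.1 hT
    have hTf : ∀ y, S.bb p.e y = 0 → S.bb p.e (T *ᵥ y) = 0 ∨ ε = 0 := fun y hy => by
      have := S.bb_iso hT p.e y
      rw [hTe, S.bb_smul_left, hy, mul_eq_zero] at this
      exact this.symm
    have hε : ε ≠ 0 := fun h0 => by
      have := congrArg (fun v => S.adj T *ᵥ v) hTe
      rw [h0, zero_smul, Matrix.mulVec_zero, Matrix.mulVec_mulVec, hT, Matrix.one_mulVec] at this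
      exact p.e_ne this
    set τ := S.slotGL l T hT
    -- the commutator
    set Y := g0⁻¹ * τ * g0 * τ⁻¹ with hY
    have hYM : Y ∈ M := by
      rw [hY, hg0, show (k0⁻¹ * g)⁻¹ * τ * (k0⁻¹ * g) * τ⁻¹ = g⁻¹ * (k0 * τ * k0⁻¹) * g * τ⁻¹ by group]
      exact M.mul_mem (M.mul_mem (M.mul_mem (M.inv_mem hg) ((hgen l).2 k0 hk0std hk0n)) hg) (M.inv_mem (hgen l).1)
    have hTYT : ∀ Z ∈ p.Cen, T * Z * S.adj T - Z ∈ p.Rd := fun Z hZ => by
      rw [p.mem_Cen_iff hZ]
      simp only [mul_add, add_mul, mul_smul_comm, smul_mul_assoc, mul_one, hT', S.conj_P (S.adj_adj T),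
        S.conj_N (S.adj_adj T), hTe]
      set y := p.pr (Z *ᵥ p.f)
      rw [show S.P (ε • p.e) = (ε * ε) • S.P p.e by rw [P, P, S.op_smul_left, S.op_smul_right, smul_smul],
        show S.N (ε • p.e) (T *ᵥ y) = ε • S.N p.e (T *ᵥ y) by rw [S.N_swap, S.N_smul, S.N_swap p.e, smul_neg, neg_neg]]
      have hPR : S.P p.e ∈ p.Rd := Submodule.mem_sup_right (Submodule.mem_span_singleton_self _)
      have hNR : ∀ {y}, p.InW y → S.N p.e y ∈ p.Rd := fun hy => Submodule.mem_sup_left ⟨_, hy, rfl⟩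
      have := Submodule.sub_mem p.Rd
        (Submodule.add_mem _ (Submodule.smul_mem _ (S.bb (Z *ᵥ p.f) p.f * (ε * ε)) hPR)
          (Submodule.smul_mem _ ε (hNR (hTW _ (p.pr_mem (Z *ᵥ p.f))).1)))
        (Submodule.add_mem _ (Submodule.smul_mem _ (S.bb (Z *ᵥ p.f) p.f) hPR) (hNR (p.pr_mem (Z *ᵥ p.f))))
      convert this using 1
      module
    set D := L l (cjm T (S.adj T) - LinearMap.id) g0.val with hD
    have hDR : InS l p.Rd D := InS.map (hInS l) fun Z hZ => by
      rw [LinearMap.sub_apply, cjm_apply, LinearMap.id_apply]; exact hTYT Z hZ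
    set U := (g0⁻¹).val * D with hU
    have hUR : InS l p.Rd U := (hInS' l).mul hDR fun A hA B hB => p.Cen_mul_Rd hA hB
    have hDval : D = τ.val * g0.val * (τ⁻¹).val - g0.val := by
      rw [hD, L_sub, LinearMap.sub_apply, L_id, ← slot_sandwich]
      rfl
    have hYU : Y.val = 1 + U := by
      rw [hU, hDval, mul_sub, Units.inv_mul, hY, Units.val_mul, Units.val_mul, Units.val_mul]
      simp only [mul_assoc]
      abel
    have hRR : ∀ A ∈ p.Rd, ∀ B ∈ p.Rd, A * B ∈ Submodule.span F {S.P p.e} := by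
      intro A hA B hB
      obtain ⟨_, ⟨w, hw, rfl⟩, Z, hZ, rfl⟩ := Submodule.mem_sup.1 hA
      obtain ⟨c1, rfl⟩ := Submodule.mem_span_singleton.1 hZ
      obtain ⟨_, ⟨w', hw', rfl⟩, Z', hZ', rfl⟩ := Submodule.mem_sup.1 hB
      obtain ⟨c2, rfl⟩ := Submodule.mem_span_singleton.1 hZ'
      simp only [add_mul, mul_add, smul_mul_assoc, mul_smul_comm, S.P_mul_P p.he, S.P_mul_N p.he hw'.1,
        S.N_mul_P p.he hw.1, S.N_mul_N p.he hw.1 hw'.1, smul_zero, add_zero]
      exact Submodule.smul_mem _ _ (Submodule.mem_span_singleton_self _)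
    have hPR0 : ∀ A ∈ p.Rd, S.P p.e * A = 0 ∧ A * S.P p.e = 0 := by
      intro A hA
      obtain ⟨_, ⟨w, hw, rfl⟩, Z, hZ, rfl⟩ := Submodule.mem_sup.1 hA
      obtain ⟨c1, rfl⟩ := Submodule.mem_span_singleton.1 hZ
      simp [mul_add, add_mul, S.P_mul_P p.he, S.P_mul_N p.he hw.1, S.N_mul_P p.he hw.1]
    have hU3 : U * U * U = 0 := by
      have h2 := hUR.mul hUR hRR
      have h3 : InS l (⊥ : Submodule F (Matrix (Fin k) (Fin k) F)) (U * U * U) := h2.mul hUR fun A hA B hB => by
        obtain ⟨c1, rfl⟩ := Submodule.mem_span_singleton.1 hA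
        rw [smul_mul_assoc, (hPR0 B hB).1, smul_zero]
        exact Submodule.zero_mem _
      exact eq_zero_of_comp l fun a b => (Submodule.mem_bot F).1 (h3 a b)
    have hU3' : U * (U * U) = 0 := by rw [← mul_assoc, hU3]
    set Z := U - (2⁻¹ : F) • (U * U) with hZdef
    have hZR : InS l p.Rd Z := by
      rw [hZdef, sub_eq_add_neg, ← neg_smul]
      exact hUR.add (((hUR.mul hUR hRR).mono le_sup_right).smul _)
    have hexZ : ex F Z = 1 + U := by
      rw [ex, hZdef]
      simp only [sub_mul, mul_sub, smul_mul_assoc, mul_smul_comm, mul_assoc, hU3', mul_zero, smul_zero, sub_zero]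
      abel
    have hskew : S.adjB Z = -Z := by
      have hiso : S.adjB Y.val * Y.val = 1 := H.iso_of_MV ⟨Y, hYM, rfl⟩
      have hinv : (1 + U) * (1 - U + U * U) = 1 := by
        simp only [mul_add, add_mul, mul_sub, one_mul, mul_one, hU3', mul_assoc]
        abel
      have h1 : S.adjB Y.val = 1 - U + U * U := by
        calc S.adjB Y.val = S.adjB Y.val * ((1 + U) * (1 - U + U * U)) := by rw [hinv, mul_one]
          _ = _ := by rw [← mul_assoc, ← hYU, hiso, one_mul]
      rw [hYU, map_add, S.adjB_one] at h1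
      have h2 : S.adjB U = -U + U * U := by
        refine add_left_cancel (a := (1 : Matrix (Fin t → Fin k) (Fin t → Fin k) F)) ?_
        rw [h1]; abel
      rw [hZdef, map_sub, map_smul, S.adjB_mul U U, h2]
      simp only [add_mul, mul_add, neg_mul, mul_neg, mul_assoc, hU3', mul_zero, neg_zero, add_zero, neg_neg]
      have htwo := S.two
      match_scalars <;> field_simp <;> ring
    have hshp : Shp (slot l (S.P p.e)) Z := by
      set φ : Matrix (Fin k) (Fin k) F →ₗ[F] Matrix (Fin k) (Fin k) F :=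
        LinearMap.mulLeft F (S.P p.e) ∘ₗ (LinearMap.mulLeft F (S.P p.f) -
          LinearMap.mulLeft F (S.P p.f) ∘ₗ LinearMap.mulRight F (S.P p.f * S.P p.e)) +
        LinearMap.mulRight F (S.P p.e) ∘ₗ LinearMap.mulRight F (S.P p.f)
      have e : L l φ Z = Z := by
        rw [L_eq_smul hZR (c := 1), one_smul]
        intro A hA
        obtain ⟨_, ⟨w, hw, rfl⟩, B, hB, rfl⟩ := Submodule.mem_sup.1 hA
        obtain ⟨c1, rfl⟩ := Submodule.mem_span_singleton.1 hB
        simp only [φ, LinearMap.add_apply, LinearMap.comp_apply, LinearMap.sub_apply, LinearMap.mulLeft_apply,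
          LinearMap.mulRight_apply, one_smul, P, N, mul_sub, sub_mul, mul_add, add_mul, S.op_mul, mul_smul_comm,
          smul_mul_assoc, smul_zero, S.bb_comm w p.e, S.bb_comm w p.f, hw.1, hw.2, p.he, p.hf, p.h1, p.h1',
          zero_smul, sub_zero, zero_sub, smul_neg, add_zero, zero_add, smul_smul, mul_one, one_mul, mul_neg, neg_mul,
          neg_neg]
        abel
      refine ⟨⟨slot l (S.P p.f) * Z - slot l (S.P p.f) * (Z * slot l (S.P p.f * S.P p.e)),
        Z * slot l (S.P p.f), ?_⟩, ?_, ?_⟩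
      · conv_lhs => rw [← e]
        simp only [φ, L_add, L_sub, LinearMap.add_apply, LinearMap.sub_apply, ← L_comp, ← slot_mul_eq_L,
          ← mul_slot_eq_L, LinearMap.comp_sub, mul_sub]
      · rw [slot_mul_eq_L, L_eq_zero hZR]
        exact fun A hA => (hPR0 A hA).1
      · rw [mul_slot_eq_L, L_eq_zero hZR]
        exact fun A hA => (hPR0 A hA).2
    obtain ⟨w, hw, hZw⟩ := rad_slot H hadm hno (n := Z) (i := l) (p := p)
      ⟨hshp, hskew, by rw [hexZ, ← hYU]; exact ⟨Y, hYM, rfl⟩⟩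
    have hYz : Y.val = slot l (S.z p.e w) := by
      rw [hYU, ← hexZ, hZw, ex, ← map_mul, S.N_mul_N p.he hw.1 hw.1, z, map_sub, map_add, map_one, map_smul,
        map_smul, smul_smul, S.bb_self, sub_eq_add_neg, ← neg_smul]
      congr 2
      have := S.two
      field_simp
    refine ⟨S.bb w b / (d - 1), fun r r' => ?_⟩
    set Z1 := comp l r r' g0.val with hZ1
    have hZ1C : Z1 ∈ p.Cen := hInS l r r'
    have hzC : S.z p.e w ∈ p.Cen := by
      rw [z]
      exact Submodule.sub_mem _ (Submodule.add_mem _ p.one_mem_Cen (p.N_mem_Cen hw))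
        (Submodule.smul_mem _ _ p.P_mem_Cen)
    have heq : T * Z1 * S.adj T = S.z p.e w * Z1 := by
      have h1 : τ.val * g0.val * (τ⁻¹).val = g0.val * slot l (S.z p.e w) := by
        rw [← hYz, ← Units.val_mul, ← Units.val_mul, ← Units.val_mul, hY]
        congr 1
        group
      have h2 := congrArg (comp l r r') h1
      rw [show τ.val * g0.val * (τ⁻¹).val = L l (cjm T (S.adj T)) g0.val from slot_sandwich l _ _ _,
        comp_L, mul_slot_eq_L, comp_L, cjm_apply, LinearMap.mulRight_apply, ← hZ1, p.Cen_comm hZ1C hzC] at h2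
      exact h2
    have h3 := congrArg (fun Z => S.bb (Z *ᵥ p.f) b) heq
    simp only [← Matrix.mulVec_mulVec] at h3
    -- evaluate both sides
    have hL : S.bb (T *ᵥ (Z1 *ᵥ (S.adj T *ᵥ p.f))) b = d * S.bb (Z1 *ᵥ p.f) b := by
      set f' := S.adj T *ᵥ p.f
      have hf'e : S.bb f' p.e = ε := by
        rw [← S.bb_iso hT f' p.e, Matrix.mulVec_mulVec, hT', Matrix.one_mulVec, hTe, S.bb_smul_right, p.h1', mul_one]
      have hdec : Z1 *ᵥ f' = S.bb (Z1 *ᵥ p.f) p.e • f' + (S.bb (Z1 *ᵥ p.f) p.f * ε) • p.e +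
          ε • p.pr (Z1 *ᵥ p.f) - S.bb f' (p.pr (Z1 *ᵥ p.f)) • p.e := by
        conv_lhs => rw [p.mem_Cen_iff hZ1C]
        rw [Matrix.add_mulVec, Matrix.add_mulVec, Matrix.smul_mulVec, Matrix.smul_mulVec, Matrix.one_mulVec,
          P_mulVec, N_mulVec, hf'e, smul_smul]
        abel
      have hTf' : T *ᵥ f' = p.f := by rw [Matrix.mulVec_mulVec, hT', Matrix.one_mulVec]
      rw [hdec]
      simp only [Matrix.mulVec_sub, Matrix.mulVec_add, Matrix.mulVec_smul, hTf', hTe, S.bb_sub_left, S.bb_add_left,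
        S.bb_smul_left, hb.1, hb.2, mul_zero, add_zero, zero_add, sub_zero]
      rw [(hTW _ (p.pr_mem (Z1 *ᵥ p.f))).2]
      congr 1
      simp [Pr.pr, S.bb_sub_left, S.bb_smul_left, hb.1, hb.2]
    have hR : S.bb (S.z p.e w *ᵥ (Z1 *ᵥ p.f)) b =
        S.bb (Z1 *ᵥ p.f) b + S.bb (Z1 *ᵥ p.f) p.e * S.bb w b := by
      rw [z_mulVec, S.bb_add_left, S.bb_add_left, S.bb_smul_left, S.bb_smul_left, hb.1, mul_zero, add_zero]
    rw [hL, hR] at h3
    have hd : d - 1 ≠ 0 := sub_ne_zero.2 hd1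
    field_simp
    linear_combination h3
  have key2 : ∀ l : Fin t, ∃ w, p.InW w ∧ ∀ r r',
      p.pr (comp l r r' g0.val *ᵥ p.f) = S.bb (comp l r r' g0.val *ᵥ p.f) p.e • w := by
    intro l
    by_cases hall : ∀ r r', S.bb (comp l r r' g0.val *ᵥ p.f) p.e = 0
    · exfalso
      have h0 : slot l (S.P p.e) * g0.val = 0 := by
        rw [slot_mul_eq_L]
        refine eq_zero_of_comp l fun r r' => ?_
        rw [comp_L, LinearMap.mulLeft_apply, p.mem_Cen_iff (hInS l r r'), hall r r', zero_smul, zero_add, mul_add,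
          mul_smul_comm, S.P_mul_P p.he, S.P_mul_N p.he (p.pr_mem _).1, smul_zero, add_zero]
      have := congrArg (fun Z => Z * (g0⁻¹).val) h0
      simp only [mul_assoc, Units.mul_inv, mul_one, zero_mul] at this
      exact hne p (slot_injective l (this.trans (map_zero _).symm))
    push Not at hall
    obtain ⟨r0, r0', h0⟩ := hall
    set μ0 := S.bb (comp l r0 r0' g0.val *ᵥ p.f) p.e
    refine ⟨μ0⁻¹ • p.pr (comp l r0 r0' g0.val *ᵥ p.f), (p.pr_mem _).smul _, fun r r' => ?_⟩
    set v := comp l r r' g0.val *ᵥ p.f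
    set v0 := comp l r0 r0' g0.val *ᵥ p.f
    set D := p.pr v - S.bb v p.e • (μ0⁻¹ • p.pr v0)
    have hDW : p.InW D := by
      rw [show D = p.pr v + (-(S.bb v p.e)) • (μ0⁻¹ • p.pr v0) by rw [neg_smul, ← sub_eq_add_neg]]
      exact (p.pr_mem _).add (((p.pr_mem _).smul _).smul _)
    have hprb : ∀ u b, p.InW b → S.bb (p.pr u) b = S.bb u b := fun u b hb => by
      simp [Pr.pr, S.bb_sub_left, S.bb_smul_left, hb.1, hb.2]
    have hDb : ∀ b, p.InW b → S.Q b ≠ 0 → S.bb D b = 0 := by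
      intro b hb hQb
      obtain ⟨κ, hκ⟩ := key l b hb hQb
      simp only [D, S.bb_sub_left, S.bb_smul_left, hprb _ b hb, v, v0, hκ, μ0]
      field_simp [show S.bb (comp l r0 r0' g0.val *ᵥ p.f) p.e ≠ 0 from h0]
      ring
    have hDall : ∀ b, p.InW b → S.bb D b = 0 := by
      intro b hb
      by_cases hQb : S.Q b = 0
      · obtain ⟨a', ha', hQa'⟩ := p.exists_aniso
        by_cases h1 : S.Q (b + a') = 0
        · have h2 : S.Q (b + -a') ≠ 0 := fun h2 => hQa' (by
            rw [S.Q_add, hQb] at h1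
            rw [S.Q_add, hQb, S.Q_neg, S.bb_neg_right] at h2
            exact (mul_eq_zero.1 (by linear_combination h1 + h2 : (2 : F) * S.Q a' = 0)).resolve_left S.two)
          have e2 := hDb _ (hb.add ha'.neg) h2
          rw [S.bb_add_right, S.bb_neg_right, hDb _ ha' hQa', neg_zero, add_zero] at e2
          exact e2
        · have e2 := hDb _ (hb.add ha') h1
          rw [S.bb_add_right, hDb _ ha' hQa', add_zero] at e2
          exact e2
      · exact hDb b hb hQb
    refine sub_eq_zero.1 (S.eq_zero_of_bb fun u => ?_)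
    show S.bb u D = 0
    rw [p.eq_pr_add u, S.bb_add_left, S.bb_add_left, S.bb_smul_left, S.bb_smul_left, hDW.1, hDW.2,
      S.bb_comm, hDall _ (p.pr_mem u)]
    ring
  choose w hw hwe using key2
  -- remove the radical parts
  let Zs : Finset (Fin t) → Matrix (Fin t → Fin k) (Fin t → Fin k) F :=
    fun s => pmat (s.piecewise (fun l => S.z p.e (-w l)) 1)
  let Ev : Submodule F (Matrix (Fin k) (Fin k) F) := Submodule.span F {1} ⊔ Submodule.span F {S.P p.e}
  let Vw : Fin t → Submodule F (Matrix (Fin k) (Fin k) F) := fun l =>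
    { carrier := {Z | Z ∈ p.Cen ∧ p.pr (Z *ᵥ p.f) = S.bb (Z *ᵥ p.f) p.e • w l}
      zero_mem' := ⟨Submodule.zero_mem _, by simp [Pr.pr, S.bb_zero_left]⟩
      add_mem' := fun {A B} hA hB => ⟨Submodule.add_mem _ hA.1 hB.1, by
        rw [Matrix.add_mulVec, S.bb_add_left, add_smul, ← hA.2, ← hB.2]
        simp only [Pr.pr, S.bb_add_left, add_smul]
        abel⟩
      smul_mem' := fun r A hA => ⟨Submodule.smul_mem _ r hA.1, by
        rw [Matrix.smul_mulVec, S.bb_smul_left, mul_smul, ← hA.2]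
        simp only [Pr.pr, S.bb_smul_left, mul_smul, smul_sub]⟩ }
  have hshift : ∀ l, ∀ Z ∈ Vw l, S.z p.e (-w l) * Z ∈ Ev := by
    rintro l Z ⟨hZ, hZw⟩
    rw [p.mem_Cen_iff hZ, hZw, z, S.N_neg, S.Q_neg]
    simp only [mul_add, add_mul, sub_mul, one_mul, mul_one, smul_mul_assoc, mul_smul_comm, neg_mul, S.N_smul,
      S.P_mul_P p.he, S.P_mul_N p.he (hw l).1, S.N_mul_P p.he (hw l).1, S.N_mul_N p.he (hw l).1 (hw l).1,
      smul_zero, neg_zero, add_zero, sub_zero]
    refine Submodule.mem_sup.2 ⟨S.bb (Z *ᵥ p.f) p.e • 1, Submodule.smul_mem _ _ (Submodule.mem_span_singleton_self _),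
      (S.bb (Z *ᵥ p.f) p.f - S.bb (Z *ᵥ p.f) p.e * S.Q (w l) + S.bb (Z *ᵥ p.f) p.e * S.bb (w l) (w l)) • S.P p.e,
      Submodule.smul_mem _ _ (Submodule.mem_span_singleton_self _), ?_⟩
    match_scalars <;> ring
  have hiter : ∀ s : Finset (Fin t), ∀ l, InS l (if l ∈ s then Ev else Vw l) (Zs s * g0.val) := by
    intro s
    induction s using Finset.induction with
    | empty =>
      intro l
      simp only [Zs, Finset.notMem_empty, if_false, Finset.piecewise_empty, pmat_one, one_mul]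
      exact fun r r' => ⟨hInS l r r', hwe l r r'⟩
    | insert m s hm ih =>
      intro l
      have e : Zs (insert m s) * g0.val = L m (LinearMap.mulLeft F (S.z p.e (-w m))) (Zs s * g0.val) := by
        rw [← slot_mul_eq_L, ← mul_assoc]
        congr 1
        simp only [Zs, slot_mul_pmat, Finset.piecewise_insert, Finset.piecewise_eq_of_notMem _ _ _ hm,
          Pi.one_apply, mul_one]
      rw [e]
      rcases eq_or_ne l m with rfl | hlm
      · rw [if_pos (Finset.mem_insert_self _ _)]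
        have h0 := ih l
        rw [if_neg hm] at h0
        exact InS.map h0 (hshift l)
      · rw [show (if l ∈ insert m s then Ev else Vw l) = if l ∈ s then Ev else Vw l by simp [hlm]]
        exact InS.other (ih l) hlm.symm _
  set g1 := Zs Finset.univ * g0.val with hg1
  have hEv : ∀ l, InS l Ev g1 := fun l => by simpa using hiter Finset.univ l
  have hEvadj : ∀ Y ∈ Ev, S.adj Y = (1 : F) • Y := by
    intro Y hY
    obtain ⟨A1, hA1, B1, hB1, rfl⟩ := Submodule.mem_sup.1 hY
    obtain ⟨c1, rfl⟩ := Submodule.mem_span_singleton.1 hA1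
    obtain ⟨c2, rfl⟩ := Submodule.mem_span_singleton.1 hB1
    rw [S.adj_add, S.adj_smul, S.adj_smul, S.adj_one, S.adj_P, one_smul]
  have hg1adj : S.adjB g1 = g1 := by
    rw [adjB_eq_smul (S := S) (fun _ => (1 : F)) hEv (fun _ => hEvadj), Finset.prod_const_one, one_smul]
  have hZiso : S.adjB (Zs Finset.univ) * Zs Finset.univ = 1 := by
    simp only [Zs, Finset.piecewise_univ, S.adjB_pmat, pmat_mul]
    rw [← pmat_one]
    congr 1
    funext l
    exact S.z_iso p.he (hw l).neg.1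
  have hg1sq : g1 * g1 = c⁻¹ • 1 := by
    nth_rw 1 [← hg1adj]
    rw [hg1, S.adjB_mul, mul_assoc, ← mul_assoc (S.adjB (Zs _)), hZiso, one_mul, hg0sim]
  have hEvmul : ∀ A ∈ Ev, ∀ B ∈ Ev, A * B = B * A := by
    intro A hA B hB
    obtain ⟨A1, hA1, A2, hA2, rfl⟩ := Submodule.mem_sup.1 hA
    obtain ⟨a1, rfl⟩ := Submodule.mem_span_singleton.1 hA1
    obtain ⟨a2, rfl⟩ := Submodule.mem_span_singleton.1 hA2
    obtain ⟨B1, hB1, B2, hB2, rfl⟩ := Submodule.mem_sup.1 hB
    obtain ⟨b1, rfl⟩ := Submodule.mem_span_singleton.1 hB1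
    obtain ⟨b2, rfl⟩ := Submodule.mem_span_singleton.1 hB2
    simp only [mul_add, add_mul, smul_mul_assoc, mul_smul_comm, one_mul, mul_one]
    module
  have hscalar : ∀ l, InS l (Submodule.span F {(1 : Matrix (Fin k) (Fin k) F)}) g1 := by
    intro l
    -- the scalar part in the slot
    let ψ : Matrix (Fin k) (Fin k) F →ₗ[F] Matrix (Fin k) (Fin k) F :=
      { toFun := fun Z => S.bb (Z *ᵥ p.f) p.e • 1
        map_add' := fun A B => by rw [Matrix.add_mulVec, S.bb_add_left, add_smul]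
        map_smul' := fun r A => by rw [Matrix.smul_mulVec, S.bb_smul_left, mul_smul, RingHom.id_apply] }
    have hψ1 : ψ 1 = 1 := by simp [ψ, p.h1']
    have hψP : ψ (S.P p.e) = 0 := by simp [ψ, P_mulVec, p.he, S.bb_smul_left]
    set G := L l ψ g1 with hG
    set E := g1 - G with hE
    have hGs : InS l (Submodule.span F {(1 : Matrix (Fin k) (Fin k) F)}) G := fun r r' => by
      rw [hG, comp_L]; exact Submodule.smul_mem _ _ (Submodule.mem_span_singleton_self _)
    have hEs : InS l (Submodule.span F {S.P p.e}) E := fun r r' => by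
      rw [hE, map_sub, hG, comp_L]
      obtain ⟨A1, hA1, A2, hA2, hA⟩ := Submodule.mem_sup.1 (hEv l r r')
      obtain ⟨a1, rfl⟩ := Submodule.mem_span_singleton.1 hA1
      obtain ⟨a2, rfl⟩ := Submodule.mem_span_singleton.1 hA2
      rw [← hA, map_add, map_smul, map_smul, hψ1, hψP, smul_zero, add_zero, add_sub_cancel_left]
      exact Submodule.smul_mem _ _ (Submodule.mem_span_singleton_self _)
    have hGEv : ∀ m, InS m Ev G := fun m => by
      rcases eq_or_ne m l with rfl | hm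
      · exact hGs.mono le_sup_left
      · exact InS.other (hEv m) hm.symm _
    have hcomm2 : G * g1 = g1 * G := by
      refine Submodule.span_induction (p := fun X _ => X * g1 = g1 * X) ?_ ?_ (fun A B _ _ hA hB => ?_)
        (fun r A _ hA => ?_) (mem_span_pmat hGEv)
      · rintro _ ⟨A, hA, rfl⟩
        refine Submodule.span_induction (p := fun Y _ => pmat A * Y = Y * pmat A) ?_ ?_
          (fun B C _ _ hB hC => ?_) (fun r B _ hB => ?_) (mem_span_pmat hEv)
        · rintro _ ⟨B, hB, rfl⟩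
          rw [pmat_mul, pmat_mul]
          exact congrArg pmat (funext fun m => hEvmul _ (hA m) _ (hB m))
        · simp
        · rw [mul_add, add_mul, hB, hC]
        · rw [mul_smul_comm, smul_mul_assoc, hB]
      · simp
      · rw [mul_add, add_mul, hA, hB]
      · rw [mul_smul_comm, smul_mul_assoc, hA]
    have hGE : G * E = E * G := by rw [hE, mul_sub, sub_mul, hcomm2]
    have hEE : E * E = 0 := mul_eq_zero_of_P p hEs hEs
    have hGG : InS l (Submodule.span F {(1 : Matrix (Fin k) (Fin k) F)}) (G * G) := hGs.mul hGs fun A hA B hB => by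
      obtain ⟨a1, rfl⟩ := Submodule.mem_span_singleton.1 hA
      rw [smul_mul_assoc, one_mul]; exact Submodule.smul_mem _ _ hB
    have hGE' : InS l (Submodule.span F {S.P p.e}) (G * E) := hGs.mul hEs fun A hA B hB => by
      obtain ⟨a1, rfl⟩ := Submodule.mem_span_singleton.1 hA
      rw [smul_mul_assoc, one_mul]; exact Submodule.smul_mem _ _ hB
    have hsplit : G * G + (2 : F) • (G * E) = c⁻¹ • 1 := by
      rw [← hg1sq, show g1 = G + E by rw [hE, add_sub_cancel], add_mul, mul_add, mul_add, ← hGE, hEE, add_zero,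
        two_smul, add_assoc]
    have hψG := congrArg (L l ψ) hsplit
    rw [map_add, map_smul, map_smul, L_eq_zero hGE' (fun Z hZ => by
        obtain ⟨a1, rfl⟩ := Submodule.mem_span_singleton.1 hZ
        rw [map_smul, hψP, smul_zero]), smul_zero, add_zero,
      L_eq_smul hGG (c := 1) (fun Z hZ => by
        obtain ⟨a1, rfl⟩ := Submodule.mem_span_singleton.1 hZ
        rw [map_smul, hψ1, one_smul]), one_smul,
      show L l ψ (1 : Matrix (Fin t → Fin k) (Fin t → Fin k) F) = 1 by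
        rw [← pmat_one, L_pmat, Pi.one_apply, hψ1,
          show Function.update (1 : Fin t → Matrix (Fin k) (Fin k) F) l 1 = 1 from Function.update_eq_self l _]] at hψG
    rw [hψG, add_eq_left, smul_eq_zero, or_iff_right S.two] at hsplit
    have hE0 : E = 0 := by
      have := congrArg (fun Z => G * Z) hsplit
      simp only [mul_zero, ← mul_assoc, hψG, smul_mul_assoc, one_mul, smul_eq_zero] at this
      exact this.resolve_left (inv_ne_zero hc0)
    rw [hE, sub_eq_zero] at hE0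
    rw [hE0]; exact hGs
  obtain ⟨Z, hZ⟩ := slot_of_scalar (i := ⟨0, ht⟩) (X := g1) fun l _ => hscalar l
  set zs : GL (Fin t → Fin k) F := pmatGL fun l =>
    ⟨S.z p.e (-w l), S.z p.e (w l), by simpa using S.z_inv p.he (hw l).neg.1, S.z_inv p.he (hw l).1⟩
  have hzs : zs.val = Zs Finset.univ := by simp [zs, Zs, Finset.piecewise_univ]
  have hstd1 : zs * g0 ∈ tensorWreathStandard k t F := exists_units (σ := 1) (A := Function.update 1 ⟨0, ht⟩ Z) (by
    rw [Units.val_mul, hzs, ← hg1, hZ, permMat_one, mul_one]; rfl)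
  rw [show g = k0 * (zs⁻¹ * (zs * g0)) by rw [hg0]; group]
  exact mul_mem hk0std (mul_mem (inv_mem (pmatGL_mem_std _)) hstd1)

end Sym

end CfsgLib.ClassicalMax.OWr
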