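/-
Skew maps of a quadratic space: spanning sets, simplicity and the algebra they generate.
-/
import Cfsg.Agent.Lib.ClassicalMax.OrthWreath.Pure
set_option autoImplicit false
set_option linter.unusedSectionVars false
set_option linter.unusedVariables false
set_option linter.unusedSimpArgs false

namespace CfsgLib.ClassicalMax.OWr

open Matrix Cfsg.Geo
open CfsgLib.ClassicalMax.TWreath

variable {F : Type*} [Field F] {k : ℕ}

namespace Sym

variable {S : Sym F k}

/-- The maps of two vectors span the skew maps. -/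
lemma so_le_of_N {V : Submodule F (Matrix (Fin k) (Fin k) F)} (h : ∀ x y, S.N x y ∈ V) : S.so ≤ V := by
  intro Y hY
  choose d hd using fun j : Fin k => S.mulVec_G_surj (Pi.single j 1)
  have e : Y = ∑ j, S.op (Y *ᵥ Pi.single j 1) (d j) := by
    ext a b
    simp [Matrix.sum_apply, op, hd, Matrix.vecMulVec_apply, Pi.single_apply]
  have e' : -Y = ∑ j, S.op (d j) (Y *ᵥ Pi.single j 1) := by
    rw [← S.mem_so.1 hY]
    conv_lhs => rw [e]
    rw [← S.adjL_apply, map_sum]
    exact Finset.sum_congr rfl fun j _ => by rw [S.adjL_apply, S.adj_op]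
  have : (2 : F) • Y = ∑ j, S.N (d j) (Y *ᵥ Pi.single j 1) := by
    simp only [N, Finset.sum_sub_distrib, ← e, ← e', sub_neg_eq_add, two_smul]
  rw [← inv_smul_smul₀ S.two Y, this]
  exact V.smul_mem _ (V.sum_mem fun j _ => h _ _)

variable [Fintype F]

/-- The radicals span the skew maps. -/
lemma so_le_of_radicals {V : Submodule F (Matrix (Fin k) (Fin k) F)}
    (h : ∀ p : S.Pr, ∀ w, p.InW w → S.N p.e w ∈ V) : S.so ≤ V := by
  have hef : ∀ p : S.Pr, S.N p.e p.f ∈ V := by
    intro p
    obtain ⟨a, ha, hQ⟩ := p.exists_aniso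
    set x := p.f + a + (-S.Q a) • p.e with hx
    set y := a + (-(2 * S.Q a)) • p.e with hy
    have hxx : S.bb x x = 0 := by
      rw [hx]
      simp only [S.bb_add_left, S.bb_add_right, S.bb_smul_left, S.bb_smul_right, p.he, p.hf, p.h1, p.h1', ha.1, ha.2,
        S.bb_comm a p.e, S.bb_comm a p.f, S.bb_self a]
      ring
    have hxy : S.bb x y = 0 := by
      rw [hx, hy]
      simp only [S.bb_add_left, S.bb_add_right, S.bb_smul_left, S.bb_smul_right, p.he, p.hf, p.h1, p.h1', ha.1, ha.2,
        S.bb_comm a p.e, S.bb_comm a p.f, S.bb_self a]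
      ring
    have hx0 : x ≠ 0 := fun h0 => by
      have := congrArg (S.bb p.e) h0
      rw [hx, S.bb_add_right, S.bb_add_right, S.bb_smul_right, p.h1, ha.1, p.he, S.bb_zero_right] at this
      simp at this
    obtain ⟨r, hr⟩ := exists_pr_of hxx hx0
    have hNxy : S.N x y ∈ V := by
      have hry : S.bb r.e y = 0 := by rw [hr]; exact hxy
      have e := r.eq_pr_add y
      rw [S.bb_comm y r.e, hry, zero_smul, add_zero] at e
      rw [← hr, e, S.N_add, S.N_smul, S.N_self, smul_zero, add_zero]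
      exact h r _ (r.pr_mem y)
    have e : (2 * S.Q a) • S.N p.e p.f = S.N x y - S.N p.f a - S.Q a • S.N p.e a := by
      rw [hx, hy]
      simp only [N, S.op_add_left, S.op_add_right, S.op_smul_left, S.op_smul_right]
      module
    have hmem : (2 * S.Q a) • S.N p.e p.f ∈ V := by
      rw [e]
      exact V.sub_mem (V.sub_mem hNxy (h p.swap a ha.swap)) (V.smul_mem _ (h p a ha))
    have := V.smul_mem (2 * S.Q a)⁻¹ hmem
    rwa [inv_smul_smul₀ (mul_ne_zero S.two hQ)] at this
  refine so_le_of_N fun x y => ?_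
  refine mem_of_singular (S := S)
    { carrier := {x | ∀ y, S.N x y ∈ V}
      zero_mem' := fun y => by rw [S.N_swap, S.N_zero, neg_zero]; exact V.zero_mem
      add_mem' := fun {a b} ha hb y => by
        rw [S.N_swap, S.N_add]; exact V.neg_mem (V.add_mem (by rw [S.N_swap]; exact V.neg_mem (ha y))
          (by rw [S.N_swap]; exact V.neg_mem (hb y)))
      neg_mem' := fun {a} ha y => by
        rw [S.N_swap, S.N_neg, neg_neg, S.N_swap]; exact V.neg_mem (ha y) } (fun e he y => ?_) x y
  rcases eq_or_ne e 0 with rfl | he0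
  · rw [S.N_swap, S.N_zero, neg_zero]; exact V.zero_mem
  obtain ⟨p, rfl⟩ := exists_pr_of he he0
  rw [p.eq_pr_add y, S.N_add, S.N_add, S.N_smul, S.N_smul, S.N_self, smul_zero, add_zero]
  exact V.add_mem (h p _ (p.pr_mem y)) (V.smul_mem _ (hef p))

/-- An isotropic direction of a radical needs dimension at least five. -/
lemma five_le_of_isotropic (hplane : k = 4 → S.NoPlane) (hnp3 : k = 3 → S.NoPlane) (p : S.Pr) {c : Fin k → F}
    (hc : p.InW c) (hc0 : c ≠ 0) (hQ : S.Q c = 0) : 5 ≤ k := by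
  by_contra hk
  have hn : S.NoPlane := by
    have := S.three_le
    rcases (show k = 3 ∨ k = 4 by omega) with h | h
    exacts [hnp3 h, hplane h]
  obtain ⟨r, hr⟩ := hn p.e c p.he ((S.Q_eq_zero_iff c).1 hQ) hc.1 p.e_ne
  have := congrArg (S.bb p.f) hr
  rw [S.bb_smul_right, p.h1', hc.2, mul_one] at this
  exact hc0 (by rw [← hr, this, zero_smul])

/-- A nonzero ideal of skew maps contains all of them. -/
theorem so_le_of_ideal (hplane : k = 4 → S.NoPlane) (hnp3 : k = 3 → S.NoPlane)
    {I : Submodule F (Matrix (Fin k) (Fin k) F)} (hI : I ≤ S.so)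
    (hbr : ∀ Y ∈ I, ∀ Z ∈ S.so, br Z Y ∈ I) {X : Matrix (Fin k) (Fin k) F} (hX : X ∈ I) (hX0 : X ≠ 0) :
    S.so ≤ I := by
  classical
  -- a map of a radical
  obtain ⟨p, c, hc, hc0, hcI⟩ : ∃ (p : S.Pr) (c : Fin k → F), p.InW c ∧ c ≠ 0 ∧ S.N p.e c ∈ I := by
    by_contra hcon
    push Not at hcon
    refine hX0 (eq_zero_of_br_br (hI hX) fun p w hw => ?_)
    obtain ⟨c, hc, hce⟩ := br_br_mem_Nr p hw (Submodule.mem_sup_left (hI hX) : X ∈ S.so1)
    have hm := hbr _ (hbr _ hX _ (S.N_mem_so p.e w)) _ (S.N_mem_so p.e w)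
    rcases eq_or_ne c 0 with rfl | h0
    · rw [hce, S.N_zero]
    · exact absurd (hce ▸ hm) (hcon p c hc h0)
  -- an anisotropic one
  obtain ⟨a, ha, hQ, haI⟩ : ∃ a, p.InW a ∧ S.Q a ≠ 0 ∧ S.N p.e a ∈ I := by
    by_cases hQc : S.Q c = 0
    swap
    · exact ⟨c, hc, hQc, hcI⟩
    have hk5 := five_le_of_isotropic hplane hnp3 p hc hc0 hQc
    have hcc := (S.Q_eq_zero_iff c).1 hQc
    obtain ⟨a, ha, hac⟩ : ∃ a, p.InW a ∧ S.bb c a ≠ 0 := by
      by_contra hcon
      push Not at hcon
      refine hc0 (S.eq_zero_of_bb fun u => ?_)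
      rw [p.eq_pr_add u, S.bb_add_left, S.bb_add_left, S.bb_smul_left, S.bb_smul_left, hc.1, hc.2,
        S.bb_comm (p.pr u) c, hcon _ (p.pr_mem u)]
      ring
    set γ := S.bb c a with hγ
    obtain ⟨d, hd, hQd⟩ := exists_aniso_perp (S := S)
      (D := Submodule.span F ({p.e, p.f, a, c} : Finset (Fin k → F)))
      (lt_of_le_of_lt ((finrank_span_finset_le_card _).trans Finset.card_le_four) hk5) fun v => by
        refine ⟨S.bb v p.f • p.e + S.bb v p.e • p.f + (S.bb v c / γ) • a +
          ((S.bb v a - (S.bb v c / γ) * S.bb a a) / γ) • c, ?_, fun u hu => ?_⟩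
        · exact Submodule.add_mem _ (Submodule.add_mem _ (Submodule.add_mem _
            (Submodule.smul_mem _ _ (Submodule.subset_span (by simp)))
            (Submodule.smul_mem _ _ (Submodule.subset_span (by simp))))
            (Submodule.smul_mem _ _ (Submodule.subset_span (by simp))))
            (Submodule.smul_mem _ _ (Submodule.subset_span (by simp)))
        · induction hu using Submodule.span_induction with
          | mem u hu =>
            simp only [Finset.coe_insert, Finset.coe_singleton, Set.mem_insert_iff, Set.mem_singleton_iff] at hu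
            rcases hu with h | h | h | h <;>
              simp only [h, S.bb_sub_right, S.bb_add_right, S.bb_smul_right, p.he, p.hf, p.h1, p.h1', ha.1, ha.2,
                hc.1, hc.2, hcc, S.bb_comm a p.e, S.bb_comm a p.f, S.bb_comm c p.e, S.bb_comm c p.f, ← hγ,
                show S.bb a c = γ by rw [hγ, S.bb_comm], S.bb_comm p.e v, S.bb_comm p.f v, S.bb_comm a v,
                S.bb_comm c v] <;>
              field_simp <;> ring
          | zero => rw [S.bb_zero_left]
          | add x y _ _ hx hy => rw [S.bb_add_left, hx, hy, add_zero]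
          | smul r x _ hx => rw [S.bb_smul_left, hx, mul_zero]
    have hdW : p.InW d := ⟨hd _ (Submodule.subset_span (by simp)), hd _ (Submodule.subset_span (by simp))⟩
    have had : S.bb a d = 0 := hd _ (Submodule.subset_span (by simp))
    have hcd : S.bb c d = 0 := hd _ (Submodule.subset_span (by simp))
    refine ⟨d, hdW, hQd, ?_⟩
    have h1 := hbr _ (hbr _ hcI _ (S.N_mem_so p.f a)) _ (S.N_mem_so p.e d)
    rw [br_br_N p ha hdW hc, S.bb_comm d a, had, hcd] at h1
    simp only [neg_zero, zero_smul, zero_add, zero_sub, ← neg_smul, S.N_smul] at h1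
    have := I.smul_mem (-γ)⁻¹ h1
    rwa [hγ, inv_smul_smul₀ (neg_ne_zero.2 hac)] at this
  -- the whole algebra
  have h2Q : -(2 * S.Q a) ≠ 0 := neg_ne_zero.2 (mul_ne_zero S.two hQ)
  have hW : ∀ d, p.InW d → S.N p.e d ∈ I := by
    intro d hd
    have := I.smul_mem (-(2 * S.Q a))⁻¹ (hbr _ (hbr _ haI _ (S.N_mem_so p.f a)) _ (S.N_mem_so p.e d))
    rwa [br_br_N p ha hd ha, S.bb_comm d, S.bb_self, show -S.bb a d • a + S.bb a d • a - (2 * S.Q a) • d =
      (-(2 * S.Q a)) • d by module, S.N_smul, inv_smul_smul₀ h2Q] at this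
  have hcx : ∀ c x, p.InW c → p.InW x → S.N c x - S.bb x c • S.N p.e p.f ∈ I := by
    intro c x hc hx
    have := hbr _ (hW x hx) _ (S.N_mem_so p.f c)
    rw [S.br_N (S.N_mem_so _ _), N_mulVec, N_mulVec, p.h1, hc.1, S.bb_comm x p.f, hx.2, one_smul, zero_smul,
      sub_zero, zero_smul, zero_sub, ← neg_smul, S.N_smul] at this
    convert this using 1
    module
  have hef : S.N p.e p.f ∈ I := by
    have := I.smul_mem (-(2 * S.Q a))⁻¹ (hcx _ _ ha ha)
    rwa [S.N_self, zero_sub, S.bb_self, ← neg_smul, inv_smul_smul₀ h2Q] at this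
  have hWW : ∀ c x, p.InW c → p.InW x → S.N c x ∈ I := fun c x hc hx => by
    have := I.add_mem (hcx c x hc hx) (I.smul_mem (S.bb x c) hef)
    rwa [sub_add_cancel] at this
  have hfc : ∀ c, p.InW c → S.N c p.f ∈ I := by
    intro c hc
    have := hbr _ hef _ (S.N_mem_so p.f c)
    rwa [S.br_N (S.N_mem_so _ _), N_mulVec, N_mulVec, p.h1, hc.1, p.hf, hc.2, one_smul, zero_smul,
      sub_zero, zero_smul, sub_zero, S.N_zero, add_zero] at this
  have hsw : ∀ {u v}, S.N u v ∈ I → S.N v u ∈ I := fun {u v} h => by rw [S.N_swap]; exact I.neg_mem h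
  have key : ∀ u, (u = p.e ∨ u = p.f ∨ p.InW u) → ∀ v, (v = p.e ∨ v = p.f ∨ p.InW v) → S.N u v ∈ I := by
    rintro u (rfl | rfl | hu) v (rfl | rfl | hv)
    · rw [S.N_self]; exact I.zero_mem
    · exact hef
    · exact hW v hv
    · exact hsw hef
    · rw [S.N_self]; exact I.zero_mem
    · exact hsw (hfc v hv)
    · exact hsw (hW u hu)
    · exact hfc u hu
    · exact hWW u v hu hv
  have hlin : ∀ u, (∀ v, (v = p.e ∨ v = p.f ∨ p.InW v) → S.N u v ∈ I) → ∀ v, S.N u v ∈ I := fun u hu v => by
    rw [p.eq_pr_add v, S.N_add, S.N_add, S.N_smul, S.N_smul]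
    exact I.add_mem (I.add_mem (hu _ (Or.inr (Or.inr (p.pr_mem v)))) (I.smul_mem _ (hu _ (Or.inl rfl))))
      (I.smul_mem _ (hu _ (Or.inr (Or.inl rfl))))
  exact so_le_of_N fun x y => hsw (hlin y (fun v hv => hsw (hlin v (fun v' hv' => key v hv v' hv') y)) x)

/-- The skew maps generate all maps. -/
theorem mem_of_mul_closed {A : Submodule F (Matrix (Fin k) (Fin k) F)} (hso : S.so ≤ A)
    (hmul : ∀ X ∈ A, ∀ Y ∈ A, X * Y ∈ A) (X : Matrix (Fin k) (Fin k) F) : X ∈ A := by
  classical
  have hP : ∀ p : S.Pr, S.P p.e ∈ A := by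
    intro p
    obtain ⟨a, ha, hQ⟩ := p.exists_aniso
    have := A.smul_mem (-(S.bb a a))⁻¹ (hmul _ (hso (S.N_mem_so p.e a)) _ (hso (S.N_mem_so p.e a)))
    rwa [S.N_mul_N p.he ha.1 ha.1, inv_smul_smul₀ (by
      rw [S.bb_self]; exact neg_ne_zero.2 (mul_ne_zero S.two hQ))] at this
  have hop : ∀ (p : S.Pr) x, S.op p.e x ∈ A := by
    intro p x
    have hY : ∀ u v, S.op p.e (-(S.N u v *ᵥ p.e)) ∈ A := fun u v => by
      have := hmul _ (hP p) _ (hso (S.N_mem_so u v))
      rwa [P, S.op_mul_mat, S.adj_N, Matrix.neg_mulVec] at this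
    have hf : S.op p.e p.f ∈ A := by
      have := hmul _ (hP p) _ (hP p.swap)
      rwa [P, P, S.op_mul, show p.swap.e = p.f from rfl, p.h1', one_smul] at this
    have hw : ∀ w, p.InW w → S.op p.e w ∈ A := fun w hw => by
      have := A.smul_mem (-1 : F) (hY p.f w)
      rw [N_mulVec, p.h1, hw.1, one_smul, zero_smul, sub_zero, ← neg_one_smul F w, S.op_smul_right, smul_smul] at this
      simpa using this
    rw [p.eq_pr_add x, S.op_add_right, S.op_add_right, S.op_smul_right, S.op_smul_right]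
    exact A.add_mem (A.add_mem (hw _ (p.pr_mem x)) (A.smul_mem _ (hP p))) (A.smul_mem _ hf)
  have hall : ∀ u v, S.op u v ∈ A := fun u v =>
    mem_of_singular (S := S)
      { carrier := {u | ∀ v, S.op u v ∈ A}
        zero_mem' := fun v => by rw [S.op_zero_left]; exact A.zero_mem
        add_mem' := fun {a b} ha hb v => by rw [S.op_add_left]; exact A.add_mem (ha v) (hb v)
        neg_mem' := fun {a} ha v => by
          rw [← neg_one_smul F a, S.op_smul_left]; exact A.smul_mem _ (ha v) }
      (fun e he v => by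
        rcases eq_or_ne e 0 with rfl | he0
        · rw [S.op_zero_left]; exact A.zero_mem
        · obtain ⟨p, rfl⟩ := exists_pr_of he he0
          exact hop p v) u v
  choose d hd using fun j : Fin k => S.mulVec_G_surj (Pi.single j 1)
  have e : X = ∑ j, S.op (X *ᵥ Pi.single j 1) (d j) := by
    ext a b
    simp [Matrix.sum_apply, op, hd, Matrix.vecMulVec_apply, Pi.single_apply]
  rw [e]
  exact A.sum_mem fun j _ => hall _ _

end Sym

end CfsgLib.ClassicalMax.OWr
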