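/-
Sums over the orbits of finite additive groups, and of conjugates by exponentials of degree two.
-/
import Cfsg.Agent.Lib.ClassicalMax.OrthWreath.FixPerm
set_option autoImplicit false
set_option linter.unusedSectionVars false
set_option linter.unusedVariables false
set_option linter.unusedSimpArgs false

namespace CfsgLib.ClassicalMax.OWr

open Matrix Cfsg.Geo
open CfsgLib.ClassicalMax.TWreath

section Orbit

variable {G α : Type*} [AddCommGroup G] [Fintype G] [DecidableEq α]

/-- The orbit of a point. -/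
def orb (act : G → α → α) (q : α) : Finset α := Finset.univ.image fun g => act g q

variable {act : G → α → α} (hadd : ∀ g h q, act g (act h q) = act (g + h) q) (hzero : ∀ q, act 0 q = q)
include hadd hzero

omit [Fintype G] [DecidableEq α] in
lemma act_neg (g : G) (q : α) : act (-g) (act g q) = q := by rw [hadd, neg_add_cancel, hzero]

lemma mem_orb_self (q : α) : q ∈ orb act q := Finset.mem_image.2 ⟨0, Finset.mem_univ _, hzero q⟩

lemma orb_eq {q x : α} (hx : x ∈ orb act q) : orb act x = orb act q := by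
  obtain ⟨g, -, rfl⟩ := Finset.mem_image.1 hx
  ext y
  simp only [orb, Finset.mem_image, Finset.mem_univ, true_and, hadd]
  constructor
  · rintro ⟨h, rfl⟩; exact ⟨h + g, rfl⟩
  · rintro ⟨h, rfl⟩; exact ⟨h - g, by rw [sub_add_cancel]⟩

/-- The sum is carried by the fixed points. -/
lemma sum_orbits [Fintype α] [DecidablePred fun q : α => ∀ g, act g q = q] {B : Type*} [AddCommMonoid B]
    (Φ : α → B) (h : ∀ q, (¬ ∀ g, act g q = q) → ∑ x ∈ orb act q, Φ x = 0) :
    ∑ q, Φ q = ∑ q ∈ Finset.univ.filter (fun q => ∀ g, act g q = q), Φ q := by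
  classical
  rw [← Finset.sum_filter_add_sum_filter_not Finset.univ (fun q => ∀ g, act g q = q) Φ]
  suffices h0 : ∑ q ∈ Finset.univ.filter (fun q => ¬ ∀ g, act g q = q), Φ q = 0 by rw [h0, add_zero]
  rw [← Finset.sum_fiberwise_of_maps_to (g := orb act) (t := (Finset.univ.filter fun q => ¬ ∀ g, act g q = q).image
    (orb act)) fun x hx => Finset.mem_image_of_mem _ hx]
  refine Finset.sum_eq_zero fun B hB => ?_
  obtain ⟨q, hq, rfl⟩ := Finset.mem_image.1 hB
  have hq' := (Finset.mem_filter.1 hq).2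
  refine (Finset.sum_congr ?_ fun _ _ => rfl).trans (h q hq')
  ext x
  simp only [Finset.mem_filter, Finset.mem_univ, true_and]
  refine ⟨fun hx => hx.2 ▸ mem_orb_self hadd hzero x, fun hx => ⟨fun hfix => hq' ?_, orb_eq hadd hzero hx⟩⟩
  obtain ⟨g, -, rfl⟩ := Finset.mem_image.1 hx
  intro g'
  have hq0 : act g q = q := by
    conv_rhs => rw [← act_neg hadd hzero g q, hfix]
  rw [← hq0]; exact hfix g'

/-- The congruence modulo `p` of the fixed points. -/
lemma card_fixed [Fintype α] [DecidablePred fun q : α => ∀ g, act g q = q] {p : ℕ} [Fact p.Prime]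
    (hp : ∀ g : G, p • g = 0) :
    Fintype.card α ≡ (Finset.univ.filter fun q => ∀ g, act g q = q).card [MOD p] := by
  classical
  letI : MulAction (Multiplicative G) α :=
    { smul := fun g q => act g.toAdd q
      one_smul := fun q => hzero q
      mul_smul := fun g h q => (hadd g.toAdd h.toAdd q).symm }
  have hG : IsPGroup p (Multiplicative G) := fun g => ⟨1, by rw [pow_one]; exact hp g.toAdd⟩
  have := hG.card_modEq_card_fixedPoints α
  rw [Nat.card_eq_fintype_card] at this
  refine this.trans (congrArg (· % p) ?_)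
  rw [← Fintype.card_coe, ← Nat.card_eq_fintype_card]
  exact Nat.card_congr (Equiv.subtypeEquivRight fun q => by
    simp only [MulAction.mem_fixedPoints, Finset.mem_filter, Finset.mem_univ, true_and]
    exact ⟨fun h g => h (Multiplicative.ofAdd g), fun h g => h g.toAdd⟩)

lemma card_orb {p : ℕ} [Fact p.Prime] (hp : ∀ g : G, p • g = 0) {q : α} (hq : ¬ ∀ g, act g q = q) :
    p ∣ (orb act q).card := by
  classical
  letI : MulAction (Multiplicative G) α :=
    { smul := fun g q => act g.toAdd q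
      one_smul := fun q => hzero q
      mul_smul := fun g h q => (hadd g.toAdd h.toAdd q).symm }
  have hG : IsPGroup p (Multiplicative G) := fun g => ⟨1, by rw [pow_one]; exact hp g.toAdd⟩
  haveI : Finite (MulAction.orbit (Multiplicative G) q) := Finite.Set.finite_range _
  obtain ⟨n, hn⟩ := hG.card_orbit q
  have hc : Nat.card (MulAction.orbit (Multiplicative G) q) = (orb act q).card := by
    rw [← Fintype.card_coe, ← Nat.card_eq_fintype_card]
    exact Nat.card_congr (Equiv.subtypeEquivRight fun x => by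
      simp only [MulAction.mem_orbit_iff, orb, Finset.mem_image, Finset.mem_univ, true_and]
      exact ⟨fun ⟨g, h⟩ => ⟨g.toAdd, h⟩, fun ⟨g, h⟩ => ⟨Multiplicative.ofAdd g, h⟩⟩)
  rcases n with _ | n
  · rw [hc, pow_zero, Finset.card_eq_one] at hn
    obtain ⟨a, ha⟩ := hn
    refine absurd (fun g => ?_) hq
    have h1 : q = a := Finset.mem_singleton.1 (ha ▸ mem_orb_self hadd hzero q)
    have h2 : act g q = a := Finset.mem_singleton.1 (ha ▸ Finset.mem_image_of_mem _ (Finset.mem_univ g))
    rw [h2, ← h1]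
  · rw [← hc, hn]; exact dvd_pow_self p (Nat.succ_ne_zero n)

lemma sum_orb_free {B : Type*} [AddCommMonoid B] (Φ : α → B) {q : α} (hfree : ∀ g, act g q = q → g = 0) :
    ∑ x ∈ orb act q, Φ x = ∑ g, Φ (act g q) := by
  refine Finset.sum_image fun g _ h _ e => ?_
  have := congrArg (act (-h)) e
  simp only [hadd, neg_add_cancel, hzero] at this
  have := hfree _ this
  rw [neg_add_eq_zero] at this
  exact this.symm

end Orbit

section Line

variable {F : Type*} [Field F] {A : Type*} [Ring A] [Algebra F A]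

/-- Conjugation by an exponential of degree two. -/
lemma ex_conj (N D : A) (s : F) :
    ex F (s • N) * D * ex F (-(s • N)) = D + s • (N * D - D * N) +
      s ^ 2 • ((2⁻¹ : F) • (N * N * D) - N * D * N + (2⁻¹ : F) • (D * (N * N))) +
      s ^ 3 • ((2⁻¹ : F) • (N * D * (N * N)) - (2⁻¹ : F) • (N * N * D * N)) +
      s ^ 4 • ((2⁻¹ * 2⁻¹ : F) • (N * N * D * (N * N))) := by
  simp only [ex, add_mul, mul_add, neg_mul, mul_neg, neg_neg, smul_mul_assoc, mul_smul_comm, one_mul, mul_one,
    mul_assoc, smul_smul, smul_neg]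
  match_scalars <;> ring

/-- The second and fourth degree parts of a conjugation. -/
def even2 (F : Type*) [Field F] {A : Type*} [Ring A] [Algebra F A] (N D : A) : A :=
  ((2⁻¹ : F) • (N * N * D) - N * D * N + (2⁻¹ : F) • (D * (N * N))) + (2⁻¹ * 2⁻¹ : F) • (N * N * D * (N * N))

variable [Fintype F]

lemma sum_line (hq : 5 ≤ Fintype.card F) (N D : A) :
    ∑ s : F, ex F (s • N) * D * ex F (-(s • N)) =
      (∑ s : F, s ^ 4) • ((2⁻¹ * 2⁻¹ : F) • (N * N * D * (N * N))) := by
  have h : ∀ j < 4, ∑ s : F, s ^ j = 0 := fun j hj => FiniteField.sum_pow_lt_card_sub_one F j (by omega)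
  have h0 : (Fintype.card F : F) = 0 := FiniteField.cast_card_eq_zero F
  simp only [ex_conj, Finset.sum_add_distrib, ← Finset.sum_smul, h 2 (by norm_num), h 3 (by norm_num),
    zero_smul, add_zero, Finset.sum_const, Finset.card_univ, ← Nat.cast_smul_eq_nsmul F, h0, zero_add]
  rw [show ∑ s : F, s = 0 by simpa using h 1 (by norm_num), zero_smul, zero_add]

lemma sum_fourth_big (hq : 7 ≤ Fintype.card F) : ∑ s : F, s ^ 4 = 0 :=
  FiniteField.sum_pow_lt_card_sub_one F 4 (by omega)

lemma pow_three_of_card (hq : Fintype.card F = 3) (s : F) : s ^ 3 = s := by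
  have := FiniteField.pow_card s
  rwa [hq] at this

lemma sum_line_three (hq : Fintype.card F = 3) (N D : A) :
    ∑ s : F, ex F (s • N) * D * ex F (-(s • N)) = -even2 F N D := by
  classical
  have hp := pow_three_of_card hq
  have h4 : ∀ s : F, s ^ 4 = s ^ 2 := fun s => by rw [pow_succ, hp, pow_two]
  have h1 : ∑ s : F, s = 0 := by
    simpa using FiniteField.sum_pow_lt_card_sub_one F 1 (by omega)
  have h30 : (3 : F) = 0 := by
    have := FiniteField.cast_card_eq_zero F
    rw [hq] at this
    exact_mod_cast this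
  have h2 : ∑ s : F, s ^ 2 = -1 := by
    rw [← Finset.add_sum_erase _ _ (Finset.mem_univ (0 : F)), Finset.sum_congr rfl fun s hs => ?_,
      Finset.sum_const, Finset.card_erase_of_mem (Finset.mem_univ _), Finset.card_univ, hq, nsmul_one]
    · push_cast
      linear_combination h30
    · have := FiniteField.pow_card_sub_one_eq_one s (Finset.ne_of_mem_erase hs)
      rwa [hq] at this
  simp only [ex_conj, Finset.sum_add_distrib, ← Finset.sum_smul, hp, h4, h1, h2, zero_smul, add_zero,
    Finset.sum_const, Finset.card_univ, hq, ← Nat.cast_smul_eq_nsmul F, Nat.cast_ofNat, h30, zero_add, even2]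
  module

/-- Two commuting anisotropic directions leave a sandwich. -/
lemma even2_even2 {Z N N' D : A} {α β : F} (h : N * N' = 0) (h' : N' * N = 0) (hN : N * N = α • Z)
    (hN' : N' * N' = β • Z) (hZN : Z * N = 0) (hNZ : N * Z = 0) (hZN' : Z * N' = 0) (hN'Z : N' * Z = 0)
    (hZZ : Z * Z = 0) : ∃ c : F, even2 F N (even2 F N' D) = c • (Z * D * Z) := by
  refine ⟨2⁻¹ * 2⁻¹ * (α * β) + 2⁻¹ * 2⁻¹ * (α * β), ?_⟩
  have a1 : ∀ y, N * (N' * y) = 0 := fun y => by rw [← mul_assoc, h, zero_mul]
  have a2 : ∀ y, N' * (N * y) = 0 := fun y => by rw [← mul_assoc, h', zero_mul]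
  have a3 : ∀ y, N * (N * y) = α • (Z * y) := fun y => by rw [← mul_assoc, hN, smul_mul_assoc]
  have a4 : ∀ y, N' * (N' * y) = β • (Z * y) := fun y => by rw [← mul_assoc, hN', smul_mul_assoc]
  have a5 : ∀ y, Z * (N * y) = 0 := fun y => by rw [← mul_assoc, hZN, zero_mul]
  have a6 : ∀ y, Z * (N' * y) = 0 := fun y => by rw [← mul_assoc, hZN', zero_mul]
  have a7 : ∀ y, N * (Z * y) = 0 := fun y => by rw [← mul_assoc, hNZ, zero_mul]
  have a8 : ∀ y, N' * (Z * y) = 0 := fun y => by rw [← mul_assoc, hN'Z, zero_mul]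
  have a9 : ∀ y, Z * (Z * y) = 0 := fun y => by rw [← mul_assoc, hZZ, zero_mul]
  simp only [even2, mul_add, add_mul, mul_sub, sub_mul, smul_mul_assoc, mul_smul_comm, smul_add, smul_sub, smul_smul,
    mul_assoc, h, h', hN, hN', hZN, hNZ, hZN', hN'Z, hZZ, a1, a2, a3, a4, a5, a6, a7, a8, a9, mul_zero, smul_zero,
    zero_mul, add_zero, zero_add, sub_zero]
  match_scalars <;> ring

end Line

section Periodic

variable {F : Type*} [Field F] {k t : ℕ} [Fintype F]

/-- A periodic conjugation has constant even part. -/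
lemma ex_periodic (h3 : (3 : F) = 0) (h2 : (2 : F) ≠ 0) (hq : 5 ≤ Fintype.card F) {c : F} (hc : c ≠ 0)
    (N D : Matrix (Fin t → Fin k) (Fin t → Fin k) F)
    (hper : ∀ s : F, ex F ((s + c) • N) * D * ex F (-((s + c) • N)) = ex F (s • N) * D * ex F (-(s • N))) (s : F) :
    ex F (s • N) * D * ex F (-(s • N)) + ex F ((-s) • N) * D * ex F (-((-s) • N)) = (2 : F) • D := by
  set D1 := N * D - D * N
  set D2 := (2⁻¹ : F) • (N * N * D) - N * D * N + (2⁻¹ : F) • (D * (N * N))
  set D3 := (2⁻¹ : F) • (N * D * (N * N)) - (2⁻¹ : F) • (N * N * D * N)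
  set D4 := (2⁻¹ * 2⁻¹ : F) • (N * N * D * (N * N))
  have key : ∀ a b, D4 a b = 0 ∧ D2 a b = 0 := by
    intro a b
    obtain ⟨-, e1, -, e3, -⟩ := quartic_zero (Z := Finset.univ) (by rwa [Finset.card_univ])
      (c0 := c * D1 a b + c ^ 2 * D2 a b + c ^ 3 * D3 a b + c ^ 4 * D4 a b)
      (c1 := 2 * c * D2 a b + 3 * c ^ 2 * D3 a b + 4 * c ^ 3 * D4 a b)
      (c2 := 3 * c * D3 a b + 6 * c ^ 2 * D4 a b) (c3 := 4 * c * D4 a b) (c4 := 0) fun s _ => by
        have h := congrFun (congrFun (hper s) a) b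
        rw [ex_conj, ex_conj] at h
        simp only [D1, D2, D3, D4, Matrix.add_apply, Matrix.sub_apply, Matrix.smul_apply (α := F), smul_eq_mul] at h ⊢
        linear_combination h
    have e4 : D4 a b = 0 := (mul_eq_zero.1 (by linear_combination e3 - c * D4 a b * h3 :
      c * D4 a b = 0)).resolve_left hc
    refine ⟨e4, ?_⟩
    rw [e4, mul_zero, add_zero, h3, zero_mul, zero_mul, add_zero] at e1
    exact (mul_eq_zero.1 e1).resolve_left (mul_ne_zero h2 hc)
  have hD4 : D4 = 0 := Matrix.ext fun a b => (key a b).1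
  have hD2 : D2 = 0 := Matrix.ext fun a b => (key a b).2
  rw [ex_conj, ex_conj]
  show D + s • D1 + s ^ 2 • D2 + s ^ 3 • D3 + s ^ 4 • D4 +
    (D + (-s) • D1 + (-s) ^ 2 • D2 + (-s) ^ 3 • D3 + (-s) ^ 4 • D4) = _
  rw [hD2, hD4]
  match_scalars <;> ring

end Periodic

end CfsgLib.ClassicalMax.OWr
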