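/-
Averaging over the cosets of the wreath group: definitions and fixed cosets.
-/
import Cfsg.Agent.Lib.ClassicalMax.OrthWreath.Norm
import Cfsg.Agent.Lib.ClassicalMax.OrthWreath.Sum
import Cfsg.Agent.Lib.ClassicalMax.OrthWreath.Simple
set_option autoImplicit false
set_option linter.unusedSectionVars false
set_option linter.unusedVariables false
set_option linter.unusedSimpArgs false

namespace CfsgLib.ClassicalMax.OWr

open Matrix Cfsg.Geo
open CfsgLib.ClassicalMax.TWreath

variable {F : Type*} [Field F] {k t : ℕ}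

/-- The cosets of the wreath group. -/
abbrev Cos (M : Subgroup (GL (Fin t → Fin k) F)) : Type _ := M ⧸ (tensorWreathStandard k t F).subgroupOf M

noncomputable instance [Fintype F] (M : Subgroup (GL (Fin t → Fin k) F)) : Fintype (Cos M) := Fintype.ofFinite _

/-- The conjugated projection at a member. -/
def conjP (M : Subgroup (GL (Fin t → Fin k) F)) (g : M) :
    Matrix (Fin t → Fin k) (Fin t → Fin k) F →ₗ[F] Matrix (Fin t → Fin k) (Fin t → Fin k) F where
  toFun ψ := g.1.val * proj ((g.1⁻¹).val * ψ * g.1.val) * (g.1⁻¹).val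
  map_add' a b := by simp only [mul_add, add_mul, map_add]
  map_smul' c a := by simp only [mul_smul_comm, smul_mul_assoc, map_smul, RingHom.id_apply]

lemma conjP_apply (M : Subgroup (GL (Fin t → Fin k) F)) (g : M) (ψ : Matrix (Fin t → Fin k) (Fin t → Fin k) F) :
    conjP M g ψ = g.1.val * proj ((g.1⁻¹).val * ψ * g.1.val) * (g.1⁻¹).val := rfl

lemma conjP_mul_std {M : Subgroup (GL (Fin t → Fin k) F)} (g h : M)
    (hh : h.1 ∈ tensorWreathStandard k t F) (ψ : Matrix (Fin t → Fin k) (Fin t → Fin k) F) :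
    conjP M (g * h) ψ = conjP M g ψ := by
  have hh' : (h.1⁻¹) ∈ tensorWreathStandard k t F := inv_mem hh
  have e : (((g * h : M) : GL (Fin t → Fin k) F)⁻¹).val * ψ * ((g * h : M) : GL (Fin t → Fin k) F).val
      = (h.1⁻¹).val * ((g.1⁻¹).val * ψ * g.1.val) * (h.1⁻¹)⁻¹.val := by
    rw [Subgroup.coe_mul, _root_.mul_inv_rev, Units.val_mul, Units.val_mul, inv_inv]
    simp only [mul_assoc]
  rw [conjP_apply, conjP_apply, e, proj_conj hh', Subgroup.coe_mul, _root_.mul_inv_rev, Units.val_mul, Units.val_mul,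
    inv_inv]
  simp only [mul_assoc]
  rw [← mul_assoc h.1.val (h.1⁻¹).val, Units.mul_inv, one_mul,
    ← mul_assoc h.1.val (h.1⁻¹).val ((g.1⁻¹).val), Units.mul_inv, one_mul]

lemma conjP_out {M : Subgroup (GL (Fin t → Fin k) F)} (g : M) (ψ : Matrix (Fin t → Fin k) (Fin t → Fin k) F) :
    conjP M (Quotient.out (QuotientGroup.mk g : Cos M)) ψ = conjP M g ψ := by
  obtain ⟨h, hh⟩ := QuotientGroup.mk_out_eq_mul ((tensorWreathStandard k t F).subgroupOf M) g
  rw [hh, conjP_mul_std g h h.2]

/-- The average. -/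
noncomputable def avg [Fintype F] (M : Subgroup (GL (Fin t → Fin k) F)) :
    Matrix (Fin t → Fin k) (Fin t → Fin k) F →ₗ[F] Matrix (Fin t → Fin k) (Fin t → Fin k) F :=
  ∑ q : Cos M, conjP M q.out

lemma conjP_smul {M : Subgroup (GL (Fin t → Fin k) F)} (a : M) (q : Cos M)
    (ψ : Matrix (Fin t → Fin k) (Fin t → Fin k) F) :
    conjP M (a • q).out ψ = a.1.val * conjP M q.out ((a.1⁻¹).val * ψ * a.1.val) * (a.1⁻¹).val := by
  induction q using QuotientGroup.induction_on with
  | H g =>
    rw [MulAction.Quotient.smul_mk, smul_eq_mul, conjP_out, conjP_out]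
    simp only [conjP_apply, Subgroup.coe_mul, _root_.mul_inv_rev, Units.val_mul, mul_assoc]

lemma avg_conj [Fintype F] {M : Subgroup (GL (Fin t → Fin k) F)} (m : M)
    (ψ : Matrix (Fin t → Fin k) (Fin t → Fin k) F) :
    avg M (m.1.val * ψ * (m.1⁻¹).val) = m.1.val * avg M ψ * (m.1⁻¹).val := by
  simp only [avg, LinearMap.sum_apply, Finset.mul_sum, Finset.sum_mul]
  rw [← Equiv.sum_comp (MulAction.toPerm m)]
  refine Finset.sum_congr rfl fun q _ => ?_
  rw [MulAction.toPerm_apply, conjP_smul]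
  simp only [mul_assoc, Units.inv_mul, mul_one, ← mul_assoc (m.1⁻¹).val m.1.val, one_mul]

lemma smul_fix_iff {M : Subgroup (GL (Fin t → Fin k) F)} (a g : M) :
    a • (QuotientGroup.mk g : Cos M) = QuotientGroup.mk g ↔ g.1⁻¹ * a.1 * g.1 ∈ tensorWreathStandard k t F := by
  rw [MulAction.Quotient.smul_mk, smul_eq_mul, QuotientGroup.eq, Subgroup.mem_subgroupOf,
    ← inv_mem_iff (x := g.1⁻¹ * a.1 * g.1)]
  simp [_root_.mul_inv_rev, mul_assoc]

namespace Sym

variable {S : Sym F k}

lemma trace_adj (Y : Matrix (Fin k) (Fin k) F) : (S.adj Y).trace = Y.trace := by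
  rw [adj, Matrix.trace_mul_comm, ← mul_assoc, S.mul_Gi, one_mul, Matrix.trace_transpose]

lemma trace_so {Y : Matrix (Fin k) (Fin k) F} (hY : Y ∈ S.so) : Y.trace = 0 := by
  have := S.trace_adj Y
  rw [S.mem_so.1 hY, Matrix.trace_neg, neg_eq_iff_add_eq_zero, ← two_mul] at this
  exact (mul_eq_zero.1 this).resolve_left S.two

lemma ptr_adjB (i : Fin t) (X : Matrix (Fin t → Fin k) (Fin t → Fin k) F) :
    ptr i (S.adjB X) = S.adj (ptr i X) := by
  suffices h : ptr i ∘ₗ S.adjB = S.adjL ∘ₗ ptr (t := t) i by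
    simpa [S.adjL_apply] using LinearMap.congr_fun h X
  refine ext_pmat fun A => ?_
  show ptr i (S.adjB (pmat A)) = S.adj (ptr i (pmat A))
  rw [S.adjB_pmat, ptr_pmat, ptr_pmat, S.adj_smul]
  simp only [S.trace_adj]

lemma eq_zero_of_slots {Y : Fin t → Matrix (Fin k) (Fin k) F} (hY : ∀ l, Y l ∈ S.so)
    (h : ∑ l, slot l (Y l) = 0) (l : Fin t) : Y l = 0 := by
  classical
  have hk := S.three_le
  let a : Fin t → Fin k := fun _ => ⟨0, by omega⟩
  have e : ∀ m, m ≠ l → comp l a a (slot m (Y m)) = Y m (a m) (a m) • (1 : Matrix (Fin k) (Fin k) F) := fun m hm => by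
    rw [slot_eq, comp_pmat, Function.update_of_ne hm.symm, Pi.one_apply,
      ← Finset.mul_prod_erase _ _ (Finset.mem_erase.2 ⟨hm, Finset.mem_univ m⟩), Function.update_self,
      Finset.prod_eq_one, mul_one]
    intro n hn
    rw [Function.update_of_ne (Finset.ne_of_mem_erase hn), Pi.one_apply, Matrix.one_apply_eq]
  have e' : comp l a a (slot l (Y l)) = Y l := by
    rw [slot_eq, comp_pmat, Function.update_self, Finset.prod_eq_one, one_smul]
    intro n hn
    rw [Function.update_of_ne (Finset.ne_of_mem_erase hn), Pi.one_apply, Matrix.one_apply_eq]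
  have h0 := congrArg (comp l a a) h
  rw [map_sum, map_zero, ← Finset.add_sum_erase _ _ (Finset.mem_univ l), e',
    Finset.sum_congr rfl fun m hm => e m (Finset.ne_of_mem_erase hm), ← Finset.sum_smul] at h0
  set c := ∑ m ∈ Finset.univ.erase l, Y m (a m) (a m)
  have h1 := congrArg S.adj h0
  rw [S.adj_add, S.mem_so.1 (hY l), S.adj_smul, S.adj_one, S.adj_zero] at h1
  have h2 : (2 : F) • Y l = 0 := by
    rw [two_smul, ← sub_eq_zero.2 (h0.trans h1.symm)]; abel
  exact (smul_eq_zero.1 h2).resolve_left S.two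

lemma slots_bracket (Y Y' : Fin t → Matrix (Fin k) (Fin k) F) :
    (∑ l, slot l (Y l)) * (∑ l, slot l (Y' l)) - (∑ l, slot l (Y' l)) * (∑ l, slot l (Y l)) =
      ∑ l, slot l (br (Y l) (Y' l)) := by
  classical
  rw [Finset.sum_mul_sum, Finset.sum_mul_sum, Finset.sum_comm (f := fun a b => slot a (Y' a) * slot b (Y b)),
    ← Finset.sum_sub_distrib]
  refine Finset.sum_congr rfl fun l _ => ?_
  rw [← Finset.sum_sub_distrib, Finset.sum_eq_single l (fun m _ hm => ?_) (by simp), br_apply, map_sub, map_mul,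
    map_mul]
  rw [slot_comm hm.symm, sub_self]

variable [Fintype F] {M : Subgroup (GL (Fin t → Fin k) F)} (H : S.Over M) (hadm : S.Adm) (hno : S.NoRoot M)
include H

lemma zGL_mem (i : Fin t) (p : S.Pr) {x : Fin k → F} (hx : p.InW x) : S.zGL i p x hx ∈ M := by
  obtain ⟨u, hu, he⟩ := H.z_mem i p.he hx.1
  rwa [show u = S.zGL i p x hx from Units.ext he] at hu

/-- The member of a radical of a slot. -/
def zM (i : Fin t) (p : S.Pr) (x : Fin k → F) (hx : p.InW x) : M := ⟨S.zGL i p x hx, S.zGL_mem H i p hx⟩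

omit H in
lemma zGL_ex (i : Fin t) (p : S.Pr) {x : Fin k → F} (hx : p.InW x) :
    (S.zGL i p x hx).val = ex F (slot i (S.N p.e x)) := by
  have e := zGL_val i p x hx 1
  simp only [one_smul, one_pow, mul_one] at e
  rw [ex, ← e]

omit H in
lemma zGL_inv (i : Fin t) (p : S.Pr) {x : Fin k → F} (hx : p.InW x) :
    (S.zGL i p x hx)⁻¹ = S.zGL i p (-x) hx.neg := by
  refine inv_eq_of_mul_eq_one_right (Units.ext ?_)
  show slot i (S.z p.e x) * slot i (S.z p.e (-x)) = 1
  rw [← map_mul, S.z_inv p.he hx.1, map_one]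

include hadm hno

/-- The data of a fixed coset. -/
lemma fix_data {g : M} {i : Fin t} {p : S.Pr} {x : Fin k → F} (hx : p.InW x) (hQ : S.Q x ≠ 0)
    (hfix : g.1⁻¹ * S.zGL i p x hx * g.1 ∈ tensorWreathStandard k t F)
    (h3 : (3 : F) = 0 → k = 3 → 9 ≤ Fintype.card F ∧
      ∀ s : F, g.1⁻¹ * S.zGL i p (s • x) (hx.smul s) * g.1 ∈ tensorWreathStandard k t F) :
    ∃ (j : Fin t) (q : S.Pr) (a : Fin k → F), q.InW a ∧ S.Q a ≠ 0 ∧
      (g.1⁻¹).val * slot i (S.N p.e x) * ((g.1⁻¹)⁻¹).val = slot j (S.N q.e a) :=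
  fix_slot hadm.2 (inv_mem (H.le g.2)) i p hx hQ (by rwa [inv_inv])
    fun h k3 => ⟨(h3 h k3).1, fun s => by rw [inv_inv]; exact (h3 h k3).2 s⟩

/-- A fixed coset is fixed by the whole radical and contributes the projection. -/
lemma fix_radical {g : M} {i : Fin t} {p : S.Pr} {x : Fin k → F} (hx : p.InW x) (hQ : S.Q x ≠ 0)
    (hfix : g.1⁻¹ * S.zGL i p x hx * g.1 ∈ tensorWreathStandard k t F)
    (h3 : (3 : F) = 0 → k = 3 → 9 ≤ Fintype.card F ∧
      ∀ s : F, g.1⁻¹ * S.zGL i p (s • x) (hx.smul s) * g.1 ∈ tensorWreathStandard k t F) :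
    (∀ y (hy : p.InW y), g.1⁻¹ * S.zGL i p y hy * g.1 ∈ tensorWreathStandard k t F) ∧
      ∀ w, p.InW w → ∀ B : Fin t → Matrix (Fin k) (Fin k) F, B i = 1 →
        conjP M g (slot i (S.N p.e w) * pmat B) = proj (slot i (S.N p.e w) * pmat B) := by
  classical
  obtain ⟨j, q, a, ha, hQa, heq⟩ := fix_data H hadm hno hx hQ hfix h3
  obtain ⟨A, ν, hν, -, -, hA⟩ := exists_intertwiner H hadm hno (M.inv_mem g.2) hx hQ ha hQa heq
  set k0 := pmatGL (Function.update 1 j A) * permGL (Equiv.swap i j) with hk0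
  have hk0std : k0 ∈ tensorWreathStandard k t F := mem_std_iff.2 ⟨_, _, rfl⟩
  have hk0conj : ∀ y, p.InW y → (g.1⁻¹).val * slot i (S.N p.e y) * g.1.val =
      k0.val * slot i (S.N p.e y) * (k0⁻¹).val := fun y hy => by
    have := hA y hy
    rw [inv_inv] at this
    rw [this, hk0, conj_std_slot, Equiv.swap_apply_left, Function.update_self]
  clear_value k0
  set g0 := g.1 * k0 with hg0
  have hcomm : ∀ y, p.InW y → slot i (S.N p.e y) * g0.val = g0.val * slot i (S.N p.e y) := by
    intro y hy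
    have h1 := hk0conj y hy
    calc slot i (S.N p.e y) * g0.val
        = g.1.val * ((g.1⁻¹).val * slot i (S.N p.e y) * g.1.val) * k0.val := by
          rw [hg0, Units.val_mul]
          simp only [← mul_assoc, Units.mul_inv, one_mul]
      _ = _ := by
          rw [h1, hg0, Units.val_mul]
          simp only [mul_assoc, Units.inv_mul, mul_one]
  have hgk : g.1 = g0 * k0⁻¹ := by rw [hg0, mul_inv_cancel_right]
  clear_value g0
  refine ⟨fun y hy => ?_, fun w hw B hB => ?_⟩
  · have hz : S.zGL i p y hy * g0 = g0 * S.zGL i p y hy := Units.ext (by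
      rw [Units.val_mul, Units.val_mul, zGL_ex i p hy]
      simp only [ex, add_mul, mul_add, one_mul, mul_one, smul_mul_assoc, mul_smul_comm, mul_assoc, hcomm y hy]
      congr 2
      rw [← mul_assoc, hcomm y hy, mul_assoc])
    rw [hgk, show (g0 * k0⁻¹)⁻¹ * S.zGL i p y hy * (g0 * k0⁻¹) = k0 * (g0⁻¹ * (S.zGL i p y hy * g0)) * k0⁻¹ by group,
      hz, inv_mul_cancel_left]
    exact mul_mem (mul_mem hk0std (S.slotGL_mem_std _ _ _)) (inv_mem hk0std)
  · rw [← proj_fixed hw hcomm hB, conjP_apply, hgk, _root_.mul_inv_rev, inv_inv, Units.val_mul, Units.val_mul]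
    simp only [mul_assoc]
    rw [show k0.val * ((g0⁻¹).val * (slot i (S.N p.e w) * (pmat B * (g0.val * (k0⁻¹).val)))) =
      k0.val * ((g0⁻¹).val * (slot i (S.N p.e w) * pmat B) * g0.val) * (k0⁻¹).val by simp only [mul_assoc],
      proj_conj hk0std]
    simp only [mul_assoc]
    rw [← mul_assoc (k0⁻¹).val k0.val, Units.inv_mul, one_mul, ← mul_assoc (k0⁻¹).val k0.val, Units.inv_mul, one_mul]

/-- The number of cosets fixed by all radicals of a pair. -/
lemma card_cos_cast (ht : 0 < t) {p : ℕ} [Fact p.Prime] [CharP F p] (r : S.Pr) :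
    Fintype.card (Cos M) ≡ 1 [MOD p] := by
  classical
  obtain ⟨x, hx, hQ⟩ := r.exists_aniso
  have hall : ∀ (f : Fin t → F) (s : Finset (Fin t)),
      MV M (pmat (s.piecewise (fun l => S.z r.e (f l • x)) 1)) := by
    intro f s
    induction s using Finset.induction with
    | empty => rw [Finset.piecewise_empty, pmat_one]; exact MV.one
    | insert m s hm ih =>
      have := (H.z_mem m r.he (hx.smul (f m)).1).mul ih
      rwa [slot_mul_pmat, Finset.piecewise_eq_of_notMem _ _ _ hm, Pi.one_apply, mul_one,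
        ← Finset.piecewise_insert] at this
  have hall' : ∀ f : Fin t → F, MV M (pmat fun l => S.z r.e (f l • x)) := fun f => by
    simpa [Finset.piecewise_univ] using hall f Finset.univ
  choose u hu huv using hall'
  let a : (Fin t → F) → M := fun f => ⟨u f, hu f⟩
  let act : (Fin t → F) → Cos M → Cos M := fun f q => a f • q
  have hmul : ∀ f f', a f * a f' = a (f + f') := fun f f' => Subtype.ext (Units.ext (by
    show (u f).val * (u f').val = (u (f + f')).val
    rw [huv, huv, huv, pmat_mul]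
    simp only [Pi.add_apply, add_smul, S.z_mul r.he (hx.smul _).1 (hx.smul _).1]))
  have hzero : a 0 = 1 := Subtype.ext (Units.ext (by
    show (u 0).val = 1
    rw [huv]
    simp only [Pi.zero_apply, zero_smul, S.z_zero]
    exact pmat_one))
  have hadd : ∀ f f' q, act f (act f' q) = act (f + f') q := fun f f' q => by
    simp only [act, ← mul_smul, hmul]
  have hz0 : ∀ q, act 0 q = q := fun q => by simp only [act, hzero, one_smul]
  refine (card_fixed hadd hz0 (p := p) (fun f => funext fun l => by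
    rw [Pi.smul_apply, Pi.zero_apply, nsmul_eq_mul, CharP.cast_eq_zero, zero_mul])).trans ?_
  rw [show Finset.univ.filter (fun q => ∀ f, act f q = q) = {(QuotientGroup.mk 1 : Cos M)} from ?_,
    Finset.card_singleton]
  ext q
  simp only [Finset.mem_filter, Finset.mem_univ, true_and, Finset.mem_singleton]
  constructor
  · intro hfix
    obtain ⟨g, rfl⟩ := QuotientGroup.mk_surjective q
    have hsingle : ∀ (l : Fin t) (s : F),
        g.1⁻¹ * S.zGL l r (s • x) (hx.smul s) * g.1 ∈ tensorWreathStandard k t F := by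
      intro l s
      have h1 := (smul_fix_iff _ g).1 (hfix (Pi.single l s))
      rwa [show (a (Pi.single l s)).1 = S.zGL l r (s • x) (hx.smul s) from Units.ext (by
        show (u _).val = slot l _
        rw [huv, slot_eq]
        congr 1
        funext m
        rcases eq_or_ne m l with rfl | hm
        · simp
        · simp [hm, S.z_zero])] at h1
    have hg : (g.1⁻¹ : GL (Fin t → Fin k) F) ∈ tensorWreathStandard k t F := by
      refine mem_std_of_fix_all H hadm hno ht (M.inv_mem g.2) r fun l => ?_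
      obtain ⟨j, q', b, hb, hQb, he⟩ := fix_data H hadm hno hx hQ (by simpa using hsingle l 1) fun h3 k3 => by
        refine ⟨?_, hsingle l⟩
        obtain ⟨c, hc⟩ := CharP.exists F
        haveI := hc
        obtain ⟨n, hp', hn⟩ := FiniteField.card F c
        have h5 := hadm.1.resolve_right (by omega)
        have hc3 : c = 3 := (Nat.prime_dvd_prime_iff_eq hp' Nat.prime_three).1
          ((CharP.cast_eq_zero_iff F c 3).1 (by exact_mod_cast h3))
        rw [hn, hc3] at h5 ⊢
        have : (n : ℕ) ≠ 1 := fun h => by rw [h, pow_one] at h5; omega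
        calc 9 = 3 ^ 2 := by norm_num
          _ ≤ 3 ^ (n : ℕ) := Nat.pow_le_pow_right (by norm_num) (by have := n.pos; omega)
      exact ⟨j, q', x, b, hx, hQ, hb, hQb, he⟩
    rw [QuotientGroup.eq, Subgroup.mem_subgroupOf]
    simpa using hg
  · rintro rfl f
    refine (smul_fix_iff _ _).2 ?_
    simp only [Subgroup.coe_one, inv_one, one_mul, mul_one]
    exact exists_units (σ := 1) (A := fun l => S.z r.e (f l • x)) (by rw [permMat_one, mul_one]; exact huv f)

end Sym

end CfsgLib.ClassicalMax.OWr
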