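/-
The average over the cosets on maps with a radical slot.
-/
import Cfsg.Agent.Lib.ClassicalMax.OrthWreath.AvgBase
set_option autoImplicit false
set_option linter.unusedSectionVars false
set_option linter.unusedVariables false
set_option linter.unusedSimpArgs false
set_option maxHeartbeats 400000

namespace CfsgLib.ClassicalMax.OWr

open Matrix Cfsg.Geo
open CfsgLib.ClassicalMax.TWreath

variable {F : Type*} [Field F] {k t : ℕ}

noncomputable instance (M : Subgroup (GL (Fin t → Fin k) F)) : DecidableEq (Cos M) := Classical.decEq _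

/-- The sandwiches of a map, none of them left over a big field. -/
def sand [Fintype F] (Z : Matrix (Fin t → Fin k) (Fin t → Fin k) F) :
    Submodule F (Matrix (Fin t → Fin k) (Fin t → Fin k) F) where
  carrier := {X | (∃ D, X = Z * D * Z) ∧ (7 ≤ Fintype.card F → X = 0)}
  zero_mem' := ⟨⟨0, by rw [mul_zero, zero_mul]⟩, fun _ => rfl⟩
  add_mem' := by
    rintro a b ⟨⟨D, rfl⟩, h1⟩ ⟨⟨D', rfl⟩, h2⟩
    exact ⟨⟨D + D', by rw [mul_add, add_mul]⟩, fun h => by rw [h1 h, h2 h, add_zero]⟩
  smul_mem' := by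
    rintro r a ⟨⟨D, rfl⟩, h1⟩
    exact ⟨⟨r • D, by rw [mul_smul_comm, smul_mul_assoc]⟩, fun h => by rw [h1 h, smul_zero]⟩

namespace Sym

variable {S : Sym F k}

/-- A radical slot commutes with a product that is trivial there. -/
lemma zGL_fix_map (i : Fin t) (p : S.Pr) {y w : Fin k → F} (hy : p.InW y) (hw : p.InW w)
    {B : Fin t → Matrix (Fin k) (Fin k) F} (hB : B i = 1) :
    ((S.zGL i p y hy)⁻¹).val * (slot i (S.N p.e w) * pmat B) * (S.zGL i p y hy).val =
      slot i (S.N p.e w) * pmat B := by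
  have e : slot i (S.N p.e w) * pmat B * slot i (S.z p.e y) = slot i (S.z p.e y) * (slot i (S.N p.e w) * pmat B) := by
    have e1 : S.z p.e y * S.N p.e w = S.N p.e w * S.z p.e y := by
      simp only [z, add_mul, mul_add, sub_mul, mul_sub, one_mul, mul_one, smul_mul_assoc, mul_smul_comm,
        S.P_mul_N p.he hw.1, S.N_mul_P p.he hw.1, S.N_mul_comm p.he hy.1 hw.1]
    have e2 : slot i (S.z p.e y) * pmat B = pmat B * slot i (S.z p.e y) := by
      rw [slot_mul_pmat, pmat_mul_slot, hB, mul_one, one_mul]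
    rw [mul_assoc, ← e2, ← mul_assoc, ← map_mul, ← e1, map_mul, mul_assoc]
  have e' : slot i (S.N p.e w) * pmat B * (S.zGL i p y hy).val =
      (S.zGL i p y hy).val * (slot i (S.N p.e w) * pmat B) := e
  rw [mul_assoc, e', ← mul_assoc, Units.inv_mul, one_mul]

variable [Fintype F] {M : Subgroup (GL (Fin t → Fin k) F)} (H : S.Over M) (hadm : S.Adm) (hno : S.NoRoot M)
include H

lemma conjP_zM (i : Fin t) (p : S.Pr) {y w : Fin k → F} (hy : p.InW y) (hw : p.InW w)
    {B : Fin t → Matrix (Fin k) (Fin k) F} (hB : B i = 1) (q : Cos M) :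
    conjP M (zM H i p y hy • q).out (slot i (S.N p.e w) * pmat B) =
      ex F (slot i (S.N p.e y)) * conjP M q.out (slot i (S.N p.e w) * pmat B) *
        ex F (-slot i (S.N p.e y)) := by
  rw [conjP_smul]
  show (S.zGL i p y hy).val *
      conjP M q.out (((S.zGL i p y hy)⁻¹).val * (slot i (S.N p.e w) * pmat B) * (S.zGL i p y hy).val) *
    ((S.zGL i p y hy)⁻¹).val = _
  rw [zGL_fix_map i p hy hw hB, zGL_inv i p hy, zGL_ex i p hy, zGL_ex i p hy.neg, S.N_neg, map_neg]

lemma zM_mul (i : Fin t) (p : S.Pr) {y y' : Fin k → F} (hy : p.InW y) (hy' : p.InW y') :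
    zM H i p y hy * zM H i p y' hy' = zM H i p (y + y') (hy.add hy') :=
  Subtype.ext (zGL_mul i p hy hy')

lemma zM_zero (i : Fin t) (p : S.Pr) (y : Fin k → F) (hy : p.InW y) (h : y = 0) : zM H i p y hy = 1 := by
  subst h
  refine Subtype.ext (Units.ext ?_)
  show slot i (S.z p.e 0) = 1
  rw [S.z_zero, map_one]

lemma zM_congr (i : Fin t) (p : S.Pr) {y y' : Fin k → F} (hy : p.InW y) (hy' : p.InW y') (h : y = y') :
    zM H i p y hy = zM H i p y' hy' := by subst h; rfl

lemma zM_fix_iff (i : Fin t) (p : S.Pr) {y : Fin k → F} (hy : p.InW y) (g : M) :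
    zM H i p y hy • (QuotientGroup.mk g : Cos M) = QuotientGroup.mk g ↔
      g.1⁻¹ * S.zGL i p y hy * g.1 ∈ tensorWreathStandard k t F :=
  smul_fix_iff (zM H i p y hy) g

include hadm

omit H in
/-- A field of characteristic three in dimension three has nine elements at least. -/
lemma nine_le (h3 : (3 : F) = 0) (k3 : k = 3) : 9 ≤ Fintype.card F := by
  obtain ⟨c, hc⟩ := CharP.exists F
  haveI := hc
  obtain ⟨n, hp', hn⟩ := FiniteField.card F c
  have h5 := hadm.1.resolve_right (by omega)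
  have hc3 : c = 3 := (Nat.prime_dvd_prime_iff_eq hp' Nat.prime_three).1
    ((CharP.cast_eq_zero_iff F c 3).1 (by exact_mod_cast h3))
  rw [hn, hc3] at h5 ⊢
  have : (n : ℕ) ≠ 1 := fun h => by rw [h, pow_one] at h5; omega
  calc 9 = 3 ^ 2 := by norm_num
    _ ≤ 3 ^ (n : ℕ) := Nat.pow_le_pow_right (by norm_num) (by have := n.pos; omega)

include hno

/-- The contribution of a coset fixed by a line of a radical. -/
lemma conjP_fixed_line (i : Fin t) (p : S.Pr) {w : Fin k → F} (hw : p.InW w)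
    {B : Fin t → Matrix (Fin k) (Fin k) F} (hB : B i = 1) {y : Fin k → F} (hy : p.InW y) (hQy : S.Q y ≠ 0)
    (g : M) (hfix : ∀ s : F, zM H i p (s • y) (hy.smul s) • (QuotientGroup.mk g : Cos M) = QuotientGroup.mk g) :
    conjP M g (slot i (S.N p.e w) * pmat B) = proj (slot i (S.N p.e w) * pmat B) := by
  have hfix' : ∀ s : F, g.1⁻¹ * S.zGL i p (s • y) (hy.smul s) * g.1 ∈ tensorWreathStandard k t F :=
    fun s => (zM_fix_iff H i p (hy.smul s) g).1 (hfix s)
  have h1 : g.1⁻¹ * S.zGL i p y hy * g.1 ∈ tensorWreathStandard k t F := by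
    have e : S.zGL i p ((1 : F) • y) (hy.smul 1) = S.zGL i p y hy :=
      congrArg Subtype.val (zM_congr H i p (hy.smul 1) hy (one_smul F y))
    rw [← e]
    exact hfix' 1
  exact (fix_radical H hadm hno hy hQy h1 fun h k3 => ⟨nine_le hadm h k3, hfix'⟩).2 w hw B hB

/-- A finite group of radical vectors computes the average up to the sums of its orbits. -/
lemma avg_core (ht : 0 < t) (i : Fin t) (p : S.Pr) {w : Fin k → F} (hw : p.InW w)
    {B : Fin t → Matrix (Fin k) (Fin k) F} (hB : B i = 1) {c : ℕ} [Fact c.Prime] [CharP F c]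
    {G : Type*} [AddCommGroup G] [Fintype G] (x : G → Fin k → F) (hx : ∀ s, p.InW (x s))
    (hxadd : ∀ s s', x (s + s') = x s + x s') (hp : ∀ s : G, c • s = 0)
    (hfixed : ∀ g : M, (∀ s, zM H i p (x s) (hx s) • (QuotientGroup.mk g : Cos M) = QuotientGroup.mk g) →
      conjP M g (slot i (S.N p.e w) * pmat B) = proj (slot i (S.N p.e w) * pmat B))
    (horb : ∀ q : Cos M, (¬ ∀ s, zM H i p (x s) (hx s) • q = q) →
      ∑ y ∈ orb (fun s q => zM H i p (x s) (hx s) • q) q, conjP M y.out (slot i (S.N p.e w) * pmat B) ∈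
        sand (slot i (S.P p.e))) :
    avg M (slot i (S.N p.e w) * pmat B) - proj (slot i (S.N p.e w) * pmat B) ∈ sand (slot i (S.P p.e)) := by
  classical
  set v := slot i (S.N p.e w) * pmat B
  let act : G → Cos M → Cos M := fun s q => zM H i p (x s) (hx s) • q
  have hx0 : x 0 = 0 := by
    have := hxadd 0 0
    rwa [add_zero, left_eq_add] at this
  have hadd : ∀ s s' q, act s (act s' q) = act (s + s') q := fun s s' q => by
    show _ • _ • q = _ • q
    rw [← mul_smul, zM_mul H i p (hx s) (hx s'), zM_congr H i p ((hx s).add (hx s')) (hx (s + s')) (hxadd s s').symm]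
  have hz0 : ∀ q, act 0 q = q := fun q => by
    show _ • q = q
    rw [zM_zero H i p _ _ hx0, one_smul]
  have hsum := sum_orbits hadd hz0 (fun q : Cos M => (sand (slot i (S.P p.e))).mkQ (conjP M q.out v)) fun q hq => by
    rw [← map_sum, Submodule.mkQ_apply, Submodule.Quotient.mk_eq_zero]
    exact horb q hq
  have hcard : ((Finset.univ.filter fun q => ∀ s, act s q = q).card : F) = 1 := by
    rw [← Nat.cast_one, CharP.natCast_eq_natCast F c]
    exact (card_fixed hadd hz0 hp).symm.trans (card_cos_cast H hadm hno ht p)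
  have hconst : ∀ q ∈ Finset.univ.filter (fun q => ∀ s, act s q = q),
      (sand (slot i (S.P p.e))).mkQ (conjP M q.out v) = (sand (slot i (S.P p.e))).mkQ (proj v) := by
    intro q hq
    obtain ⟨g, rfl⟩ := QuotientGroup.mk_surjective q
    rw [conjP_out, hfixed g (Finset.mem_filter.1 hq).2]
  rw [Finset.sum_congr rfl hconst, Finset.sum_const, ← Nat.cast_smul_eq_nsmul F, hcard, one_smul, ← map_sum] at hsum
  rw [avg, LinearMap.sum_apply]
  exact (Submodule.Quotient.eq _).1 hsum

/-- The sums over orbits of an anisotropic line. -/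
lemma orbit_line (hq : 5 ≤ Fintype.card F) {c : ℕ} [Fact c.Prime] [CharP F c] (i : Fin t) (p : S.Pr)
    {w : Fin k → F} (hw : p.InW w) (hQ : S.Q w ≠ 0) {B : Fin t → Matrix (Fin k) (Fin k) F} (hB : B i = 1)
    (q : Cos M) (hq0 : ¬ ∀ s : F, zM H i p (s • w) (hw.smul s) • q = q) :
    ∑ y ∈ orb (fun (s : F) q => zM H i p (s • w) (hw.smul s) • q) q, conjP M y.out (slot i (S.N p.e w) * pmat B) ∈
      sand (slot i (S.P p.e)) := by
  classical
  set v := slot i (S.N p.e w) * pmat B
  set Z := slot (t := t) i (S.P p.e) with hZ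
  have hNN : slot (t := t) i (S.N p.e w) * slot i (S.N p.e w) = (-S.bb w w) • Z := by
    rw [hZ, ← map_mul, S.N_mul_N p.he hw.1 hw.1, map_smul]
  have hval : ∀ (s : F) (q : Cos M), conjP M (zM H i p (s • w) (hw.smul s) • q).out v =
      ex F (s • slot i (S.N p.e w)) * conjP M q.out v * ex F (-(s • slot i (S.N p.e w))) := fun s q => by
    rw [conjP_zM H i p (hw.smul s) hw hB, S.N_smul, map_smul]
  have hadd : ∀ (s s' : F) (q : Cos M),
      zM H i p (s • w) (hw.smul s) • zM H i p (s' • w) (hw.smul s') • q = zM H i p ((s + s') • w) (hw.smul _) • q :=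
    fun s s' q => by
      rw [← mul_smul, zM_mul H i p (hw.smul s) (hw.smul s'),
        zM_congr H i p ((hw.smul s).add (hw.smul s')) (hw.smul (s + s')) (add_smul s s' w).symm]
  have hz0 : ∀ q : Cos M, zM H i p ((0 : F) • w) (hw.smul 0) • q = q := fun q => by
    rw [zM_zero H i p _ _ (zero_smul F w), one_smul]
  by_cases hfree : ∀ s : F, zM H i p (s • w) (hw.smul s) • q = q → s = 0
  · rw [sum_orb_free hadd hz0 _ hfree]
    simp only [hval]
    rw [sum_line hq, hNN]
    refine ⟨⟨((∑ s : F, s ^ 4) * (2⁻¹ * 2⁻¹) * (-S.bb w w) * (-S.bb w w)) • conjP M q.out v, ?_⟩, fun h7 => ?_⟩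
    · simp only [smul_mul_assoc, mul_smul_comm, smul_smul, mul_assoc]
    · rw [sum_fourth_big h7, zero_smul]
  push Not at hfree
  obtain ⟨s0, hs0, hs00⟩ := hfree
  have hk33 : (3 : F) = 0 ∧ k = 3 := by
    by_contra hcon
    refine hq0 fun s => ?_
    obtain ⟨g, rfl⟩ := QuotientGroup.mk_surjective q
    have hQ' : S.Q (s0 • w) ≠ 0 := by
      rw [S.Q_smul]; exact mul_ne_zero (mul_ne_zero hs00 hs00) hQ
    have h1 := fix_radical H hadm hno (hw.smul s0) hQ' ((zM_fix_iff H i p (hw.smul s0) g).1 hs0)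
      fun h k3 => absurd ⟨h, k3⟩ hcon
    exact (zM_fix_iff H i p (hw.smul s) g).2 (h1.1 _ (hw.smul s))
  have hev := ex_periodic hk33.1 S.two hq hs00 (slot i (S.N p.e w)) (conjP M q.out v) fun s => by
    rw [← hval, ← hval, ← hadd, hs0]
  set act : F → Cos M → Cos M := fun s q => zM H i p (s • w) (hw.smul s) • q
  set O := orb act q
  have hsec : ∀ y ∈ O, ∃ s, act s q = y := fun y hy => by
    obtain ⟨s, -, hs⟩ := Finset.mem_image.1 hy; exact ⟨s, hs⟩
  choose σ hσ using hsec
  have hstab : ∀ s r, act s q = act r q → act (-s) q = act (-r) q := by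
    intro s r h
    have h1 := congrArg (act (-s + -r)) h
    simp only [act, hadd] at h1
    rw [show -s + -r + s = -r by abel, show -s + -r + r = -s by abel] at h1
    exact h1.symm
  have hmem : ∀ y (hy : y ∈ O), act (-σ y hy) q ∈ O := fun y hy =>
    Finset.mem_image_of_mem _ (Finset.mem_univ _)
  have hinv : ∀ y (hy : y ∈ O), act (-σ _ (hmem y hy)) q = y := fun y hy => by
    rw [hstab _ (-σ y hy) (hσ _ _), neg_neg, hσ]
  have hsum : ∑ y ∈ O, conjP M y.out v = ∑ y ∈ O.attach, conjP M (act (-σ y.1 y.2) q).out v := by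
    rw [← Finset.sum_attach O]
    exact Finset.sum_bij' (fun y _ => ⟨act (-σ y.1 y.2) q, hmem y.1 y.2⟩)
      (fun y _ => ⟨act (-σ y.1 y.2) q, hmem y.1 y.2⟩)
      (fun _ _ => Finset.mem_attach _ _) (fun _ _ => Finset.mem_attach _ _)
      (fun y _ => Subtype.ext (hinv y.1 y.2)) (fun y _ => Subtype.ext (hinv y.1 y.2))
      fun y _ => by rw [hinv y.1 y.2]
  have hterm : ∀ y ∈ O.attach, conjP M y.1.out v + conjP M (act (-σ y.1 y.2) q).out v =
      (2 : F) • conjP M q.out v := fun y _ => by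
    conv_lhs => arg 1; rw [← hσ y.1 y.2]
    simp only [act, hval]
    exact hev _
  have h2sum : (2 : F) • ∑ y ∈ O, conjP M y.out v = 0 := by
    rw [two_smul]
    nth_rw 2 [hsum]
    rw [← Finset.sum_attach O, ← Finset.sum_add_distrib, Finset.sum_congr rfl hterm, Finset.sum_const,
      Finset.card_attach, ← Nat.cast_smul_eq_nsmul F,
      (CharP.cast_eq_zero_iff F c _).2 (card_orb hadd hz0 (fun s => by
        rw [nsmul_eq_mul, CharP.cast_eq_zero, zero_mul]) hq0), zero_smul]
  rw [(smul_eq_zero.1 h2sum).resolve_left S.two]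
  exact Submodule.zero_mem _

/-- The sums over orbits of an anisotropic plane over the field of three elements. -/
lemma orbit_plane (hq : ¬ 5 ≤ Fintype.card F) (i : Fin t) (p : S.Pr)
    {w b : Fin k → F} (hw : p.InW w) (hb : p.InW b) (hQ : S.Q w ≠ 0) (hwb : S.bb w b = 0) (hQb : S.Q b = S.Q w)
    {B : Fin t → Matrix (Fin k) (Fin k) F} (hB : B i = 1) (q : Cos M)
    (hq0 : ¬ ∀ s : F × F, zM H i p (s.1 • w + s.2 • b) ((hw.smul _).add (hb.smul _)) • q = q) :
    ∑ y ∈ orb (fun (s : F × F) q => zM H i p (s.1 • w + s.2 • b) ((hw.smul _).add (hb.smul _)) • q) q,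
      conjP M y.out (slot i (S.N p.e w) * pmat B) ∈ sand (slot i (S.P p.e)) := by
  classical
  set v := slot i (S.N p.e w) * pmat B
  set Z := slot (t := t) i (S.P p.e) with hZ
  have h3 := S.card_three hq
  have hk4 : 4 ≤ k := hadm.1.resolve_left hq
  set x : F × F → Fin k → F := fun s => s.1 • w + s.2 • b
  have hx : ∀ s, p.InW (x s) := fun s => (hw.smul _).add (hb.smul _)
  have haniso : ∀ s : F × F, s ≠ 0 → S.Q (x s) ≠ 0 := by
    intro s hs h0
    simp only [x] at h0
    rw [S.Q_add, S.Q_smul, S.Q_smul, S.bb_smul_left, S.bb_smul_right, hwb, mul_zero, mul_zero, add_zero, hQb,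
      ← add_mul] at h0
    have hss := (mul_eq_zero.1 h0).resolve_right hQ
    have hsq : ∀ r : F, r ≠ 0 → r * r = 1 := fun r hr => by
      have := FiniteField.pow_card_sub_one_eq_one r hr
      rw [h3] at this
      rw [← this]; ring
    rcases eq_or_ne s.1 0 with h1 | h1 <;> rcases eq_or_ne s.2 0 with h2 | h2
    · exact hs (Prod.ext h1 h2)
    · rw [h1, hsq _ h2, mul_zero, zero_add] at hss
      exact one_ne_zero hss
    · rw [h2, hsq _ h1, mul_zero, add_zero] at hss
      exact one_ne_zero hss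
    · rw [hsq _ h1, hsq _ h2] at hss
      exact S.two (by linear_combination hss)
  have hfree : ∀ s : F × F, zM H i p (x s) (hx s) • q = q → s = 0 := by
    intro s hs
    by_contra hs0
    refine hq0 fun s' => ?_
    obtain ⟨g, rfl⟩ := QuotientGroup.mk_surjective q
    have h1 := fix_radical H hadm hno (hx s) (haniso s hs0) ((zM_fix_iff H i p (hx s) g).1 hs)
      fun h k3 => absurd k3 (by omega)
    exact (zM_fix_iff H i p (hx s') g).2 (h1.1 _ (hx s'))
  have hadd : ∀ (s s' : F × F) (q : Cos M),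
      zM H i p (x s) (hx s) • zM H i p (x s') (hx s') • q = zM H i p (x (s + s')) (hx _) • q := fun s s' q => by
    rw [← mul_smul, zM_mul H i p (hx s) (hx s'), zM_congr H i p ((hx s).add (hx s')) (hx (s + s'))
      (by simp only [x, Prod.fst_add, Prod.snd_add, add_smul]; abel)]
  have hz0 : ∀ q : Cos M, zM H i p (x 0) (hx 0) • q = q := fun q => by
    rw [zM_zero H i p _ _ (by simp [x]), one_smul]
  rw [sum_orb_free hadd hz0 _ hfree, Fintype.sum_prod_type]
  set NA := slot (t := t) i (S.N p.e w)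
  set NB := slot (t := t) i (S.N p.e b)
  have hval : ∀ r r' : F, conjP M (zM H i p (r • w + r' • b) ((hw.smul r).add (hb.smul r')) • q).out v =
      ex F (r • NA) * (ex F (r' • NB) * conjP M q.out v * ex F (-(r' • NB))) * ex F (-(r • NA)) := by
    intro r r'
    rw [← zM_mul H i p (hw.smul r) (hb.smul r'), mul_smul, conjP_zM H i p (hw.smul r) hw hB,
      conjP_zM H i p (hb.smul r') hw hB, S.N_smul, S.N_smul, map_smul, map_smul]
  simp only [x, hval, ← Finset.sum_mul, ← Finset.mul_sum, sum_line_three h3]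
  obtain ⟨r, hr⟩ := even2_even2 (F := F) (Z := Z) (N := NA) (N' := NB) (D := conjP M q.out v)
    (α := -S.bb w w) (β := -S.bb b b)
    (by rw [← map_mul, S.N_mul_N p.he hw.1 hb.1, hwb, neg_zero, zero_smul, map_zero])
    (by rw [← map_mul, S.N_mul_N p.he hb.1 hw.1, S.bb_comm, hwb, neg_zero, zero_smul, map_zero])
    (by rw [hZ, ← map_mul, S.N_mul_N p.he hw.1 hw.1, map_smul])
    (by rw [hZ, ← map_mul, S.N_mul_N p.he hb.1 hb.1, map_smul])
    (by rw [hZ, ← map_mul, S.P_mul_N p.he hw.1, map_zero]) (by rw [hZ, ← map_mul, S.N_mul_P p.he hw.1, map_zero])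
    (by rw [hZ, ← map_mul, S.P_mul_N p.he hb.1, map_zero]) (by rw [hZ, ← map_mul, S.N_mul_P p.he hb.1, map_zero])
    (by rw [hZ, ← map_mul, S.P_mul_P p.he, map_zero])
  refine ⟨⟨r • conjP M q.out v, ?_⟩, fun h7 => absurd h7 (by omega)⟩
  rw [mul_smul_comm, smul_mul_assoc, ← hr]
  simp only [even2, mul_neg, neg_mul, smul_neg, mul_add, add_mul, mul_sub, sub_mul, neg_add, neg_sub, neg_neg,
    smul_add, smul_sub]
  abel

/-- The average is the projection on maps with a radical slot. -/
theorem avg_radical (ht : 0 < t) (i : Fin t) (p : S.Pr) {w : Fin k → F} (hw : p.InW w) (hQ : S.Q w ≠ 0)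
    {B : Fin t → Matrix (Fin k) (Fin k) F} (hB : B i = 1) :
    avg M (slot i (S.N p.e w) * pmat B) = proj (slot i (S.N p.e w) * pmat B) := by
  classical
  obtain ⟨c, hc⟩ := CharP.exists F
  haveI := hc
  haveI : Fact c.Prime := ⟨(CharP.char_is_prime_or_zero F c).resolve_right (CharP.char_ne_zero_of_finite F c)⟩
  set v := slot i (S.N p.e w) * pmat B with hv
  set Z := slot (t := t) i (S.P p.e) with hZ
  have hD : avg M v - proj v ∈ sand Z := by
    by_cases hq : 5 ≤ Fintype.card F
    · exact avg_core H hadm hno ht i p hw hB (c := c) (G := F) (fun s => s • w) (fun s => hw.smul s)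
        (fun s s' => add_smul s s' w) (fun s => by rw [nsmul_eq_mul, CharP.cast_eq_zero, zero_mul])
        (fun g hfix => conjP_fixed_line H hadm hno i p hw hB hw hQ g hfix)
        (orbit_line H hadm hno hq (c := c) i p hw hQ hB)
    · obtain ⟨b, hb, hwb, hQb⟩ := exists_same hadm p hq hw hQ
      refine avg_core H hadm hno ht i p hw hB (c := c) (G := F × F) (fun s => s.1 • w + s.2 • b)
        (fun s => (hw.smul _).add (hb.smul _))
        (fun s s' => by simp only [Prod.fst_add, Prod.snd_add, add_smul]; abel)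
        (fun s => Prod.ext (by simp [CharP.cast_eq_zero]) (by simp [CharP.cast_eq_zero]))
        (fun g hfix => conjP_fixed_line H hadm hno i p hw hB hw hQ g fun s => ?_)
        (orbit_plane H hadm hno hq i p hw hb hQ hwb hQb hB)
      have h := hfix (s, 0)
      rwa [zM_congr H i p _ (hw.smul s) (by simp)] at h
  -- the remainder is odd
  obtain ⟨⟨D, hDeq⟩, hD7⟩ := hD
  by_cases h7 : 7 ≤ Fintype.card F
  · exact sub_eq_zero.1 (hD7 h7)
  obtain ⟨T, ε, d, hT, hgen, hTe, hTW, hTa, hd1, hd5⟩ := exists_diag (t := t) H hadm p hw hQ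
  have hq5 : Fintype.card F ≤ 5 := by
    obtain ⟨n, hp', hn⟩ := FiniteField.card F c
    have hc2 : c ≠ 2 := fun e => S.two (by subst e; exact_mod_cast CharP.cast_eq_zero F 2)
    rw [hn] at h7 ⊢
    by_contra h
    have h6 : c ^ (n : ℕ) = 6 := by omega
    have hdvd : 2 ∣ c ^ (n : ℕ) := by rw [h6]; norm_num
    exact hc2 ((Nat.prime_dvd_prime_iff_eq Nat.prime_two hp').1 (Nat.prime_two.dvd_of_dvd_pow hdvd)).symm
  obtain ⟨hεε, hd⟩ := hd5 hq5
  set τ : M := ⟨S.slotGL i T hT, (hgen i).1⟩
  have hTN : T * S.N p.e w * S.adj T = -S.N p.e w := by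
    rw [S.conj_N (S.adj_adj T), hTe, S.N_swap, S.N_smul, ← smul_neg, ← S.N_swap, ← S.N_smul, hTa, hd,
      neg_one_smul, S.N_neg]
  have hτv : τ.1.val * v * (τ.1⁻¹).val = -v := by
    show slot i T * (slot i (S.N p.e w) * pmat B) * slot i (S.adj T) = _
    rw [mul_assoc, mul_assoc, show pmat B * slot i (S.adj T) = slot i (S.adj T) * pmat B by
      rw [slot_mul_pmat, pmat_mul_slot, hB, mul_one, one_mul], ← mul_assoc (slot i (S.N p.e w)), ← map_mul,
      ← mul_assoc, ← map_mul, ← mul_assoc T, hTN, map_neg, neg_mul, hv]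
  have h1 := avg_conj τ v
  rw [hτv, map_neg] at h1
  have h2 := proj_conj (S.slotGL_mem_std i T hT) v
  rw [show (S.slotGL i T hT).val * v * ((S.slotGL i T hT)⁻¹).val = -v from hτv, map_neg] at h2
  have h3 : τ.1.val * (avg M v - proj v) * (τ.1⁻¹).val = -(avg M v - proj v) := by
    rw [mul_sub, sub_mul, ← h1]
    show -avg M v - (S.slotGL i T hT).val * proj v * ((S.slotGL i T hT)⁻¹).val = _
    rw [← h2]
    abel
  have hsame : τ.1.val * (Z * D * Z) * (τ.1⁻¹).val = Z * D * Z := by
    have e1 : T * S.P p.e = ε • S.P p.e := by rw [P, S.mul_op, hTe, S.op_smul_left]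
    have e2 : S.P p.e * S.adj T = ε • S.P p.e := by rw [P, S.op_mul_mat, S.adj_adj, hTe, S.op_smul_right]
    show slot i T * (Z * D * Z) * slot i (S.adj T) = _
    rw [← mul_assoc, ← mul_assoc, hZ, ← map_mul, e1, mul_assoc _ _ (slot i (S.adj T)), ← map_mul, e2, map_smul,
      mul_smul_comm, smul_mul_assoc, smul_mul_assoc, smul_smul, hεε, one_smul]
  rw [hDeq, hsame] at h3
  rw [← sub_eq_zero, hDeq]
  rw [eq_neg_iff_add_eq_zero, ← two_smul F, smul_eq_zero, or_iff_right S.two] at h3
  exact h3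

end Sym

end CfsgLib.ClassicalMax.OWr
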