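/-
A root element above the stabiliser of an orthogonal tensor power gives the whole of `Ω`.
-/
import Cfsg.Agent.Lib.ClassicalMax.OrthWreath.Rad
import Cfsg.Agent.Lib.ClassicalMax.OrthEven
set_option autoImplicit false
set_option linter.unusedSectionVars false
set_option linter.unusedVariables false
set_option linter.unusedSimpArgs false

namespace CfsgLib.ClassicalMax.OWr

open Matrix Cfsg.Geo QuadraticMap
open CfsgLib.ClassicalMax.TWreath
open CfsgLib.Classical.Quad (NDPolar)

variable {F : Type*} [Field F] {k t : ℕ}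

lemma pvec_update (x : Fin t → Fin k → F) (i : Fin t) (v : Fin k → F) (a : Fin t → Fin k) :
    pvec (Function.update x i v) a = v (a i) * ∏ l ∈ Finset.univ.erase i, x l (a l) := by
  rw [pvec, ← Finset.mul_prod_erase _ _ (Finset.mem_univ i), Function.update_self]
  congr 1
  exact Finset.prod_congr rfl fun l hl => by rw [Function.update_of_ne (Finset.ne_of_mem_erase hl)]

lemma pvec_update_add (x : Fin t → Fin k → F) (i : Fin t) (v w : Fin k → F) :
    pvec (Function.update x i (v + w)) = pvec (Function.update x i v) + pvec (Function.update x i w) := by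
  funext a; simp [pvec_update, add_mul]

lemma pvec_update_smul (x : Fin t → Fin k → F) (i : Fin t) (c : F) (v : Fin k → F) :
    pvec (Function.update x i (c • v)) = c • pvec (Function.update x i v) := by
  funext a; simp [pvec_update, mul_assoc]

lemma pvec_update_zero (x : Fin t → Fin k → F) (i : Fin t) :
    pvec (Function.update x i (0 : Fin k → F)) = 0 := by
  funext a; simp [pvec_update]

namespace Sym

variable {S : Sym F k}

/-- The pairing of the tensor power. -/
def bV (S : Sym F k) (x y : (Fin t → Fin k) → F) : F := (pmat (fun _ => S.G) *ᵥ y) ⬝ᵥ x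

lemma bV_pvec (x y : Fin t → Fin k → F) : S.bV (pvec x) (pvec y) = ∏ l, S.bb (x l) (y l) := by
  rw [bV, pmat_mulVec_pvec, pvec_dot]; rfl

lemma bV_update (x y : Fin t → Fin k → F) (i : Fin t) (v : Fin k → F) :
    S.bV (pvec x) (pvec (Function.update y i v)) =
      S.bb (x i) v * ∏ l ∈ Finset.univ.erase i, S.bb (x l) (y l) := by
  rw [bV_pvec, ← Finset.mul_prod_erase _ _ (Finset.mem_univ i), Function.update_self]
  congr 1
  exact Finset.prod_congr rfl fun l hl => by rw [Function.update_of_ne (Finset.ne_of_mem_erase hl)]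

variable [Fintype F]

/-- A singular vector opposite to two given ones. -/
lemma exists_opp {e g : Fin k → F} (he : S.bb e e = 0) (he0 : e ≠ 0) (hg0 : g ≠ 0) :
    ∃ p : S.Pr, ∃ s : F, s ≠ 0 ∧ p.e = s • e ∧ S.bb g p.f ≠ 0 := by
  obtain ⟨p0, rfl⟩ := exists_pr_of he he0
  obtain ⟨a, ha, hQa⟩ := p0.exists_aniso
  have hv : ∀ w, p0.InW w → S.bb (p0.f + w + (-S.Q w) • p0.e) (p0.f + w + (-S.Q w) • p0.e) = 0 ∧
      S.bb p0.e (p0.f + w + (-S.Q w) • p0.e) = 1 := by
    intro w hw
    constructor <;>
      simp only [S.bb_add_left, S.bb_add_right, S.bb_smul_left, S.bb_smul_right, p0.he, p0.hf, p0.h1, p0.h1',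
        hw.1, hw.2, S.bb_comm w p0.e, S.bb_comm w p0.f, S.bb_self w] <;>
      ring
  by_contra hcon
  push Not at hcon
  have hz : ∀ w, p0.InW w → S.bb g (p0.f + w + (-S.Q w) • p0.e) = 0 := fun w hw =>
    hcon ⟨p0.e, _, p0.he, (hv w hw).1, (hv w hw).2⟩ 1 one_ne_zero (one_smul _ _).symm
  have hf : S.bb g p0.f = 0 := by simpa [S.Q_zero] using hz 0 p0.inW_zero
  have hWe : ∀ w, p0.InW w → S.bb g w = 0 ∧ S.Q w * S.bb g p0.e = 0 := by
    intro w hw
    have h1 := hz w hw
    have h2 := hz (-w) hw.neg
    simp only [S.bb_add_right, S.bb_smul_right, S.bb_neg_right, S.Q_neg, hf] at h1 h2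
    exact ⟨mul_left_cancel₀ S.two (by linear_combination h1 - h2),
      mul_left_cancel₀ S.two (by linear_combination -h1 - h2)⟩
  have hge : S.bb g p0.e = 0 := (mul_eq_zero.1 (hWe a ha).2).resolve_left hQa
  refine hg0 (S.eq_zero_of_bb fun v => ?_)
  rw [p0.eq_pr_add v, S.bb_add_left, S.bb_add_left, S.bb_smul_left, S.bb_smul_left, S.bb_comm _ g,
    (hWe _ (p0.pr_mem v)).1, S.bb_comm p0.e, hge, S.bb_comm p0.f, hf]
  ring

variable {M : Subgroup (GL (Fin t → Fin k) F)} (H : S.Over M)
include H

/-- All pairs give root elements. -/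
lemma roots_of_root (hadm : S.Adm) (ht : 2 ≤ t) {q : Fin t → S.Pr} {i : Fin t}
    {X : Matrix (Fin k) (Fin k) F} (hX : X ∈ S.so) (hX0 : X ≠ 0)
    (h : MV M (1 + pmat (Function.update (fun l => S.P (q l).e) i X))) (x y : Fin k → F) (s : F) :
    MV M (1 + s • pmat (Function.update (fun l => S.P (q l).e) i (S.N x y))) := by
  classical
  set A := (Finset.univ : Finset (Fin t)).erase i
  have hA : A.Nonempty := Finset.card_pos.1 (by simp [A]; omega)
  have hiA : i ∉ A := Finset.notMem_erase i _
  set B := fun l => S.P (q l).e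
  let emb : Matrix (Fin k) (Fin k) F → Matrix (Fin t → Fin k) (Fin t → Fin k) F :=
    fun Y => pmat (Function.update B i Y)
  have hembA : ∀ Y, ∀ l ∈ A, InS l (Submodule.span F {S.P (q l).e}) (emb Y) := fun Y l hl => InS.pmat (by
    rw [Function.update_of_ne (Finset.ne_of_mem_erase hl)]
    exact Submodule.mem_span_singleton_self _)
  have hX' : emb X ∈ lv M q hA := ⟨hembA X, h⟩
  have hso : ∀ Y ∈ lv M q hA, InS i S.so1 Y := by
    intro Y hY r r'
    refine mem_so1_of_singular hadm.1 (fun e he => ?_)
    rcases eq_or_ne e 0 with rfl | he0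
    · rw [S.bb_zero_right]
    obtain ⟨p, rfl⟩ := exists_pr_of he he0
    obtain ⟨c, hc, hcm⟩ := (lv_inv H hiA).Pi_mem hadm.1 hY p
    have hs : ∀ l, InS l (Submodule.span F {S.P (Function.update q i p l).e}) (c • L i (S.Pi p.e) Y) := fun l => by
      rcases eq_or_ne l i with rfl | hl
      · rw [Function.update_self]
        refine InS.smul (fun r r' => ?_) _
        rw [comp_L, S.Pi_apply]
        exact Submodule.smul_mem _ _ (Submodule.mem_span_singleton_self _)
      · rw [Function.update_of_ne hl]
        exact hcm.1 l (Finset.mem_erase.2 ⟨hl, Finset.mem_univ l⟩)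
    have hskew := H.skew_of_sq (lv_sq H hcm) hcm.2
    have heq := adjB_eq_smul (S := S) (fun _ => (1 : F)) hs fun l W hW => by
      obtain ⟨d, rfl⟩ := Submodule.mem_span_singleton.1 hW
      rw [S.adj_smul, S.adj_P, one_smul]
    rw [Finset.prod_const_one, one_smul, hskew, neg_eq_iff_add_eq_zero, ← two_smul F, smul_eq_zero,
      or_iff_right S.two, smul_eq_zero, or_iff_right hc] at heq
    have := comp_ker heq r r'
    rw [S.Pi_apply, smul_eq_zero] at this
    refine this.resolve_right fun hP => p.e_ne ?_
    have := congrArg (fun T => T *ᵥ p.f) hP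
    simpa [P_mulVec, p.h1'] using this
  have hne : ∀ Y, Y ≠ 0 → emb Y ≠ 0 := fun Y hY => pmat_ne_zero fun l => by
    rcases eq_or_ne l i with rfl | hl
    · rwa [Function.update_self]
    · rw [Function.update_of_ne hl]
      intro h0
      have := congrArg (fun T => T *ᵥ (q l).f) h0
      simp [B, P_mulVec, (q l).h1', (q l).e_ne] at this
  rcases (lv_inv H hiA).step hso hX' with hsc | ⟨φ, p, h1, h2, h3⟩
  · -- a scalar is not skew
    exfalso
    refine hX0 ?_
    have hsk := H.skew_of_sq (lv_sq H hX') hX'.2
    have heq := adjB_eq_smul (S := S) (V := fun l => if l = i then Submodule.span F {1} else Submodule.span F {B l})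
      (fun _ => (1 : F)) (X := emb X) (fun l => by
        by_cases hl : l = i
        · subst hl; simp only [if_true]; exact hsc
        · simp only [if_neg hl]; exact hembA X l (Finset.mem_erase.2 ⟨hl, Finset.mem_univ l⟩)) fun l W hW => by
      by_cases hl : l = i
      · simp only [if_pos hl] at hW
        obtain ⟨d, rfl⟩ := Submodule.mem_span_singleton.1 hW
        rw [S.adj_smul, S.adj_one, one_smul]
      · simp only [if_neg hl] at hW
        obtain ⟨d, rfl⟩ := Submodule.mem_span_singleton.1 hW
        rw [S.adj_smul, S.adj_P, one_smul]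
    rw [Finset.prod_const_one, one_smul, hsk, neg_eq_iff_add_eq_zero, ← two_smul F, smul_eq_zero,
      or_iff_right S.two] at heq
    by_contra hne0
    exact hne X hne0 heq
  let q' := Function.update q i p
  have hq' : ∀ l ∈ A, q' l = q l := fun l hl => Function.update_of_ne (Finset.ne_of_mem_erase hl) _ _
  have hq'i : q' i = p := Function.update_self _ _ _
  obtain ⟨a, ha, hB⟩ := pure (Z := lv M q' hA) (D := {i}) (p := q') (B0 := B)
    (fun hk => ⟨hadm.2 hk, by simp⟩) (Finset.singleton_nonempty i)
    (fun l hl => by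
      obtain rfl := Finset.mem_singleton.1 hl
      exact (lv_inv H hiA).clO (fun Y hY => hso Y (lv_congr H (fun m hm => (hq' m hm).symm) hY)) (q' l))
    (fun _ n hn l hl hnl => absurd ((Finset.mem_singleton.1 hn).trans (Finset.mem_singleton.1 hl).symm) hnl)
    (lv_congr H hq' h1) h2 ⟨fun l hl => by obtain rfl := Finset.mem_singleton.1 hl; rw [hq'i]; exact h3,
      fun l hl => h1.1 l (Finset.mem_erase.2 ⟨by simpa using hl, Finset.mem_univ l⟩)⟩
  obtain ⟨haW, haQ⟩ := ha i (Finset.mem_singleton_self i)
  rw [hq'i] at haW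
  have hB' : emb (S.N p.e (a i)) ∈ lv M q hA := by
    have e : Function.update B i (S.N p.e (a i)) = fun l => if l ∈ ({i} : Finset (Fin t)) then S.N (q' l).e (a l)
        else B l := funext fun l => by
      rcases eq_or_ne l i with rfl | hl
      · simp [hq'i]
      · simp [hl]
    show pmat _ ∈ _
    rw [e]
    exact lv_congr H (fun m hm => (hq' m hm).symm) hB
  -- the skew maps giving roots
  let Lm : Submodule F (Matrix (Fin k) (Fin k) F) :=
    { carrier := {Y | Y ∈ S.so ∧ ∀ d : F, emb (d • Y) ∈ lv M q hA}
      zero_mem' := ⟨S.so.zero_mem, fun d => by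
        rw [smul_zero]
        have : emb 0 = 0 := pmat_eq_zero (l := i) (Function.update_self _ _ _)
        rw [this]; exact AddSubgroup.zero_mem _⟩
      add_mem' := fun {x y} hx hy => ⟨S.so.add_mem hx.1 hy.1, fun d => by
        show pmat _ ∈ _
        rw [smul_add, pmat_update_add]; exact AddSubgroup.add_mem _ (hx.2 d) (hy.2 d)⟩
      smul_mem' := fun d x hx => ⟨S.so.smul_mem d hx.1, fun d' => by rw [smul_smul]; exact hx.2 _⟩ }
  have hbr : ∀ Y ∈ Lm, ∀ e w, S.bb e e = 0 → S.bb e w = 0 → br (S.N e w) Y ∈ Lm := by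
    intro Y hY e w he hw
    refine ⟨S.br_mem_so (S.N_mem_so _ _) hY.1, fun d => ?_⟩
    have := (lv_inv H hiA).br_mem (hY.2 d) (hso _ (hY.2 d)) he hw
    show pmat _ ∈ _
    rw [L_pmat, Function.update_idem, Function.update_self, map_smul] at this
    exact this
  have hL0 : S.N p.e (a i) ∈ Lm := by
    refine ⟨S.N_mem_so _ _, fun d => ?_⟩
    show pmat _ ∈ _
    rw [pmat_update_smul]
    exact ((lv_inv H hiA).clO hso p).scalar hB'
      (InS.pmat (by rw [Function.update_self]; exact ⟨a i, haW, rfl⟩)) d
  have h2Q : -(2 * S.Q (a i)) ≠ 0 := neg_ne_zero.2 (mul_ne_zero S.two haQ)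
  have hW : ∀ d, p.InW d → S.N p.e d ∈ Lm := by
    intro d hd
    have := Lm.smul_mem (-(2 * S.Q (a i)))⁻¹ (hbr _ (hbr _ hL0 p.f (a i) p.hf haW.2) p.e d p.he hd.1)
    rw [br_br_N p haW hd haW, S.bb_comm d, S.bb_self, show -S.bb (a i) d • a i + S.bb (a i) d • a i - (2 * S.Q (a i)) • d =
      (-(2 * S.Q (a i))) • d by module, S.N_smul, inv_smul_smul₀ h2Q] at this
    exact this
  have hcx : ∀ c x, p.InW c → p.InW x → S.N c x - S.bb x c • S.N p.e p.f ∈ Lm := by
    intro c x hc hx
    have := hbr _ (hW x hx) p.f c p.hf hc.2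
    rw [S.br_N (S.N_mem_so _ _), N_mulVec, N_mulVec, p.h1, hc.1, S.bb_comm x p.f, hx.2, one_smul, zero_smul,
      sub_zero, zero_smul, zero_sub, ← neg_smul, S.N_smul] at this
    convert this using 1
    module
  have hef : S.N p.e p.f ∈ Lm := by
    have := Lm.smul_mem (-(2 * S.Q (a i)))⁻¹ (hcx _ _ haW haW)
    rwa [S.N_self, zero_sub, S.bb_self, ← neg_smul, inv_smul_smul₀ h2Q] at this
  have hWW : ∀ c x, p.InW c → p.InW x → S.N c x ∈ Lm := fun c x hc hx => by
    have := Lm.add_mem (hcx c x hc hx) (Lm.smul_mem (S.bb x c) hef)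
    rwa [sub_add_cancel] at this
  have hfc : ∀ c, p.InW c → S.N c p.f ∈ Lm := by
    intro c hc
    have := hbr _ hef p.f c p.hf hc.2
    rw [S.br_N (S.N_mem_so _ _), N_mulVec, N_mulVec, p.h1, hc.1, p.hf, hc.2, one_smul, zero_smul,
      sub_zero, zero_smul, sub_zero, S.N_zero, add_zero] at this
    exact this
  have key : ∀ u, (u = p.e ∨ u = p.f ∨ p.InW u) → ∀ v, (v = p.e ∨ v = p.f ∨ p.InW v) → S.N u v ∈ Lm := by
    have hsw : ∀ {u v}, S.N u v ∈ Lm → S.N v u ∈ Lm := fun {u v} h => by rw [S.N_swap]; exact Lm.neg_mem h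
    rintro u (rfl | rfl | hu) v (rfl | rfl | hv)
    · rw [S.N_self]; exact Lm.zero_mem
    · exact hef
    · exact hW v hv
    · exact hsw hef
    · rw [S.N_self]; exact Lm.zero_mem
    · exact hsw (hfc v hv)
    · exact hsw (hW u hu)
    · exact hfc u hu
    · exact hWW u v hu hv
  have hlin : ∀ u, (∀ v, (v = p.e ∨ v = p.f ∨ p.InW v) → S.N u v ∈ Lm) → ∀ v, S.N u v ∈ Lm := fun u hu v => by
    rw [p.eq_pr_add v, S.N_add, S.N_add, S.N_smul, S.N_smul]
    exact Lm.add_mem (Lm.add_mem (hu _ (Or.inr (Or.inr (p.pr_mem v)))) (Lm.smul_mem _ (hu _ (Or.inl rfl))))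
      (Lm.smul_mem _ (hu _ (Or.inr (Or.inl rfl))))
  have hall : S.N x y ∈ Lm := by
    rw [S.N_swap]
    refine Lm.neg_mem (hlin y (fun v hv => ?_) x)
    rw [S.N_swap]
    exact Lm.neg_mem (hlin v (fun v' hv' => key v hv v' hv') y)
  have := (hall.2 s).2
  rwa [show emb (s • S.N x y) = s • pmat (Function.update B i (S.N x y)) from pmat_update_smul _ _ _ _] at this

/-- All singular centres give root elements. -/
lemma roots_move {q : Fin t → S.Pr} {i : Fin t}
    (h : ∀ (x y : Fin k → F) (s : F), MV M (1 + s • pmat (Function.update (fun l => S.P (q l).e) i (S.N x y))))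
    (e' : Fin t → Fin k → F) (he : ∀ l, S.bb (e' l) (e' l) = 0) (he0 : ∀ l, e' l ≠ 0) (x y : Fin k → F) (s : F) :
    MV M (1 + s • pmat (Function.update (fun l => S.P (e' l)) i (S.N x y))) := by
  classical
  suffices Hs : ∀ T : Finset (Fin t), i ∉ T → ∀ x y s,
      MV M (1 + s • pmat (Function.update (T.piecewise (fun l => S.P (e' l)) fun l => S.P (q l).e) i (S.N x y))) by
    have := Hs (Finset.univ.erase i) (Finset.notMem_erase i _) x y s
    rwa [show Function.update ((Finset.univ.erase i).piecewise (fun l => S.P (e' l)) fun l => S.P (q l).e) i (S.N x y) =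
      Function.update (fun l => S.P (e' l)) i (S.N x y) from funext fun l => by
        rcases eq_or_ne l i with rfl | hl
        · simp
        · simp [Function.update_of_ne hl, hl]] at this
  intro T
  induction T using Finset.induction with
  | empty => intro _ x y s; simpa using h x y s
  | insert m T hm ih =>
    intro hi x y s
    rw [Finset.mem_insert, not_or] at hi
    obtain ⟨p, r, hr, hpe, hgf⟩ := exists_opp (q m).he (q m).e_ne (he0 m)
    set d := S.bb (e' m) p.f
    set c := d⁻¹ • p.pr (e' m)
    have hcW : p.InW c := (p.pr_mem _).smul _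
    have hz : S.z p.f c *ᵥ p.e = d⁻¹ • e' m := by
      rw [z_f_e p hcW]
      have hQ : S.Q (p.pr (e' m)) = -(d * S.bb (e' m) p.e) := by
        have h0 := he m
        rw [p.eq_pr_add (e' m)] at h0
        simp only [S.bb_add_left, S.bb_add_right, S.bb_smul_left, S.bb_smul_right, p.he, p.hf, p.h1, p.h1',
          (p.pr_mem (e' m)).1, (p.pr_mem (e' m)).2, S.bb_comm (p.pr (e' m)) p.e, S.bb_comm (p.pr (e' m)) p.f,
          S.bb_self (p.pr (e' m))] at h0
        exact mul_left_cancel₀ S.two (by linear_combination h0)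
      conv_rhs => rw [p.eq_pr_add (e' m)]
      rw [show S.Q c = d⁻¹ * d⁻¹ * S.Q (p.pr (e' m)) from S.Q_smul _ _, hQ]
      match_scalars <;> field_simp <;> rfl
    set B := Function.update (T.piecewise (fun l => S.P (e' l)) fun l => S.P (q l).e) i (S.N x y) with hB
    have h1 := H.cj_mem m p.hf hcW.2 (ih hi.2 x y (s * (r * r) * (d * d)))
    rw [map_add, ← slot_sandwich m _ _ (1 : Matrix (Fin t → Fin k) (Fin t → Fin k) F), mul_one, ← map_mul,
      S.z_inv p.hf hcW.2, map_one, map_smul, L_pmat] at h1
    have hBm : B m = S.P (q m).e := by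
      rw [hB, Function.update_of_ne (Ne.symm hi.1), Finset.piecewise_eq_of_notMem _ _ _ hm]
    have hval : cjm (S.z p.f c) (S.z p.f (-c)) (B m) = ((r⁻¹ * d⁻¹) * (r⁻¹ * d⁻¹)) • S.P (e' m) := by
      rw [hBm, show (q m).e = r⁻¹ • p.e by rw [hpe, inv_smul_smul₀ hr]]
      show S.Ad p.f c _ = _
      rw [Ad_P, Matrix.mulVec_smul, hz, smul_smul, P, P, S.op_smul_left, S.op_smul_right, smul_smul]
    rw [hval, pmat_update_smul, smul_smul,
      show s * (r * r) * (d * d) * (r⁻¹ * d⁻¹ * (r⁻¹ * d⁻¹)) = s by field_simp] at h1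
    rwa [show Function.update B m (S.P (e' m)) = Function.update ((insert m T).piecewise (fun l => S.P (e' l))
      fun l => S.P (q l).e) i (S.N x y) from by
        rw [hB, Function.update_comm hi.1, Finset.piecewise_insert]] at h1

variable {Q : QuadraticForm F ((Fin t → Fin k) → F)}

/-- A root element gives the whole of `Ω`. -/
theorem omega_le_of_root (hadm : S.Adm) (ht : 2 ≤ t) (hn : 7 ≤ Fintype.card (Fin t → Fin k)) {c : F} (hc : c ≠ 0)
    (hpol : ∀ x y, polar Q x y = c * S.bV x y) (hnd : NDPolar Q) (hle : M ≤ omegaGL ⇑Q) (hno : ¬ S.NoRoot M) :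
    omegaGL ⇑Q ≤ M := by
  classical
  simp only [NoRoot, not_forall] at hno
  obtain ⟨q₀, i, X, hX, hroot, hX0⟩ := hno
  have hrt := roots_move H (roots_of_root H hadm ht hX hX0 hroot)
  have h2 := S.two
  have hQp : ∀ (x : Fin t → Fin k → F) l, S.bb (x l) (x l) = 0 → Q (pvec x) = 0 := by
    intro x l hl
    have h := hpol (pvec x) (pvec x)
    rw [Classical.Quad.polar_self', S.bV_pvec, Finset.prod_eq_zero (Finset.mem_univ l) hl, mul_zero] at h
    exact (mul_eq_zero.1 h).resolve_left h2
  obtain ⟨j, hj⟩ : ∃ j : Fin t, j ≠ i := by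
    by_contra h
    push Not at h
    have := Fintype.card_le_one_iff.2 fun a b : Fin t => (h a).trans (h b).symm
    rw [Fintype.card_fin] at this
    omega
  let U := fun (y : Fin t → Fin k → F) (v : Fin k → F) => pvec (Function.update y i v)
  have hUcomm : ∀ (z : Fin t → Fin k → F) {m : Fin t} (y v : Fin k → F), m ≠ i →
      U (Function.update z m y) v = pvec (Function.update (Function.update z i v) m y) := fun z m y v hm => by
    show pvec _ = _
    rw [Function.update_comm hm]
  -- the roots as Siegel transformations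
  have hsg : ∀ (e' : Fin t → Fin k → F), (∀ l, S.bb (e' l) (e' l) = 0) → (∀ l, e' l ≠ 0) → ∀ x y,
      ∃ h ∈ M, OmS.IsSg Q h (U e' x) (U e' y) := by
    intro e' he he0 x y
    obtain ⟨h, hh, hval⟩ := hrt e' he he0 x y c
    refine ⟨h, hh, fun z => ?_⟩
    have hQw : Q (U e' y) = 0 := hQp _ j (by rw [Function.update_of_ne hj]; exact he j)
    have hop : ∀ a b : Fin k → F, pmat (Function.update (fun l => S.P (e' l)) i (S.op a b)) *ᵥ z =
        S.bV z (U e' b) • U e' a := fun a b => by
      rw [show Function.update (fun l => S.P (e' l)) i (S.op a b) = fun l => Matrix.vecMulVec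
        (Function.update e' i a l) (S.G *ᵥ Function.update e' i b l) from funext fun l => by
          rcases eq_or_ne l i with rfl | hl
          · simp [op]
          · simp [Function.update_of_ne hl, P, op], pmat_vecMulVec, Matrix.vecMulVec_mulVec, bV,
        pmat_mulVec_pvec, op_smul_eq_smul]
    rw [hval, Matrix.add_mulVec, Matrix.one_mulVec, Matrix.smul_mulVec, N, pmat_update_sub, Matrix.sub_mulVec,
      hop, hop, hQw, zero_mul, sub_zero, hpol, hpol]
    module
  -- roots on pure vectors
  have hroot : ∀ (z : Fin t → Fin k → F), (∀ l, S.bb (z l) (z l) = 0) → (∀ l, z l ≠ 0) → ∀ x y s,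
      ∃ A, MV M A ∧ ∀ w' : Fin t → Fin k → F, A *ᵥ pvec w' = pvec w' +
        (s * ∏ l ∈ Finset.univ.erase i, S.bb (w' l) (z l)) • U z (S.N x y *ᵥ w' i) := by
    intro z hz hz0 x y s
    refine ⟨_, hrt z hz hz0 x y s, fun w' => ?_⟩
    rw [Matrix.add_mulVec, Matrix.one_mulVec, Matrix.smul_mulVec, pmat_mulVec_pvec, mul_smul]
    congr 2
    funext a
    simp only [U, Pi.smul_apply, smul_eq_mul, pvec_update]
    rw [pvec, ← Finset.mul_prod_erase _ _ (Finset.mem_univ i), Function.update_self, mul_left_comm,
      ← Finset.prod_mul_distrib]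
    congr 1
    refine Finset.prod_congr rfl fun l hl => ?_
    rw [Function.update_of_ne (Finset.ne_of_mem_erase hl), P_mulVec, Pi.smul_apply, smul_eq_mul]
  -- the set of vectors giving elements with the same centre
  let mk : (Fin t → S.Pr) → ((Fin t → Fin k) → F) := fun u => pvec fun l => (u l).e
  have hp : ∀ u, Q (mk u) = 0 := fun u => hQp _ i (u i).he
  let T : (Fin t → S.Pr) → AddSubgroup ((Fin t → Fin k) → F) := fun u =>
    { carrier := {w | polar Q (mk u) w = 0 ∧ ∃ h ∈ M, OmS.IsSg Q h (mk u) w}
      zero_mem' := ⟨by simp, 1, M.one_mem, fun x => by simp⟩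
      add_mem' := by
        rintro w w' ⟨hw, h, hh, hhx⟩ ⟨hw', h', hh', hhx'⟩
        refine ⟨by rw [polar_add_right, hw, hw', add_zero], h * h', M.mul_mem hh hh', fun x => ?_⟩
        rw [gl_mulVec_mul, hhx', hhx, ← Classical.Quad.siegel_apply (hp u) hw',
          ← Classical.Quad.siegel_apply (hp u) hw, ← Classical.Quad.mul_apply,
          Classical.Quad.siegel_mul (hp u) hw hw', Classical.Quad.siegel_apply]
      neg_mem' := by
        rintro w ⟨hw, h, hh, hhx⟩
        refine ⟨by rw [polar_neg_right, hw, neg_zero], h⁻¹, M.inv_mem hh, fun x => gl_mulVec_injective h ?_⟩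
        show _ *ᵥ _ = _ *ᵥ _
        have hw' : polar Q (mk u) (-w) = 0 := by rw [polar_neg_right, hw, neg_zero]
        rw [gl_mulVec_inv_mulVec, hhx, ← Classical.Quad.siegel_apply (hp u) hw',
          ← Classical.Quad.siegel_apply (hp u) hw, ← Classical.Quad.mul_apply,
          Classical.Quad.siegel_mul (hp u) hw hw', Classical.Quad.siegel_apply]
        simp }
  have hmove : ∀ u, ∀ w ∈ T u, ∀ A : Matrix (Fin t → Fin k) (Fin t → Fin k) F, MV M A → A *ᵥ mk u = mk u →
      A *ᵥ w - w ∈ T u := by
    rintro u w hwT _ ⟨h, hh, rfl⟩ hhp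
    refine (T u).sub_mem ?_ hwT
    obtain ⟨hw, k', hk, hkx⟩ := hwT
    have hho := hle hh
    refine ⟨by rw [← hhp, OmS.omega_polar hho, hw], h * k' * h⁻¹, M.mul_mem (M.mul_mem hh hk) (M.inv_mem hh),
      fun x => ?_⟩
    set x' := ((h⁻¹ : GL (Fin t → Fin k) F) : Matrix (Fin t → Fin k) (Fin t → Fin k) F) *ᵥ x with hx'
    have hgx : (h : Matrix (Fin t → Fin k) (Fin t → Fin k) F) *ᵥ x' = x := gl_mulVec_inv_mulVec h x
    rw [gl_mulVec_mul, gl_mulVec_mul, ← hx', hkx, mulVec_add, mulVec_add, mulVec_smul, mulVec_smul,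
      hgx, hhp, ← OmS.omega_polar hho x' (mk u), ← OmS.omega_polar hho x' w, hgx, hhp, ← OmS.omega_iso hho w]
  have hlineAll : ∀ u v, U (fun l => (u l : S.Pr).e) v ∈ T u := by
    intro u v
    obtain ⟨h, hh, hhx⟩ := hsg _ (fun l => (u l).he) (fun l => (u l).e_ne) (u i).e v
    have e : U (fun l => (u l).e) (u i).e = mk u := by
      show pvec _ = _
      rw [Function.update_eq_self i fun l => (u l).e]
    rw [e] at hhx
    refine ⟨?_, h, hh, hhx⟩
    rw [hpol, S.bV_update, Finset.prod_eq_zero (Finset.mem_erase.2 ⟨hj, Finset.mem_univ j⟩) (u j).he, mul_zero,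
      mul_zero]
  -- the orthogonal of the vector of the distinguished slot
  have hperp : ∀ (u : Fin t → S.Pr) (T0 : Finset (Fin t)) (z : Fin t → Fin k → F),
      (∀ l, l ≠ i → l ∉ T0 → S.bb (z l) (z l) = 0 ∧ S.bb (u l).e (z l) ≠ 0) →
      ∀ v, S.bb (u i).e v = 0 → U z v ∈ T u := by
    intro u T0
    induction T0 using Finset.induction with
    | empty =>
      intro z hz
      set z' := Function.update z i (u i).f with hz'
      have hz1 : ∀ l, S.bb (z' l) (z' l) = 0 ∧ z' l ≠ 0 := fun l => by
        rcases eq_or_ne l i with rfl | hl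
        · simp only [z', Function.update_self]; exact ⟨(u l).hf, (u l).f_ne⟩
        · simp only [z', Function.update_of_ne hl]
          exact ⟨(hz l hl (Finset.notMem_empty l)).1,
            fun h => (hz l hl (Finset.notMem_empty l)).2 (by rw [h, S.bb_zero_right])⟩
      set R := ∏ l ∈ Finset.univ.erase i, S.bb (u l).e (z' l) with hR
      have hR0 : R ≠ 0 := Finset.prod_ne_zero_iff.2 fun l hl => by
        simp only [z', Function.update_of_ne (Finset.ne_of_mem_erase hl)]
        exact (hz l (Finset.ne_of_mem_erase hl) (Finset.notMem_empty l)).2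
      have key : ∀ x x' y, S.bb (u i).e x = 0 → S.bb (u i).e x' = 0 → U z (S.N x x' *ᵥ y) ∈ T u := by
        intro x x' y hx hx'
        obtain ⟨A, hA, hAp⟩ := hroot z' (fun l => (hz1 l).1) (fun l => (hz1 l).2) x x' R⁻¹
        have hfix : A *ᵥ mk u = mk u := by
          show A *ᵥ pvec _ = pvec _
          rw [hAp, show S.N x x' *ᵥ (u i).e = 0 by rw [N_mulVec, hx, hx', zero_smul, zero_smul, sub_zero]]
          simp only [U, pvec_update_zero, smul_zero, add_zero]
        have h' := hmove u _ (hlineAll u y) A hA hfix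
        have e : A *ᵥ U (fun l => (u l).e) y - U (fun l => (u l).e) y = U z (S.N x x' *ᵥ y) := by
          show A *ᵥ pvec _ - pvec _ = pvec _
          rw [hAp, add_sub_cancel_left, Function.update_self, Finset.prod_congr rfl fun l hl => by
            rw [Function.update_of_ne (Finset.ne_of_mem_erase hl)], ← hR, inv_mul_cancel₀ hR0, one_smul]
          show pvec _ = _
          rw [hz', Function.update_idem]
        rwa [e] at h'
      obtain ⟨a, ha, hQa⟩ := (u i).exists_aniso
      have hu : ∀ s : F, U z (s • (u i).e) ∈ T u := fun s => by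
        have := key a (u i).e ((s * (2 * S.Q a)⁻¹) • a) ha.1 (u i).he
        rwa [N_mulVec, S.bb_smul_left, S.bb_smul_left, S.bb_comm a (u i).e, ha.1, mul_zero, zero_smul, sub_zero,
          S.bb_self, mul_assoc, inv_mul_cancel₀ (mul_ne_zero h2 hQa), mul_one] at this
      intro v hv
      have h1 := key (u i).e v (u i).f (u i).he hv
      rw [N_mulVec, (u i).h1', one_smul] at h1
      have h3 := (T u).add_mem h1 (hu (S.bb (u i).f v))
      show pvec _ ∈ T u
      rwa [show U z (v - S.bb (u i).f v • (u i).e) + U z (S.bb (u i).f v • (u i).e) = pvec (Function.update z i v) by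
        show pvec _ + pvec _ = _
        rw [← pvec_update_add, sub_add_cancel]] at h3
    | insert m T0 hm ih =>
      intro z hz v hv
      by_cases hmi : m = i
      · exact ih z (fun l hl hl' => hz l hl (by simp [hl', hmi ▸ hl])) v hv
      let A : AddSubgroup (Fin k → F) :=
        { carrier := {y | U (Function.update z m y) v ∈ T u}
          zero_mem' := by
            show U _ v ∈ T u
            rw [hUcomm z 0 v hmi, pvec_update_zero]; exact (T u).zero_mem
          add_mem' := fun {a b} (ha : U _ v ∈ T u) (hb : U _ v ∈ T u) => by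
            show U _ v ∈ T u
            rw [hUcomm z (a + b) v hmi, pvec_update_add, ← hUcomm z a v hmi, ← hUcomm z b v hmi]
            exact (T u).add_mem ha hb
          neg_mem' := fun {a} (ha : U _ v ∈ T u) => by
            show U _ v ∈ T u
            rw [hUcomm z (-a) v hmi, ← neg_one_smul F a, pvec_update_smul, neg_one_smul, ← hUcomm z a v hmi]
            exact (T u).neg_mem ha }
      have hA : ∀ y, S.bb y y = 0 → S.bb (u m).e y ≠ 0 → y ∈ A := fun y hy hy' =>
        ih _ (fun l hl hl' => by
          rcases eq_or_ne l m with rfl | hlm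
          · rw [Function.update_self]; exact ⟨hy, hy'⟩
          · rw [Function.update_of_ne hlm]; exact hz l hl (by simp [hlm, hl'])) v hv
      have hall : z m ∈ A := by
        have hv' : ∀ (r : F) w, r ≠ 0 → (u m).InW w →
            r • ((u m).f + w + (-S.Q w) • (u m).e) ∈ A := fun r w hr hw => by
          refine hA _ ?_ ?_
          · simp only [S.bb_add_left, S.bb_add_right, S.bb_smul_left, S.bb_smul_right, (u m).he, (u m).hf,
              (u m).h1, (u m).h1', hw.1, hw.2, S.bb_comm w (u m).e, S.bb_comm w (u m).f, S.bb_self w]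
            ring
          · simpa [S.bb_add_right, S.bb_neg_right, S.bb_smul_right, (u m).he, (u m).h1, hw.1] using hr
        have hW : ∀ w, (u m).InW w → w ∈ A := fun w hw => by
          have := A.sub_mem (hv' 1 _ one_ne_zero (hw.smul (2 : F)⁻¹)) (hv' 1 _ one_ne_zero (hw.smul (2 : F)⁻¹).neg)
          convert this using 1
          rw [S.Q_neg]
          match_scalars <;> field_simp <;> ring
        have hf : ∀ r : F, r • (u m).f ∈ A := fun r => by
          rcases eq_or_ne r 0 with rfl | hr
          · rw [zero_smul]; exact A.zero_mem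
          · simpa [S.Q_zero] using hv' r 0 hr (u m).inW_zero
        obtain ⟨a, ha, hQa⟩ := (u m).exists_aniso
        have he : ∀ r : F, r • (u m).e ∈ A := fun r => by
          rcases eq_or_ne r 0 with rfl | hr
          · rw [zero_smul]; exact A.zero_mem
          set d := -r * (2 * S.Q a)⁻¹
          have hd : d ≠ 0 := mul_ne_zero (neg_ne_zero.2 hr) (inv_ne_zero (mul_ne_zero h2 hQa))
          have := A.sub_mem (A.add_mem (hv' d a hd ha) (hv' d _ hd ha.neg)) (A.add_mem (hf d) (hf d))
          convert this using 1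
          rw [S.Q_neg]
          match_scalars
          all_goals simp only [d]
          all_goals field_simp
          all_goals ring
        rw [(u m).eq_pr_add (z m)]
        exact A.add_mem (A.add_mem (hW _ ((u m).pr_mem _)) (he _)) (hf _)
      have hall' : U (Function.update z m (z m)) v ∈ T u := hall
      rwa [Function.update_eq_self] at hall'
  have hperp' : ∀ (u : Fin t → S.Pr) z v, S.bb (u i).e v = 0 → U z v ∈ T u := fun u z v hv =>
    hperp u Finset.univ z (fun l _ hl => absurd (Finset.mem_univ l) hl) v hv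
  have hSS : ∀ u : Fin t → S.Pr, mk u ∈ OmS.SS Q M := by
    intro u
    set ue := fun l => (u l).e
    set y0 := fun l => (u l).f
    let u' := Function.update u i (u i).swap
    have hu'p : mk u' = U ue (u i).f := congrArg pvec (funext fun l => by
      rcases eq_or_ne l i with rfl | hl
      · simp [u', Pr.swap]
      · simp [u', Function.update_of_ne hl, ue])
    have hpp' : polar Q (mk u) (mk u') = 0 := by
      rw [hu'p, hpol, S.bV_update, Finset.prod_eq_zero (Finset.mem_erase.2 ⟨hj, Finset.mem_univ j⟩) (u j).he,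
        mul_zero, mul_zero]
    have hW0 : ∀ (y : Fin t → Fin k → F) m, m ≠ i → (u m).InW (y m) → ∀ s : F, U y (s • (u i).f) ∈ T u := by
      intro y m hmi hy s
      have hsf : S.bb (u' i).e ((c⁻¹ * s) • (u i).f) = 0 := by
        simp [u', Pr.swap, S.bb_smul_right, (u i).hf]
      obtain ⟨hw', h, hh, hhx⟩ := hperp' u' y _ hsf
      set w' := U y ((c⁻¹ * s) • (u i).f)
      have hQw' : Q w' = 0 := hQp _ i (by
        rw [Function.update_self]; simp [S.bb_smul_left, S.bb_smul_right, (u i).hf])
      have hpw' : polar Q (mk u) w' = 0 := by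
        rw [hpol, S.bV_update, Finset.prod_eq_zero (Finset.mem_erase.2 ⟨hmi, Finset.mem_univ m⟩) hy.1, mul_zero,
          mul_zero]
      set qv := U y0 (u i).e
      have hq : qv ∈ T u := hperp' u y0 _ (u i).he
      have hqp' : polar Q qv (mk u') = c := by
        rw [hu'p, hpol, S.bV_update, Function.update_self, (u i).h1, Finset.prod_eq_one fun l hl => by
          rw [Function.update_of_ne (Finset.ne_of_mem_erase hl)]; exact (u l).h1', mul_one, mul_one]
      have hqw' : polar Q qv w' = 0 := by
        rw [hpol, S.bV_update, Finset.prod_eq_zero (Finset.mem_erase.2 ⟨hmi, Finset.mem_univ m⟩) (by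
          rw [Function.update_of_ne hmi]; exact hy.2), mul_zero, mul_zero]
      have hfix : h.val *ᵥ mk u = mk u := by
        rw [hhx, hpp', hpw', hQw']; simp
      have := hmove u qv hq h.val ⟨h, hh, rfl⟩ hfix
      rw [hhx, hqp', hqw', hQw'] at this
      simp only [neg_zero, zero_mul, sub_zero, zero_smul, add_zero, add_sub_cancel_left] at this
      show pvec _ ∈ T u
      rwa [show c • w' = pvec (Function.update y i (s • (u i).f)) by
        show c • pvec _ = _
        rw [← pvec_update_smul, smul_smul, ← mul_assoc, mul_inv_cancel₀ hc, one_mul]] at this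
    have hE : ∀ (y : Fin t → Fin k → F) m, m ≠ i → S.bb (u m).e (y m) = 0 → ∀ s : F,
        U y (s • (u i).f) ∈ T u := by
      intro y m hmi hy s
      obtain ⟨a, ha, hQa⟩ := (u m).exists_aniso
      have hel : ∀ r : F, U (Function.update y m (u m).e) (r • (u i).f) ∈ T u := by
        intro r
        set r' := r * (-(2 * S.Q a))⁻¹
        have h1 := hW0 (Function.update y m a) m hmi (by rwa [Function.update_self]) r'
        have hz := H.z_mem m (u m).he ha.1
        have hfix : slot m (S.z (u m).e a) *ᵥ mk u = mk u := by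
          show slot m _ *ᵥ pvec ue = pvec ue
          rw [slot_eq, pmat_mulVec_pvec]
          congr 1
          funext l
          rcases eq_or_ne l m with rfl | hl
          · rw [Function.update_self, z_mulVec]; simp [ue, (u l).he, ha.1]
          · rw [Function.update_of_ne hl, Pi.one_apply, Matrix.one_mulVec]
        have h3 := hmove u _ h1 _ hz hfix
        show pvec _ ∈ T u
        convert h3 using 1
        show pvec _ = slot m _ *ᵥ pvec _ - pvec _
        set x := Function.update (Function.update y m a) i (r' • (u i).f)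
        have hxm : x m = a := by simp [x, Function.update_of_ne hmi]
        rw [slot_eq, pmat_mulVec_pvec, show (fun l => Function.update (1 : Fin t → Matrix (Fin k) (Fin k) F) m
          (S.z (u m).e a) l *ᵥ x l) = Function.update x m (a + (-(2 * S.Q a)) • (u m).e) from funext fun l => by
            rcases eq_or_ne l m with rfl | hl
            · rw [Function.update_self, Function.update_self, hxm, z_mulVec, S.bb_comm a (u l).e, ha.1, S.bb_self]
              simp
            · rw [Function.update_of_ne hl, Function.update_of_ne hl, Pi.one_apply, Matrix.one_mulVec],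
          pvec_update_add, show Function.update x m a = x by rw [← hxm, Function.update_eq_self],
          add_sub_cancel_left]
        have hx : Function.update x m (u m).e = Function.update (Function.update y m (u m).e) i (r' • (u i).f) := by
          simp only [x]
          rw [Function.update_comm hmi.symm, Function.update_idem]
        rw [pvec_update_smul x m, hx, ← pvec_update_smul, smul_smul]
        congr 3
        simp only [r']
        field_simp [neg_ne_zero.2 (mul_ne_zero h2 hQa)]
      have hym : y m = (u m).pr (y m) + S.bb (y m) (u m).f • (u m).e := by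
        conv_lhs => rw [(u m).eq_pr_add (y m)]
        rw [S.bb_comm (y m) (u m).e, hy, zero_smul, add_zero]
      have h1 := hW0 (Function.update y m ((u m).pr (y m))) m hmi (by
        rw [Function.update_self]; exact (u m).pr_mem _) s
      have h3 := (T u).add_mem h1 (hel (S.bb (y m) (u m).f * s))
      convert h3 using 1
      conv_lhs => rw [← Function.update_eq_self m y, hym]
      rw [hUcomm _ _ _ hmi, hUcomm _ _ _ hmi, hUcomm _ _ _ hmi, pvec_update_add]
      congr 1
      rw [pvec_update_smul, ← hUcomm _ _ _ hmi, ← hUcomm _ _ _ hmi]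
      show _ • pvec _ = pvec _
      rw [← pvec_update_smul, smul_smul]
    have hG : ∀ (T0 : Finset (Fin t)) (y : Fin t → Fin k → F), (∀ l, l ≠ i → l ∉ T0 → y l = y0 l) → ∀ s : F,
        ∃ r : F, U y (s • (u i).f) - U y0 (r • (u i).f) ∈ T u := by
      intro T0
      induction T0 using Finset.induction with
      | empty =>
        intro y hy s
        refine ⟨s, ?_⟩
        have e : Function.update y i (s • (u i).f) = Function.update y0 i (s • (u i).f) := funext fun l => by
          rcases eq_or_ne l i with rfl | hl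
          · simp
          · simp [Function.update_of_ne hl, hy l hl (Finset.notMem_empty l)]
        show pvec _ - pvec _ ∈ T u
        rw [e, sub_self]; exact (T u).zero_mem
      | insert m T0 hm ih =>
        intro y hy s
        by_cases hmi : m = i
        · exact ih y (fun l hl hl' => hy l hl (by simp [hl', hmi ▸ hl])) s
        set d := S.bb (u m).e (y m)
        obtain ⟨r, hr⟩ := ih (Function.update y m (u m).f) (fun l hl hl' => by
          rcases eq_or_ne l m with rfl | hlm
          · rw [Function.update_self]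
          · rw [Function.update_of_ne hlm]; exact hy l hl (by simp [hlm, hl'])) (d * s)
        have h1 := hE (Function.update y m (y m - d • (u m).f)) m hmi (by
          rw [Function.update_self, S.bb_sub_right, S.bb_smul_right, (u m).h1, mul_one, sub_self]) s
        refine ⟨r, ?_⟩
        have h3 := (T u).add_mem h1 hr
        convert h3 using 1
        rw [← add_sub_assoc]
        congr 1
        conv_lhs => rw [← Function.update_eq_self m y, show y m = (y m - d • (u m).f) + d • (u m).f by
          rw [sub_add_cancel]]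
        rw [hUcomm _ _ _ hmi, hUcomm _ _ _ hmi, hUcomm _ _ _ hmi, pvec_update_add]
        congr 1
        rw [pvec_update_smul, ← hUcomm _ _ _ hmi, ← hUcomm _ _ _ hmi]
        show _ • pvec _ = pvec _
        rw [← pvec_update_smul, smul_smul]
    refine ⟨hp u, fun w hw => ?_⟩
    obtain ⟨r, hr⟩ : ∃ r : F, w - U y0 (r • (u i).f) ∈ T u := by
      have hdec : w = ∑ a, w a • pvec fun l => Pi.single (a l) (1 : F) := by
        conv_lhs => rw [pi_eq_sum_univ' w]
        simp only [pvec_single]
      rw [hdec]
      have : ∀ (s : Finset (Fin t → Fin k)), ∃ r : F,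
          ∑ a ∈ s, w a • pvec (fun l => Pi.single (a l) (1 : F)) - U y0 (r • (u i).f) ∈ T u := by
        intro s
        induction s using Finset.induction with
        | empty =>
          refine ⟨0, ?_⟩
          show _ - pvec _ ∈ T u
          rw [zero_smul, pvec_update_zero, Finset.sum_empty, sub_zero]; exact (T u).zero_mem
        | insert a s ha ih =>
          obtain ⟨r, hr⟩ := ih
          set y := fun l => (Pi.single (a l) (1 : F) : Fin k → F)
          set d := S.bb (u i).e (y i)
          obtain ⟨r', hr'⟩ := hG Finset.univ y (fun l _ hl => absurd (Finset.mem_univ l) hl) (w a * d)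
          have h1 := hperp' u y (w a • (y i - d • (u i).f)) (by
            rw [S.bb_smul_right, S.bb_sub_right, S.bb_smul_right, (u i).h1, mul_one, sub_self, mul_zero])
          refine ⟨r + r', ?_⟩
          have h3 := (T u).add_mem ((T u).add_mem h1 hr') hr
          convert h3 using 1
          rw [Finset.sum_insert ha]
          show _ - pvec _ = pvec _ + (pvec _ - pvec _) + (_ - pvec _)
          rw [add_smul, pvec_update_add, show w a • pvec y =
            pvec (Function.update y i (w a • (y i - d • (u i).f))) + pvec (Function.update y i ((w a * d) • (u i).f)) by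
              rw [mul_smul, ← pvec_update_add, ← smul_add, sub_add_cancel, pvec_update_smul, Function.update_eq_self]]
          abel
      exact this Finset.univ
    have h0 := hr.1
    rw [polar_sub_right, hw, zero_sub, neg_eq_zero, hpol, S.bV_update, S.bb_smul_right, (u i).h1, mul_one,
      Finset.prod_eq_one (fun l _ => (u l).h1), mul_one, mul_eq_zero, or_iff_right hc] at h0
    rw [h0] at hr
    have e0 : U y0 ((0 : F) • (u i).f) = 0 := by
      show pvec _ = 0
      rw [zero_smul, pvec_update_zero]
    rw [e0, sub_zero] at hr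
    exact hr.2
  refine OmS.omega_le_of_pair hnd (OmE.exists_frame hnd hn).1.some hle (hSS q₀) (hSS fun l => (q₀ l).swap) ?_
  rw [hpol, S.bV_pvec]
  show c * ∏ l, S.bb (q₀ l).e (q₀ l).f ≠ 0
  rw [Finset.prod_eq_one fun l _ => (q₀ l).h1, mul_one]
  exact hc

end Sym

end CfsgLib.ClassicalMax.OWr
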