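/-
Stabilisers of orthogonal tensor powers: the endgame from the averaging step to maximality in `Ω`.
-/
import Cfsg.Agent.Lib.ClassicalMax.OrthWreath.Root
import Cfsg.Agent.Lib.ClassicalMax.OrthTensorMax.Max2
import Cfsg.Agent.Lib.ClassicalMax.TensorTools
set_option autoImplicit false
set_option linter.unusedSectionVars false
set_option linter.unusedVariables false
set_option linter.unusedSimpArgs false

namespace CfsgLib.ClassicalMax.OWr

open Matrix Cfsg.Geo QuadraticMap
open CfsgLib.ClassicalMax.TWreath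
open CfsgLib.Classical.Quad (NDPolar)

variable {F : Type*} [Field F] {k t : ℕ}

lemma polarBilin_nondeg' {ι : Type} [Fintype ι] [DecidableEq ι] {Q : QuadraticForm F (ι → F)} (hnd : NDPolar Q) :
    (QuadraticMap.polarBilin Q).Nondegenerate :=
  ⟨fun x hx => hnd x hx, fun x hx => hnd x fun y => by rw [polar_comm]; exact hx y⟩

namespace Sym

variable {S : Sym F k}

lemma bV_comm (x y : (Fin t → Fin k) → F) : S.bV x y = S.bV y x := by
  rw [bV, bV, dotProduct_comm, Matrix.dotProduct_mulVec, ← Matrix.mulVec_transpose]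
  congr 1
  congr 1
  exact Matrix.ext fun a b => by
    rw [Matrix.transpose_apply, pmat_apply, pmat_apply]
    exact Finset.prod_congr rfl fun l _ => congrFun (congrFun S.sym (a l)) (b l)

/-- Membership in the isometries of the pairing. -/
lemma mem_Iso_iff_bV {g : GL (Fin t → Fin k) F} :
    g ∈ S.Iso t ↔ ∀ x y, S.bV (g.val *ᵥ x) (g.val *ᵥ y) = S.bV x y := by
  have e : ∀ x y, S.bV (g.val *ᵥ x) (g.val *ᵥ y) =
      ((g.valᵀ * pmat (fun _ : Fin t => S.G) * g.val) *ᵥ y) ⬝ᵥ x := fun x y => by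
    rw [bV, Matrix.mulVec_mulVec, mul_assoc, ← Matrix.mulVec_mulVec _ g.valᵀ, dotProduct_comm _ x,
      Matrix.dotProduct_mulVec x, Matrix.vecMul_transpose, dotProduct_comm]
  constructor
  · intro h x y
    have h' : pmat (fun _ : Fin t => S.Gi) * g.valᵀ * pmat (fun _ => S.G) * g.val = 1 := h
    have h1 := congrArg (pmat (fun _ : Fin t => S.G) * ·) h'
    simp only [← mul_assoc, S.pmat_G_mul_Gi, one_mul, mul_one] at h1
    rw [e, h1, bV]
  · intro h
    show pmat (fun _ : Fin t => S.Gi) * g.valᵀ * pmat (fun _ => S.G) * g.val = 1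
    have h1 : g.valᵀ * pmat (fun _ : Fin t => S.G) * g.val = pmat (fun _ : Fin t => S.G) :=
      Matrix.ext fun a b => by
        have h2 := h (Pi.single a 1) (Pi.single b 1)
        rw [e] at h2
        simpa [bV] using h2
    rw [mul_assoc _ (g.valᵀ), mul_assoc, h1, S.pmat_Gi_mul_G]

variable {Q : QuadraticForm F ((Fin t → Fin k) → F)} {c : F}

/-- The isometry group of a form similar to the tensor power. -/
lemma isometryGroup_eq_Iso (hc : c ≠ 0) (hpol : ∀ x y, polar Q x y = c * S.bV x y) :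
    Cfsg.isometryGroup F ⇑Q = S.Iso t := by
  have hQ : ∀ x, 2 * Q x = c * S.bV x x := fun x => by rw [← hpol, Classical.Quad.polar_self']
  ext g
  rw [mem_Iso_iff_bV]
  constructor
  · intro h x y
    have h1 : ∀ z, Q (g.val *ᵥ z) = Q z := fun z => h z 0
    refine mul_left_cancel₀ hc ?_
    rw [← hpol, ← hpol, polar, polar, ← Matrix.mulVec_add, h1, h1, h1]
  · intro h z _
    show Q (g.val *ᵥ z) = Q z
    exact mul_left_cancel₀ S.two (by rw [hQ, hQ, h])

variable [Fintype F]

/-- The sum of two pure vectors differing in two slots is not pure. -/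
lemma exists_not_std [DecidableEq F] (hc : c ≠ 0) (hpol : ∀ x y, polar Q x y = c * S.bV x y) (hnd : NDPolar Q)
    (ht : 2 ≤ t) : ∃ g ∈ omegaGL ⇑Q, g ∉ tensorWreathStandard k t F := by
  classical
  obtain ⟨p⟩ := S.exists_pr
  obtain ⟨w, hw, hQw⟩ := p.exists_aniso
  have ⟨i, j, hij⟩ : ∃ i j : Fin t, i ≠ j := ⟨⟨0, by omega⟩, ⟨1, by omega⟩, by simp [Fin.ext_iff]⟩
  set B : Fin t → Matrix (Fin k) (Fin k) F :=
    Function.update (fun _ => S.P p.e) i ((2 : F)⁻¹ • S.N p.e w) with hB
  set N := pmat B with hN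
  have hBB : ∀ l, l ≠ i → B l * B l = 0 := fun l hl => by
    rw [hB, Function.update_of_ne hl, S.P_mul_P p.he]
  have hNN : N * N = 0 := by
    rw [hN, pmat_mul]
    exact Matrix.ext fun a b => by
      rw [pmat_apply, Matrix.zero_apply]
      exact Finset.prod_eq_zero (Finset.mem_univ j) (by rw [hBB j hij.symm]; rfl)
  let g : GL (Fin t → Fin k) F := ⟨1 + N, 1 - N,
    by rw [add_mul, one_mul, mul_sub, mul_one, hNN, sub_zero, sub_add_cancel],
    by rw [sub_mul, one_mul, mul_add, mul_one, hNN, add_zero, add_sub_cancel_right]⟩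
  have hadjN : S.adjB N = -N := by
    rw [hN, S.adjB_pmat]
    have : (fun l => S.adj (B l)) = Function.update B i ((-1 : F) • B i) := funext fun l => by
      rcases eq_or_ne l i with rfl | hl
      · rw [Function.update_self, hB, Function.update_self, S.adj_smul, S.adj_N, neg_one_smul, smul_neg]
      · rw [Function.update_of_ne hl, hB, Function.update_of_ne hl, S.adj_P]
    rw [this, pmat_update_smul, Function.update_eq_self, neg_one_smul]
  have hgI : g ∈ Cfsg.isometryGroup F ⇑Q := by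
    rw [S.isometryGroup_eq_Iso hc hpol, S.mem_Iso]
    show S.adjB (1 + N) * (1 + N) = 1
    rw [map_add, S.adjB_one, hadjN, ← sub_eq_add_neg, sub_mul, one_mul, mul_add, mul_one, hNN,
      add_zero, add_sub_cancel_right]
  have hcard : 2 ≤ Fintype.card (Fin t → Fin k) := by
    have := S.three_le
    simp only [Fintype.card_fun, Fintype.card_fin]
    calc 2 ≤ k := by omega
      _ ≤ k ^ t := Nat.le_self_pow (by omega) k
  refine ⟨g * g, ⟨(⟨g, hgI⟩ : Cfsg.isometryGroup F ⇑Q) ^ 2, PrimeGraph.sq_mem_Omega S.two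
    (polarBilin_nondeg' hnd) hcard _, by simp [pow_two]⟩, fun hstd => ?_⟩
  obtain ⟨σ, A, hA⟩ := mem_std_iff.1 hstd
  -- the image of a pure vector is pure
  set x : Fin t → Fin k → F := fun _ => p.f with hx
  set x' : Fin t → Fin k → F := Function.update (fun _ => p.e) i w with hx'
  obtain ⟨y, hy⟩ : ∃ y, (g * g).val *ᵥ pvec x = pvec y := ⟨_, by
    rw [hA, Units.val_mul, ← Matrix.mulVec_mulVec, coe_permGL, permMat_mulVec_pvec, coe_pmatGL,
      pmat_mulVec_pvec]⟩
  have hsum : pvec y = pvec x + pvec x' := by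
    rw [← hy]
    show ((1 + N) * (1 + N)) *ᵥ pvec x = _
    rw [add_mul, one_mul, mul_add, mul_one, hNN, add_zero, add_assoc, ← two_smul F N, Matrix.add_mulVec,
      Matrix.one_mulVec, Matrix.smul_mulVec, hN, pmat_mulVec_pvec]
    congr 1
    rw [show (fun l => B l *ᵥ x l) = Function.update x' i ((2 : F)⁻¹ • x' i) from funext fun l => by
      rcases eq_or_ne l i with rfl | hl
      · rw [Function.update_self, hB, Function.update_self, hx', Function.update_self, Matrix.smul_mulVec,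
          S.N_mulVec, hx, p.h1', hw.2, one_smul, zero_smul, sub_zero]
      · rw [Function.update_of_ne hl, hB, Function.update_of_ne hl, hx', Function.update_of_ne hl, S.P_mulVec, hx,
          p.h1', one_smul],
      pvec_update_smul, Function.update_eq_self, smul_smul, mul_inv_cancel₀ S.two, one_smul]
  -- test against four pure vectors
  let T : (Fin k → F) → (Fin k → F) → Fin t → Fin k → F := fun a b =>
    Function.update (Function.update (fun _ => p.e + p.f) i a) j b
  have hval : ∀ a b, S.bb a (y i) * S.bb b (y j) *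
      ∏ l ∈ (Finset.univ.erase i).erase j, S.bb (p.e + p.f) (y l) =
      S.bb a p.f * S.bb b p.f + S.bb a w * S.bb b p.e := fun a b => by
    have h := congrArg (S.bV (pvec (T a b))) hsum
    rw [show S.bV (pvec (T a b)) (pvec x + pvec x') =
        S.bV (pvec (T a b)) (pvec x) + S.bV (pvec (T a b)) (pvec x') by
      rw [bV, bV, bV, Matrix.mulVec_add, add_dotProduct], S.bV_pvec, S.bV_pvec, S.bV_pvec] at h
    have split : ∀ z : Fin t → Fin k → F, ∏ l, S.bb (T a b l) (z l) = S.bb a (z i) * S.bb b (z j) *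
        ∏ l ∈ (Finset.univ.erase i).erase j, S.bb (p.e + p.f) (z l) := fun z => by
      rw [← Finset.mul_prod_erase _ _ (Finset.mem_univ i),
        ← Finset.mul_prod_erase (Finset.univ.erase i) _ (Finset.mem_erase.2 ⟨hij.symm, Finset.mem_univ j⟩), ← mul_assoc,
        Finset.prod_congr rfl fun l hl => show S.bb (T a b l) (z l) = S.bb (p.e + p.f) (z l) by
          simp only [Finset.mem_erase] at hl
          simp [T, hl.1, hl.2.1]]
      simp [T, hij]
    rw [split, split, split] at h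
    rw [h]
    congr 1
    · rw [Finset.prod_eq_one fun l _ => by rw [hx, S.bb_add_left, p.h1, p.hf, add_zero], mul_one]
    · rw [Finset.prod_eq_one fun l hl => by
        simp only [Finset.mem_erase] at hl
        rw [hx', Function.update_of_ne hl.2.1, S.bb_add_left, p.he, p.h1', zero_add], mul_one,
        hx', Function.update_self, Function.update_of_ne hij.symm]
  have hww : S.bb w w ≠ 0 := by rw [S.bb_self]; exact mul_ne_zero S.two hQw
  have h11 := hval p.e p.e
  have h12 := hval p.e p.f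
  have h21 := hval w p.e
  have h22 := hval w p.f
  rw [p.h1, p.he, hw.1, mul_one, zero_mul, add_zero] at h11
  rw [p.h1, p.hf, hw.1, mul_zero, zero_mul, add_zero] at h12
  rw [S.bb_comm w p.f, hw.2, p.he, zero_mul, mul_zero, add_zero] at h21
  rw [p.hf, p.h1', S.bb_comm w p.f, hw.2, zero_mul, mul_one, zero_add] at h22
  refine hww ?_
  linear_combination (-S.bb w w) * h11 + (-S.bb p.e (y i) * S.bb p.e (y j) *
    ∏ l ∈ (Finset.univ.erase i).erase j, S.bb (p.e + p.f) (y l)) * h22 + (S.bb w (y i) * S.bb p.e (y j) *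
    ∏ l ∈ (Finset.univ.erase i).erase j, S.bb (p.e + p.f) (y l)) * h12

/-- The elements of `Ω` in the stabiliser give the hypothesis on an overgroup. -/
lemma over_of_omega [DecidableEq F] (hc : c ≠ 0) (hpol : ∀ x y, polar Q x y = c * S.bV x y) (hnd : NDPolar Q)
    (hn : 2 ≤ Fintype.card (Fin t → Fin k)) {M : Subgroup (GL (Fin t → Fin k) F)} (hle : M ≤ omegaGL ⇑Q)
    (hin : ∀ m ∈ omegaGL ⇑Q, m ∈ tensorWreathStandard k t F → m ∈ M) : S.Over M := by
  have hI := S.isometryGroup_eq_Iso hc hpol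
  refine ⟨fun m hm => ?_, fun g hg hgI => hin _ ?_ (mul_mem hg hg), fun g hg hgI h hh hhI => hin _ ?_
    (mul_mem (mul_mem (mul_mem hg hh) (inv_mem hg)) (inv_mem hh))⟩
  · rw [← hI]
    exact Subgroup.map_subtype_le _ (hle hm)
  · rw [← hI] at hgI
    exact ⟨(⟨g, hgI⟩ : Cfsg.isometryGroup F ⇑Q) ^ 2, PrimeGraph.sq_mem_Omega S.two
      (polarBilin_nondeg' hnd) hn _, by simp [pow_two]⟩
  · rw [← hI] at hgI hhI
    rw [OTens.omegaGL_eq, ← commutatorElement_def]
    exact Subgroup.commutator_mem_commutator hgI hhI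

end Sym

/-- The averaging step: without root elements an overgroup is monomial in the tensor sense. -/
def AvgStep (F : Type*) [Field F] [Fintype F] (k t : ℕ) : Prop :=
  ∀ (S : Sym F k) (M : Subgroup (GL (Fin t → Fin k) F)), S.Over M → S.Adm → S.NoRoot M →
    M ≤ tensorWreathStandard k t F

variable [Fintype F] [DecidableEq F]

/-- Stabilisers of orthogonal tensor powers are maximal in `Ω`, given the averaging step. -/
theorem power_maximal_of_avg {ι : Type} [Fintype ι] [DecidableEq ι] (q : QuadraticForm F (ι → F))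
    (hq : NDPolar q) (h2 : (2 : F) ≠ 0) (e : ι ≃ (Fin t → Fin k)) (P : GL ι F)
    {f₁ : (Fin k → F) → (Fin k → F) → F} (hf₁ : IsSymmetricForm f₁)
    (hT : IsTensorPowerFormStructure id (polar ⇑q) f₁ e P) (hk : 3 ≤ k) (ht : 2 ≤ t)
    (hn : 7 ≤ Fintype.card ι) (hbig : 5 ≤ Fintype.card F ∨ 4 ≤ k)
    (hplane : k = 4 → ∀ u r : Fin k → F, f₁ u u = 0 → f₁ r r = 0 → f₁ u r = 0 → u ≠ 0 → ∃ c : F, c • u = r)
    (havg : AvgStep F k t) :
    IsMaximalIn (omegaGL ⇑q) (tensorWreathSubgroup k t e P ⊓ omegaGL ⇑q) := by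
  obtain ⟨c, hc, hform⟩ := hT
  have hb := hf₁.bilinear
  have hfg : ∀ x w, f₁ x w = formOfGram id (gramMatrix f₁) x w := fun x w =>
    (Tensor.formOfGram_gram hb.add_left hb.smul_left hb.add_right hb.smul_right x w).symm
  have hdot : ∀ x w, f₁ x w = (gramMatrix f₁ *ᵥ w) ⬝ᵥ x := fun x w => by
    rw [hfg, formOfGram, dotProduct]
    refine Finset.sum_congr rfl fun a _ => ?_
    rw [Matrix.mulVec, dotProduct, Finset.sum_mul]
    exact Finset.sum_congr rfl fun b _ => by simp only [id]; ring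
  have hinj : Function.Injective (gramMatrix f₁).mulVec := by
    intro v w h
    by_contra hne
    obtain ⟨⟨x, hx⟩, -⟩ := hf₁.nondegenerate (v - w) (sub_ne_zero.2 hne)
    exact hx (by rw [hdot, Matrix.mulVec_sub, h, sub_self, zero_dotProduct])
  have hdet : IsUnit (gramMatrix f₁).det :=
    (Matrix.isUnit_iff_isUnit_det _).1 (Matrix.mulVec_injective_iff_isUnit.1 hinj)
  let S : Sym F k := ⟨gramMatrix f₁, (gramMatrix f₁)⁻¹, Matrix.ext fun a b => hf₁.symm _ _,
    Matrix.nonsing_inv_mul _ hdet, h2, hk⟩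
  have hbb : ∀ x w, S.bb x w = f₁ x w := fun x w => (hdot x w).symm
  have hadm : S.Adm := ⟨hbig, fun h4 u r hu hr hur hu0 =>
    hplane h4 u r (by rwa [← hbb]) (by rwa [← hbb]) (by rwa [← hbb]) hu0⟩
  let L : ((Fin t → Fin k) → F) →ₗ[F] (ι → F) :=
    Matrix.toLin' (P : Matrix ι ι F) ∘ₗ LinearMap.funLeft F F e
  have hLz : ∀ z, L z = (P : Matrix ι ι F) *ᵥ (z ∘ e) := fun z => by
    simp [L, Matrix.toLin'_apply, LinearMap.funLeft]
  have hsurj : Function.Surjective L := fun x => ⟨(((P⁻¹ : GL ι F) : Matrix ι ι F) *ᵥ x) ∘ e.symm, by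
    rw [hLz, Function.comp_assoc, Equiv.symm_comp_self, Function.comp_id, gl_mulVec_inv_mulVec]⟩
  have hinjL : Function.Injective L := fun x y h => by
    rw [hLz, hLz] at h
    exact e.surjective.injective_comp_right (gl_mulVec_injective P h)
  let Q₀ : QuadraticForm F ((Fin t → Fin k) → F) := q.comp L
  have hpol₀ : ∀ z z', polar Q₀ z z' = polar q (L z) (L z') := fun z z' => by
    simp [Q₀, QuadraticMap.polar]
  have hpol : ∀ x y, polar Q₀ x y = c * S.bV x y := fun x y => by
    rw [hpol₀, hLz, hLz, hform]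
    congr 1
    simp only [Sym.bV, dotProduct, Matrix.mulVec, pmat_apply, Finset.sum_mul, id, S]
    exact Finset.sum_congr rfl fun a _ => Finset.sum_congr rfl fun b _ => by ring
  have hnd : NDPolar Q₀ := fun x hx => hinjL (by
    rw [map_zero]
    refine hq _ fun w => ?_
    obtain ⟨w', rfl⟩ := hsurj w
    rw [← hpol₀]; exact hx w')
  set Φ : GL (Fin t → Fin k) F ≃* GL ι F := (glReindex e.symm).trans (MulAut.conj P) with hΦ
  have hΦL : ∀ g z, (Φ g : Matrix ι ι F) *ᵥ L z = L ((g : Matrix _ _ F) *ᵥ z) := fun g z => by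
    rw [hLz, hLz]
    change ((P * glReindex e.symm g * P⁻¹ : GL ι F) : Matrix ι ι F) *ᵥ _ = _
    rw [gl_mulVec_mul, gl_mulVec_mul, gl_inv_mulVec_mulVec]
    congr 1
    show (g.val.submatrix e.symm.symm e.symm.symm) *ᵥ (z ∘ e) = _
    rw [Matrix.submatrix_mulVec_equiv]
    simp [Function.comp_assoc]
  have hI : (Cfsg.isometryGroup F ⇑Q₀).map Φ.toMonoidHom = Cfsg.isometryGroup F ⇑q := by
    refine le_antisymm ?_ fun g hg => ?_
    · rintro _ ⟨m, hm, rfl⟩ u -
      show q ((Φ m : Matrix ι ι F) *ᵥ u) = q u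
      obtain ⟨z, rfl⟩ := hsurj u
      rw [hΦL]
      exact hm z 0
    · refine ⟨Φ.symm g, fun u _ => ?_, Φ.apply_symm_apply g⟩
      show q (L ((Φ.symm g : GL _ F).val *ᵥ u)) = q (L u)
      rw [← hΦL, Φ.apply_symm_apply]
      exact hg _ 0
  have hΩ : (omegaGL ⇑Q₀).map Φ.toMonoidHom = omegaGL ⇑q := by
    rw [OTens.omegaGL_eq, OTens.omegaGL_eq, Subgroup.map_commutator, hI]
  have hΩmem : ∀ m, Φ m ∈ omegaGL ⇑q ↔ m ∈ omegaGL ⇑Q₀ := fun m => by
    rw [← hΩ]
    exact Subgroup.mem_map_iff_mem Φ.injective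
  have hstd : ∀ g, Φ g ∈ tensorWreathSubgroup k t e P ↔ g ∈ tensorWreathStandard k t F := fun g => by
    rw [hΦ, tensorWreathSubgroup, MulEquiv.trans_apply]
    exact (Subgroup.mem_map_iff_mem (MulAut.conj P).injective).trans
      (Subgroup.mem_map_iff_mem (glReindex e.symm).injective)
  have hn₀ : 7 ≤ Fintype.card (Fin t → Fin k) := by rwa [← Fintype.card_congr e]
  refine isMaximalIn_of inf_le_right ?_ ?_
  · obtain ⟨h, hh, hhn⟩ := Sym.exists_not_std (S := S) hc hpol hnd ht
    exact ⟨Φ h, (hΩmem h).2 hh, fun hm => hhn ((hstd h).1 hm.1)⟩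
  intro M hHM hMK g hgM hgH
  set M₀ := M.comap Φ.toMonoidHom with hM₀
  have hle : M₀ ≤ omegaGL ⇑Q₀ := fun m hm => (hΩmem m).1 (hMK hm)
  have H : S.Over M₀ := Sym.over_of_omega hc hpol hnd (by omega) hle fun m hm hs =>
    hHM ⟨(hstd m).2 hs, (hΩmem m).2 hm⟩
  have hg₀ : Φ.symm g ∈ M₀ := by
    rw [hM₀, Subgroup.mem_comap, MulEquiv.coe_toMonoidHom, Φ.apply_symm_apply]; exact hgM
  by_cases hno : S.NoRoot M₀
  · exact absurd ⟨Φ.apply_symm_apply g ▸ (hstd _).2 (havg S M₀ H hadm hno hg₀), hMK hgM⟩ hgH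
  · intro y hy
    have h := Sym.omega_le_of_root H hadm ht hn₀ hc hpol hnd hle hno
      (show Φ.symm y ∈ omegaGL ⇑Q₀ from (hΩmem _).1 (by rw [Φ.apply_symm_apply]; exact hy))
    rwa [hM₀, Subgroup.mem_comap, MulEquiv.coe_toMonoidHom, Φ.apply_symm_apply] at h

/-- The clause for a tensor power in odd dimension. -/
theorem odd_maximal_of_avg (hodd : Odd (Fintype.card F)) {ι : Type} [Fintype ι] [DecidableEq ι]
    (q : QuadraticForm F (ι → F)) (hq : NDPolar q) (hι : Odd (Fintype.card ι)) (hn : 7 ≤ Fintype.card ι)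
    (hk : 3 ≤ k) (ht : 2 ≤ t) (hex : ¬ (Fintype.card F = 3 ∧ k = 3)) (e : ι ≃ (Fin t → Fin k)) (P : GL ι F)
    {f₁ : (Fin k → F) → (Fin k → F) → F} (hf₁ : IsSymmetricForm f₁)
    (hT : IsTensorPowerFormStructure id (polar ⇑q) f₁ e P) (havg : AvgStep F k t) :
    IsMaximalIn (omegaGL ⇑q) (tensorWreathSubgroup k t e P ⊓ omegaGL ⇑q) := by
  rw [Nat.odd_iff] at hodd
  have h2 : (2 : F) ≠ 0 := Ring.two_ne_zero fun h => by
    have := FiniteField.even_card_of_char_two h
    omega
  have hko : Odd k := by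
    rw [Fintype.card_congr e, Fintype.card_fun, Fintype.card_fin, Fintype.card_fin, Nat.odd_pow_iff (by omega)] at hι
    exact hι
  have := Fintype.one_lt_card (α := F)
  refine power_maximal_of_avg q hq h2 e P hf₁ hT hk ht hn (by omega) (fun h4 => ?_) havg
  subst h4
  exact absurd hko (by decide)

/-- The clause for a tensor power of plus type in even dimension. -/
theorem even_maximal_of_avg (hodd : Odd (Fintype.card F)) {n : ℕ} (hn : 13 ≤ n) (Q : (Fin n → F) → F)
    (hQ : IsNondegenerateQuadraticForm Q) (ht : 2 ≤ t) (e : Fin n ≃ (Fin t → Fin k)) (P : GL (Fin n) F)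
    {f₁ : (Fin k → F) → (Fin k → F) → F} (hf₁ : IsSymmetricForm f₁)
    (hsize : (6 ≤ k ∧ IsPlusTypeOn (fun v => f₁ v v) ⊤) ∨ (4 ≤ k ∧ ¬ IsPlusTypeOn (fun v => f₁ v v) ⊤))
    (hT : IsTensorPowerFormStructure id (polar Q) f₁ e P) (havg : AvgStep F k t) :
    IsMaximalIn (omegaGL Q) (tensorWreathSubgroup k t e P ⊓ omegaGL Q) := by
  rw [Nat.odd_iff] at hodd
  have h2 : (2 : F) ≠ 0 := Ring.two_ne_zero fun h => by
    have := FiniteField.even_card_of_char_two h
    omega
  refine power_maximal_of_avg (OmE.qf Q hQ) (OmE.ndPolar_qf Q hQ) h2 e P hf₁ hT (by omega) ht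
    (by rw [Fintype.card_fin]; omega) (by omega) (fun h4 u r hu hr hur hu0 => ?_) havg
  by_contra hcon
  push Not at hcon
  rcases hsize with ⟨h6, -⟩ | ⟨-, hm⟩
  · omega
  · exact hm (OTens.isPlusTypeOn_of_plane hf₁ h4 hu hr hur hu0 hcon)

end CfsgLib.ClassicalMax.OWr
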