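/-
Averaging over the cosets of the wreath group: without root elements every member lies in it.
-/
import Cfsg.Agent.Lib.ClassicalMax.OrthWreath.Avg
set_option autoImplicit false
set_option linter.unusedSectionVars false
set_option linter.unusedVariables false
set_option linter.unusedSimpArgs false

namespace CfsgLib.ClassicalMax.OWr

open Matrix Cfsg.Geo
open CfsgLib.ClassicalMax.TWreath

variable {F : Type*} [Field F] {k t : ℕ}

namespace Sym

variable {S : Sym F k} [Fintype F] {M : Subgroup (GL (Fin t → Fin k) F)} (H : S.Over M) (hadm : S.Adm) (hno : S.NoRoot M)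
include H hadm hno

/-- The average is the projection on skew maps. -/
theorem avg_skew (ht : 0 < t) {X : Matrix (Fin t → Fin k) (Fin t → Fin k) F} (hX : S.adjB X = -X) :
    avg M X = proj X := by
  classical
  set Δ := avg M - proj (F := F) (t := t) (k := k) with hΔ
  suffices h : ∀ A : Fin t → Matrix (Fin k) (Fin k) F, Δ (pmat A - pmat fun l => S.adj (A l)) = 0 by
    have e : Δ ∘ₗ (LinearMap.id - S.adjB) = 0 := ext_pmat fun A => by
      show Δ (pmat A - S.adjB (pmat A)) = 0
      rw [S.adjB_pmat, h]
    have h2 := LinearMap.congr_fun e X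
    have h2' : Δ (X - S.adjB X) = 0 := h2
    rw [hX, sub_neg_eq_add, ← two_smul F, map_smul, smul_eq_zero, or_iff_right S.two, hΔ, LinearMap.sub_apply,
      sub_eq_zero] at h2'
    exact h2'
  have hskew : ∀ (A : Fin t → Matrix (Fin k) (Fin k) F) i, A i ∈ S.so → Δ (pmat A) = 0 := by
    intro A i hi
    set B := Function.update A i 1
    let V : Submodule F (Matrix (Fin k) (Fin k) F) := LinearMap.ker (Δ ∘ₗ (LinearMap.mulRight F (pmat B)) ∘ₗ (slot i).toLinearMap)
    have hV : S.so ≤ V := by
      refine so_le_of_radicals fun p w hw => ?_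
      have haniso : ∀ w, p.InW w → S.Q w ≠ 0 → S.N p.e w ∈ V := fun w hw hQ => by
        rw [LinearMap.mem_ker]
        show Δ (slot i (S.N p.e w) * pmat B) = 0
        rw [hΔ, LinearMap.sub_apply, sub_eq_zero]
        exact avg_radical H hadm hno ht i p hw hQ (Function.update_self i _ _)
      by_cases hQ : S.Q w = 0
      · obtain ⟨a, ha, hQa⟩ := p.exists_aniso
        by_cases h1 : S.Q (w + a) = 0
        · have h2 : S.Q (w + -a) ≠ 0 := fun h2 => hQa (by
            rw [S.Q_add, hQ] at h1
            rw [S.Q_add, hQ, S.Q_neg, S.bb_neg_right] at h2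
            exact (mul_eq_zero.1 (by linear_combination h1 + h2 : (2 : F) * S.Q a = 0)).resolve_left S.two)
          have := V.add_mem (haniso _ (hw.add ha.neg) h2) (haniso a ha hQa)
          rwa [← S.N_add, neg_add_cancel_right] at this
        · have := V.sub_mem (haniso _ (hw.add ha) h1) (haniso a ha hQa)
          rwa [S.N_add, add_sub_cancel_right] at this
      · exact haniso w hw hQ
    have := LinearMap.mem_ker.1 (hV hi)
    simp only [LinearMap.comp_apply, AlgHom.toLinearMap_apply, LinearMap.mulRight_apply] at this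
    rwa [slot_mul_pmat, show B i = 1 from Function.update_self i _ _, mul_one, Function.update_idem,
      Function.update_eq_self] at this
  suffices hs : ∀ (s : Finset (Fin t)) (A : Fin t → Matrix (Fin k) (Fin k) F),
      (∀ l, l ∉ s → A l ∈ S.so ∨ S.adj (A l) = A l) → Δ (pmat A - pmat fun l => S.adj (A l)) = 0 from
    fun A => hs Finset.univ A fun l hl => absurd (Finset.mem_univ l) hl
  intro s
  induction s using Finset.induction with
  | empty =>
    intro A hA
    by_cases h : ∃ i, A i ∈ S.so
    · obtain ⟨i, hi⟩ := h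
      rw [map_sub, hskew A i hi, hskew (fun l => S.adj (A l)) i (by
        show S.adj (A i) ∈ S.so
        rw [S.mem_so.1 hi]; exact S.so.neg_mem hi), sub_zero]
    · push Not at h
      rw [show (fun l => S.adj (A l)) = A from funext fun l =>
        (hA l (Finset.notMem_empty l)).resolve_left (h l), sub_self, map_zero]
  | insert m s hm ih =>
    intro A hA
    have h2i : (2 : F)⁻¹ + 2⁻¹ = 1 := by rw [← two_mul, mul_inv_cancel₀ S.two]
    set A1 := Function.update A m ((2⁻¹ : F) • (A m + S.adj (A m))) with hA1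
    set A2 := Function.update A m ((2⁻¹ : F) • (A m - S.adj (A m))) with hA2
    have hsum : A m = (2⁻¹ : F) • (A m + S.adj (A m)) + (2⁻¹ : F) • (A m - S.adj (A m)) := by
      conv_lhs => rw [← one_smul F (A m), ← h2i]
      module
    have e1 : pmat A = pmat A1 + pmat A2 := by
      rw [hA1, hA2, ← pmat_update_add, ← hsum, Function.update_eq_self]
    have hadjupd : ∀ Y, (fun l => S.adj (Function.update A m Y l)) =
        Function.update (fun l => S.adj (A l)) m (S.adj Y) := fun Y => funext fun l => by
      rcases eq_or_ne l m with rfl | hl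
      · simp
      · simp [Function.update_of_ne hl]
    have e2 : pmat (fun l => S.adj (A l)) = pmat (fun l => S.adj (A1 l)) + pmat (fun l => S.adj (A2 l)) := by
      rw [hA1, hA2, hadjupd, hadjupd, ← pmat_update_add, ← S.adj_add, ← hsum,
        Function.update_eq_self m (fun l => S.adj (A l))]
    have hmem : ∀ Y, (Y ∈ S.so ∨ S.adj Y = Y) → ∀ l, l ∉ s →
        Function.update A m Y l ∈ S.so ∨ S.adj (Function.update A m Y l) = Function.update A m Y l := by
      intro Y hY l hl
      rcases eq_or_ne l m with rfl | hlm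
      · rwa [Function.update_self]
      · rw [Function.update_of_ne hlm]; exact hA l (by simp [hlm, hl])
    have i1 := ih A1 (hmem _ (Or.inr (by rw [S.adj_smul, S.adj_add, S.adj_adj, add_comm])))
    have i2 := ih A2 (hmem _ (Or.inl (by
      rw [S.mem_so, S.adj_smul, S.adj_sub, S.adj_adj, ← smul_neg, neg_sub])))
    rw [e1, e2, show pmat A1 + pmat A2 - (pmat (fun l => S.adj (A1 l)) + pmat fun l => S.adj (A2 l)) =
      (pmat A1 - pmat fun l => S.adj (A1 l)) + (pmat A2 - pmat fun l => S.adj (A2 l)) by abel, map_add, i1, i2,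
      add_zero]

/-- Without root elements every member lies in the wreath group. -/
theorem mem_std_of_over (ht : 0 < t) {m : GL (Fin t → Fin k) F} (hm : m ∈ M) :
    m ∈ tensorWreathStandard k t F := by
  classical
  have hk := S.three_le
  have hplane : k = 4 → S.NoPlane := hadm.2
  have hnp3 : k = 3 → S.NoPlane := fun h => noPlane_three h
  set C : Matrix (Fin t → Fin k) (Fin t → Fin k) F → Matrix (Fin t → Fin k) (Fin t → Fin k) F :=
    fun X => m.val * X * (m⁻¹).val with hC
  have hCmul : ∀ X Y, C X * C Y = C (X * Y) := fun X Y => by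
    simp only [hC, mul_assoc]
    rw [← mul_assoc (m⁻¹).val m.val, Units.inv_mul, one_mul]
  -- the slots of skew maps are permuted up to sums
  have himg : ∀ (g : GL (Fin t → Fin k) F), g ∈ M → ∀ i, ∀ Y ∈ S.so, ∃ Y' : Fin t → Matrix (Fin k) (Fin k) F,
      (∀ l, Y' l ∈ S.so) ∧ g.val * slot i Y * (g⁻¹).val = ∑ l, slot l (Y' l) := by
    intro g hg i Y hY
    obtain ⟨p⟩ := exists_pr S
    obtain ⟨d, hd, hQd⟩ := p.exists_aniso
    set E0 := (S.bb d d)⁻¹ • S.P d with hE0
    have hdd : S.bb d d ≠ 0 := by rw [S.bb_self]; exact mul_ne_zero S.two hQd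
    have htr : E0.trace = 1 := by
      rw [hE0, Matrix.trace_smul, P, op, Matrix.trace_vecMulVec, dotProduct_comm, smul_eq_mul]
      exact inv_mul_cancel₀ hdd
    set v := pmat (Function.update (fun _ : Fin t => E0) i Y) with hv
    have hskew : S.adjB v = -v := by
      rw [hv, S.adjB_pmat, ← neg_one_smul F (pmat _), pmat_smul_one _ i, Function.update_self, neg_one_smul,
        ← S.mem_so.1 hY, Function.update_idem]
      congr 1
      funext l
      rcases eq_or_ne l i with rfl | hl
      · simp
      · simp [Function.update_of_ne hl, hE0, S.adj_smul, S.adj_P]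
    have hpv : proj v = slot i Y := by
      rw [hv, proj_pmat, Finset.sum_eq_single i (fun j _ hj => ?_) (by simp), Function.update_self,
        Finset.prod_eq_one (fun l hl => by rw [Function.update_of_ne (Finset.ne_of_mem_erase hl), htr]), one_smul]
      rw [Finset.prod_eq_zero (Finset.mem_erase.2 ⟨hj.symm, Finset.mem_univ i⟩)
        (by rw [Function.update_self]; exact trace_so hY), zero_smul]
    have hgskew : S.adjB (g.val * v * (g⁻¹).val) = -(g.val * v * (g⁻¹).val) := by
      rw [S.adjB_conj (H.le hg), hskew, mul_neg, neg_mul]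
    have h1 := avg_conj ⟨g, hg⟩ v
    rw [avg_skew H hadm hno ht hgskew, avg_skew H hadm hno ht hskew, hpv, proj_apply] at h1
    exact ⟨fun l => ptr l (g.val * v * (g⁻¹).val), fun l => by
      rw [S.mem_so, ← ptr_adjB, hgskew, map_neg], h1.symm⟩
  choose φ hφso hφ using fun i Y hY => himg m hm i Y hY
  have huniq : ∀ {Y Y' : Fin t → Matrix (Fin k) (Fin k) F}, (∀ l, Y l ∈ S.so) → (∀ l, Y' l ∈ S.so) →
      ∑ l, slot l (Y l) = ∑ l, slot l (Y' l) → ∀ l, Y l = Y' l := fun {Y Y'} hY hY' e l => by
    refine sub_eq_zero.1 (eq_zero_of_slots (S := S) (fun n => S.so.sub_mem (hY n) (hY' n)) ?_ l)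
    simp only [map_sub, Finset.sum_sub_distrib, e, sub_self]
  have hone : ∀ i l, (∃ Y, ∃ hY : Y ∈ S.so, φ i Y hY l ≠ 0) → ∀ l', l' ≠ l → ∀ Y (hY : Y ∈ S.so), φ i Y hY l' = 0 := by
    rintro i l ⟨Y1, hY1, hne⟩ l' hl'
    -- a map sent into one slot
    obtain ⟨Z, hZ, hW⟩ : ∃ Z ∈ S.so, br Z (φ i Y1 hY1 l) ≠ 0 := by
      by_contra hcon
      push Not at hcon
      refine hne (eq_zero_of_br_br (hφso i Y1 hY1 l) fun p w hw => ?_)
      rw [hcon _ (S.N_mem_so p.e w), map_zero]
    -- the preimage of a slot
    obtain ⟨Z', hZ', hZe⟩ := himg m⁻¹ (M.inv_mem hm) l Z hZ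
    rw [inv_inv] at hZe
    set Y0 := br (Z' i) Y1 with hY0d
    have hY0 : Y0 ∈ S.so := S.br_mem_so (hZ' i) hY1
    have hC0 : C (slot i Y0) = slot l (br Z (φ i Y1 hY1 l)) := by
      have e1 : (∑ n, slot n (Z' n)) * slot i Y1 - slot i Y1 * (∑ n, slot n (Z' n)) = slot i Y0 := by
        rw [Finset.sum_mul, Finset.mul_sum, ← Finset.sum_sub_distrib, Finset.sum_eq_single i (fun n _ hn => by
          rw [slot_comm hn, sub_self]) (by simp), ← map_mul, ← map_mul, ← map_sub]
        rfl
      have hcZ : C (∑ n, slot n (Z' n)) = slot l Z := by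
        rw [← hZe, hC]
        simp only [← mul_assoc, Units.mul_inv, one_mul]
        rw [mul_assoc, Units.mul_inv, mul_one]
      have hCsub : ∀ U V, C (U - V) = C U - C V := fun U V => by simp only [hC, mul_sub, sub_mul]
      rw [← e1, hCsub, ← hCmul, ← hCmul, hcZ,
        show C (slot i Y1) = ∑ n, slot n (φ i Y1 hY1 n) from hφ i Y1 hY1, Finset.sum_mul, Finset.mul_sum,
        ← Finset.sum_sub_distrib, Finset.sum_eq_single l (fun n _ hn => by rw [slot_comm hn, sub_self]) (by simp),
        ← map_mul, ← map_mul, ← map_sub]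
      rfl
    -- the kernel at the other slot is an ideal
    let I : Submodule F (Matrix (Fin k) (Fin k) F) :=
      { carrier := {Y | ∃ hY : Y ∈ S.so, φ i Y hY l' = 0}
        zero_mem' := ⟨S.so.zero_mem, huniq (hφso i 0 _) (fun _ => S.so.zero_mem) (by
          rw [← hφ]; simp) l'⟩
        add_mem' := by
          rintro a b ⟨ha, ha'⟩ ⟨hb, hb'⟩
          refine ⟨S.so.add_mem ha hb, ?_⟩
          rw [huniq (hφso i (a + b) _) (Y' := fun n => φ i a ha n + φ i b hb n)
            (fun n => S.so.add_mem (hφso i a ha n) (hφso i b hb n)) (by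
              rw [← hφ, map_add, mul_add, add_mul, hφ i a ha, hφ i b hb]
              simp only [map_add, Finset.sum_add_distrib]) l', ha', hb', add_zero]
        smul_mem' := by
          rintro r a ⟨ha, ha'⟩
          refine ⟨S.so.smul_mem r ha, ?_⟩
          rw [huniq (hφso i (r • a) _) (Y' := fun n => r • φ i a ha n)
            (fun n => S.so.smul_mem r (hφso i a ha n)) (by
              rw [← hφ, map_smul, mul_smul_comm, smul_mul_assoc, hφ i a ha, Finset.smul_sum]
              simp only [map_smul]) l', ha', smul_zero] }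
    have hI0 : Y0 ∈ I := by
      refine ⟨hY0, ?_⟩
      have := huniq (hφso i Y0 hY0) (Y' := Function.update 0 l (br Z (φ i Y1 hY1 l))) (fun n => by
        rcases eq_or_ne n l with rfl | hn
        · rw [Function.update_self]; exact S.br_mem_so hZ (hφso i Y1 hY1 n)
        · rw [Function.update_of_ne hn]; exact S.so.zero_mem) (by
        rw [← hφ i Y0 hY0, show m.val * slot i Y0 * (m⁻¹).val = C (slot i Y0) from rfl, hC0,
          Finset.sum_eq_single l (fun n _ hn => by rw [Function.update_of_ne hn, Pi.zero_apply, map_zero]) (by simp),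
          Function.update_self]) l'
      rw [this, Function.update_of_ne hl', Pi.zero_apply]
    have hY00 : Y0 ≠ 0 := fun h0 => hW (slot_injective l (by
      rw [← hC0, h0, map_zero, map_zero]; show m.val * 0 * (m⁻¹).val = 0; rw [mul_zero, zero_mul]))
    have hle := so_le_of_ideal hplane hnp3 (I := I) (fun Y hY => hY.1) (fun Y hY W hW => by
      obtain ⟨hY, hY'⟩ := hY
      refine ⟨S.br_mem_so hW hY, ?_⟩
      rw [huniq (hφso i _ _) (Y' := fun n => br (φ i W hW n) (φ i Y hY n))
        (fun n => S.br_mem_so (hφso i W hW n) (hφso i Y hY n)) (by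
          rw [← hφ, ← slots_bracket, ← hφ, ← hφ, br_apply, map_sub, map_mul, map_mul, mul_sub, sub_mul]
          exact (congrArg₂ (· - ·) (hCmul _ _) (hCmul _ _)).symm) l', hY', map_zero]) hI0 hY00
    exact fun Y hY => (hle hY).2
  have hπ : ∀ i, ∃ j, ∀ Y ∈ S.so, ∃ Y', C (slot i Y) = slot j Y' := by
    intro i
    by_cases h : ∃ l Y, ∃ hY : Y ∈ S.so, φ i Y hY l ≠ 0
    · obtain ⟨l, hl⟩ := h
      refine ⟨l, fun Y hY => ⟨φ i Y hY l, ?_⟩⟩
      show m.val * _ * _ = _
      rw [hφ i Y hY, Finset.sum_eq_single l (fun n _ hn => by rw [hone i l hl n hn Y hY, map_zero]) (by simp)]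
    · push Not at h
      refine ⟨i, fun Y hY => ⟨0, ?_⟩⟩
      show m.val * _ * _ = _
      rw [hφ i Y hY, map_zero]
      exact Finset.sum_eq_zero fun n _ => by rw [h n Y hY, map_zero]
  choose π hπ using hπ
  have hfull : ∀ i X, ∃ X', C (slot i X) = slot (π i) X' := by
    intro i
    let A : Submodule F (Matrix (Fin k) (Fin k) F) :=
      { carrier := {X | ∃ X', C (slot i X) = slot (π i) X'}
        zero_mem' := ⟨0, by rw [map_zero, map_zero]; show m.val * 0 * (m⁻¹).val = 0; simp⟩
        add_mem' := by
          rintro a b ⟨a', ha⟩ ⟨b', hb⟩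
          exact ⟨a' + b', by rw [map_add, map_add, ← ha, ← hb, hC]; simp only [mul_add, add_mul]⟩
        smul_mem' := by
          rintro r a ⟨a', ha⟩
          exact ⟨r • a', by rw [map_smul, map_smul, ← ha, hC]; simp only [mul_smul_comm, smul_mul_assoc]⟩ }
    exact fun X => mem_of_mul_closed (A := A) (S := S) (fun Y hY => hπ i Y hY) (by
      rintro a ⟨a', ha⟩ b ⟨b', hb⟩
      exact ⟨a' * b', by rw [map_mul, map_mul, ← hCmul, ha, hb]⟩) X
  choose θ hθ using hfull
  have hinj : Function.Injective π := by
    intro i i' e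
    by_contra hne
    have hsurj : Function.Surjective (θ i) := by
      have hi : Function.Injective (θ i) := fun a b h => slot_injective i (by
        have h1 : C (slot i a) = C (slot i b) := by rw [hθ, hθ, h]
        simp only [hC] at h1
        exact (Units.mul_right_inj m).1 ((Units.mul_left_inj m⁻¹).1 h1))
      exact Finite.injective_iff_surjective.1 hi
    let a : Fin k := ⟨0, by omega⟩
    let b : Fin k := ⟨1, by omega⟩
    obtain ⟨X, hX⟩ := hsurj (θ i' (Matrix.single a b 1))
    have h1 : C (slot i X) = C (slot i' (Matrix.single a b 1)) := by rw [hθ, hθ, hX, e]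
    simp only [hC] at h1
    exact hne (eq_of_slot_eq (by omega) ((Units.mul_right_inj m).1 ((Units.mul_left_inj m⁻¹).1 h1)).symm).symm
  set σ := Equiv.ofBijective π (Finite.injective_iff_bijective.1 hinj)
  exact mem_std_of_slots (by omega) ht σ fun l X => ⟨θ l X, hθ l X⟩

end Sym

end CfsgLib.ClassicalMax.OWr
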