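/-
Stabilisers of orthogonal tensor powers are maximal in `Ω`.
-/
import Cfsg.Agent.Lib.ClassicalMax.OrthWreath.Glue
import Cfsg.Agent.Lib.ClassicalMax.OrthWreath.Normal
set_option autoImplicit false

namespace CfsgLib.ClassicalMax.OWr

variable {F : Type*} [Field F] [Fintype F] {k t : ℕ}

/-- The averaging step holds. -/
theorem avgStep (ht : 0 < t) : AvgStep F k t :=
  fun _ _ H hadm hno _ hm => Sym.mem_std_of_over H hadm hno ht hm

end CfsgLib.ClassicalMax.OWr
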